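import Cfsg.Agent.Lib.Block.CyclicPairs
import Cfsg.Agent.Lib.Block.CyclicDefect.Pairs

/-!
# Chains of pairs seen in a centralizer

An inclusion of pairs of `G` whose centralizers lie in `T` is one of `T`.  For a pair `(R, eR)` above
`(Q, f)` on a defect group of `f`, the parts of a character of `G` at an element whose cyclic group
contains `Q` are those of its restriction to `C(Q)`, seen in the block `f`.
-/

open Finset MonoidAlgebra
open scoped ComplexConjugate

set_option autoImplicit false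
set_option linter.unusedSectionVars false

namespace CfsgLib.Block.Tame

open Cfsg CfsgLib CfsgLib.Block CfsgLib.Block.CyclicDefect
open scoped Pair

universe u

variable {p : ℕ} {M : Ideal AlgInt} [M.IsMaximal] {G : Type u} [Group G] [Fintype G] [DecidableEq G]
  {Q R P : Subgroup G} {T : Subgroup G}

theorem coeff_image_cqInT (hC : CQ Q ≤ T) (hQ : Q ≤ T) (f : Set (IrrCharacter (CQ Q))) (t : T) :
    subgroupBlockCoeff (CQ (Q.subgroupOf T)) (irrEquiv (cqInT hC hQ) '' f) t =
      subgroupBlockCoeff (CQ Q) f (t : G) := by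
  classical
  by_cases h : (t : G) ∈ CQ Q
  · rw [show t = ((cqInT hC hQ ⟨(t : G), h⟩ : CQ (Q.subgroupOf T)) : T) from rfl,
      subgroupBlockCoeff_coe, blockCoeff_image_irrEquiv]
    exact (subgroupBlockCoeff_coe f ⟨(t : G), h⟩).symm
  · rw [subgroupBlockCoeff_of_notMem _ h,
      subgroupBlockCoeff_of_notMem _ fun h' => h ((cqInT hC hQ).symm ⟨t, h'⟩).2]

/-- A normal inclusion seen in `T`. -/
theorem nSub_inT (hM : IsPModular p M) {f : Set (IrrCharacter (CQ Q))}
    {g : Set (IrrCharacter (CQ R))} (h : NSub p M Q f R g) (hC : CQ Q ≤ T) (hR : R ≤ T) :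
    NSub p M (Q.subgroupOf T) (irrEquiv (cqInT hC (h.le.trans hR)) '' f) (R.subgroupOf T)
      (irrEquiv (cqInT ((cq_mono h.le).trans hC) hR) '' g) := by
  classical
  set hQ : Q ≤ T := h.le.trans hR
  set hCR : CQ R ≤ T := (cq_mono h.le).trans hC
  have hle : Q.subgroupOf T ≤ R.subgroupOf T := fun u hu => h.le hu
  have hbf := isPBlock_image_irrEquiv (cqInT hC hQ) h.pairL.2
  refine ⟨⟨h.pairL.1.of_equiv (Subgroup.subgroupOfEquivOfLe hQ).symm, hbf⟩,
    ⟨h.pairR.1.of_equiv (Subgroup.subgroupOfEquivOfLe hR).symm,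
      isPBlock_image_irrEquiv _ h.pairR.2⟩, hle, ?_, ?_, ?_⟩
  · intro r hr
    rw [Subgroup.mem_normalizer_iff]
    exact fun u => Subgroup.mem_normalizer_iff.mp (h.norm hr) (u : G)
  · intro s hs u
    rw [coeff_eG_inT, coeff_eG_inT]
    exact h.stab (s : G) hs u
  · rintro _ ⟨ξ, hξ, rfl⟩
    refine (brauerOmega_sub_iff hM hle hbf _).mp ?_
    convert (brauerOmega_sub_iff hM h.le h.pairL.2 ξ).mpr (h.one ξ hξ) using 2
    simp only [brauerOmega, finsum_eq_sum_of_fintype]
    refine (Fintype.sum_equiv (cqInT hCR hR).toEquiv _ _ fun c => ?_).symm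
    simp only [irrEquiv_apply, MulEquiv.toEquiv_eq_coe, EquivLike.coe_coe,
      MulEquiv.symm_apply_apply, ← map_one (cqInT hCR hR)]
    rw [coeff_image_cqInT]
    rfl

/-- An inclusion seen in `T`. -/
theorem subpairLE_inT (hM : IsPModular p M) {f : Set (IrrCharacter (CQ Q))}
    {g : Set (IrrCharacter (CQ R))} (h : SubpairLE p M Q f R g) (hC : CQ Q ≤ T) (hR : R ≤ T) :
    SubpairLE p M (Q.subgroupOf T) (irrEquiv (cqInT hC ((SubpairLE.le h).trans hR)) '' f)
      (R.subgroupOf T) (irrEquiv (cqInT ((cq_mono (SubpairLE.le h)).trans hC) hR) '' g) := by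
  suffices key : ∀ {a b : BrauerPairIdx G}, Relation.ReflTransGen (NormalSubpairRel p M) a b →
      ∀ (ha : CQ a.1 ≤ T) (hb : b.1 ≤ T) (hab : a.1 ≤ b.1),
        Relation.ReflTransGen (NormalSubpairRel p M)
          (⟨a.1.subgroupOf T, irrEquiv (cqInT ha (hab.trans hb)) '' a.2⟩ : BrauerPairIdx T)
          ⟨b.1.subgroupOf T, irrEquiv (cqInT ((cq_mono hab).trans ha) hb) '' b.2⟩ from
    key h hC hR (SubpairLE.le h)
  intro a b h
  induction h using Relation.ReflTransGen.head_induction_on with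
  | refl => exact fun _ _ _ => Relation.ReflTransGen.refl
  | @head a c hac hcb ih =>
    intro ha hb hab
    have hn : NSub p M a.1 a.2 c.1 c.2 := (isNormalSubpair_iff hM).mp hac
    have hcb' : c.1 ≤ b.1 := SubpairLE.le (show SubpairLE p M c.1 c.2 b.1 b.2 from hcb)
    exact Relation.ReflTransGen.head
      ((isNormalSubpair_iff hM).mpr (nSub_inT hM hn ha (hcb'.trans hb)))
      (ih ((cq_mono hn.le).trans ha) hb hcb')

/-- A pair `(R, eR)` below the maximal one, on a defect group of the nilpotent block `f` of `C(Q)`. -/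
structure Setup (p : ℕ) (M : Ideal AlgInt) [M.IsMaximal] (B : Set (IrrCharacter G)) (P : Subgroup G)
    (e : Set (IrrCharacter (CQ P))) (Q R : Subgroup G) (f : Set (IrrCharacter (CQ Q)))
    (eR : Set (IrrCharacter (CQ R))) : Prop where
  hM : IsPModular p M
  hmax : IsMaximalBrauerPair p M B P e
  below : SubpairLE p M R eR P e
  sub : NSub p M Q f R eR
  cent : R ≤ CQ Q
  defect : IsDefectGroup p M f (R.subgroupOf (CQ Q))
  nil : IsNilpotentBlock p M f

namespace Setup

variable {B : Set (IrrCharacter G)} {e : Set (IrrCharacter (CQ P))} {f : Set (IrrCharacter (CQ Q))}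
  {eR : Set (IrrCharacter (CQ R))} (S : Setup p M B P e Q R f eR)
include S

/-- The element of `P` behind one of the defect group in `C(Q)`. -/
def inP (y : R.subgroupOf (CQ Q)) : P :=
  ⟨((y : CQ Q) : G), SubpairLE.le S.below y.2⟩

theorem maxC : IsMaximalBrauerPair p M f (R.subgroupOf (CQ Q))
    (irrEquiv (cqInT (cq_mono S.sub.le) S.cent) '' eR) := by
  haveI := Fintype.ofFinite (IrrCharacter (CQ Q))
  exact isMaximal_of_defect S.hM S.defect (isBrauerPairOf_inT S.hM S.sub.pairL.2 S.sub.pairL.2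
    (fun t => (subgroupBlockCoeff_coe f t).symm) (cq_mono S.sub.le) S.cent S.sub)

theorem coeff_low {y : R.subgroupOf (CQ Q)} (hQ : Q ≤ Subgroup.zpowers ((y : CQ Q) : G)) (x : CQ Q) :
    subgroupBlockCoeff (CQ (lowPair S.hM S.maxC.1.1 y).1) (lowPair S.hM S.maxC.1.1 y).2 x =
      subgroupBlockCoeff (CQ (lowPair S.hM S.hmax.1.1 (S.inP y)).1)
        (lowPair S.hM S.hmax.1.1 (S.inP y)).2 (x : G) := by
  classical
  set u : G := ((y : CQ Q) : G) with hu
  obtain ⟨g, -, hg⟩ := exists_subpairLE S.hM S.sub.pairR (Subgroup.zpowers u)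
    (Subgroup.zpowers_le.mpr y.2)
  have hGlow : lowPair S.hM S.hmax.1.1 (S.inP y) = ⟨Subgroup.zpowers u, g⟩ :=
    below_ext S.hM S.hmax.1.1 (lowPair_below S.hM S.hmax.1.1 _)
      (hg.trans S.below : SubpairLE p M _ g P e) rfl
  have hCu : CQ (Subgroup.zpowers u) ≤ CQ Q := cq_mono hQ
  have huC : Subgroup.zpowers u ≤ CQ Q := Subgroup.zpowers_le.mpr (y : CQ Q).2
  have hz : Subgroup.zpowers (y : CQ Q) = (Subgroup.zpowers u).subgroupOf (CQ Q) := by
    ext t
    simp only [Subgroup.mem_subgroupOf, Subgroup.mem_zpowers_iff, hu, Subtype.ext_iff,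
      SubgroupClass.coe_zpow]
  have hClow : lowPair S.hM S.maxC.1.1 y = ⟨(Subgroup.zpowers u).subgroupOf (CQ Q),
      irrEquiv (cqInT hCu huC) '' g⟩ :=
    below_ext S.hM S.maxC.1.1 (lowPair_below S.hM S.maxC.1.1 _)
      (subpairLE_inT S.hM hg hCu S.cent) hz
  rw [hGlow, hClow]
  exact coeff_image_cqInT hCu huC g x

variable [Fintype (IrrCharacter G)] [Fintype (IrrCharacter (CQ Q))]

open scoped Classical in
/-- The parts at an element whose cyclic group contains `Q`, in terms of the restriction. -/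
theorem secPart_restrict {y : R.subgroupOf (CQ Q)} (hQ : Q ≤ Subgroup.zpowers ((y : CQ Q) : G))
    (χ : IrrCharacter G) {s : CQ Q} (hs : s ∈ regC p (y : CQ Q)) :
    secPart χ ((y : CQ Q) : G) (lowPair S.hM S.hmax.1.1 (S.inP y)) (s : G) =
      ∑ θ ∈ Finset.univ.filter (fun θ : IrrCharacter (CQ Q) => θ ∈ f),
        (resMult χ θ : ℂ) * secPart θ (y : CQ Q) (lowPair S.hM S.maxC.1.1 y) s := by
  rw [secPart, ← Finset.sum_subset (Finset.subset_univ (Finset.univ.filter (fun t : G => t ∈ CQ Q)))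
      fun t _ ht => by
        simp only [Finset.mem_filter, Finset.mem_univ, true_and] at ht
        rw [subgroupBlockCoeff_of_notMem (lowPair S.hM S.hmax.1.1 (S.inP y)).2
          fun h => ht (cq_mono hQ h), zero_mul],
    Finset.sum_subtype (p := fun t => t ∈ CQ Q) _ (fun t => by simp),
    Finset.sum_subset (Finset.subset_univ (Finset.univ.filter (fun θ : IrrCharacter (CQ Q) => θ ∈ f)))
      (f := fun θ : IrrCharacter (CQ Q) =>
        (resMult χ θ : ℂ) * secPart θ (y : CQ Q) (lowPair S.hM S.maxC.1.1 y) s) fun θ _ hθ => by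
      rw [secPart_eq_zero_of_not_mem S.hM (by simpa using hθ)
        (exists_pElement_orderOf S.maxC.1.1 y S.hM.1)
        (mem_pairsAt.mpr ⟨lowPair_fst S.hM S.maxC.1.1 y,
          (lowPair_pairOf S.hM S.maxC y).1.2⟩) hs (lowPair_pairOf S.hM S.maxC y), mul_zero]]
  simp only [secPart, Finset.mul_sum]
  rw [Finset.sum_comm]
  refine Finset.sum_congr rfl fun t _ => ?_
  rw [← S.coeff_low hQ, ← Subgroup.coe_mul, ← Subgroup.coe_mul, res_eq_sum_resMult, Finset.mul_sum]
  exact Finset.sum_congr rfl fun θ _ => by ring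

end Setup

end CfsgLib.Block.Tame
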