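import Cfsg.Agent.Lib.Block.Tame.DihedralExclude
import Cfsg.Agent.Lib.Block.HeightCenter

/-!
# 2-blocks with dihedral defect group: the invariants

`k(B) = h + 3`, `1 ≤ l(B) ≤ 3`, four members of height zero and no height above one
(`DFrame.invariants`), with `4 * h` the order of the defect group.
-/

open Finset MonoidAlgebra
open scoped ComplexConjugate

set_option autoImplicit false
set_option linter.unusedSectionVars false

namespace CfsgLib.Block.Tame

open Cfsg CfsgLib CfsgLib.Block CfsgLib.Block.CyclicDefect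
open scoped Pair

universe u

variable {M : Ideal AlgInt} [M.IsMaximal] {G : Type u} [Group G] [Fintype G] [DecidableEq G]
  [Fintype (IrrCharacter G)] {B : Set (IrrCharacter G)} {P : Subgroup G}
  {e : Set (IrrCharacter (CQ P))} {σ τ : G} {h : ℕ}

namespace DFrame

variable (F : DFrame M B P e σ τ h)
  {f : Set (IrrCharacter (CQ (Subgroup.zpowers (σ ^ h))))}
  (S : Setup 2 M B P e (Subgroup.zpowers (σ ^ h)) P f e)
  [Fintype (IrrCharacter (CQ (Subgroup.zpowers (σ ^ h))))]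
include F S

open scoped Classical in
theorem not_special_cast {n : ℕ} (hn : n = 3) (hh : h = 4)
    (θ₀ : IrrCharacter (CQ (Subgroup.zpowers (σ ^ h)))) (hθ : S.Base θ₀)
    {ζ : ℂ} (hζ : IsPrimitiveRoot ζ (2 * h))
    (wh : ↥(Finset.univ.filter fun χ : IrrCharacter G => χ ∈ B) → ℤ)
    (w : Fin n → ↥(Finset.univ.filter fun χ : IrrCharacter G => χ ∈ B) → ℤ)
    (hJ : ∀ i : ↥(Finset.univ.filter fun χ : IrrCharacter G => χ ∈ B),
      F.gv S θ₀ (i : IrrCharacter G) h = (Config.fJ wh w i : ℂ))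
    (h1 : ∀ i : ↥(Finset.univ.filter fun χ : IrrCharacter G => χ ∈ B),
      F.gv S θ₀ (i : IrrCharacter G) 1 = -(wh i : ℂ) +
        ∑ j : Fin n, (w j i : ℂ) * (ζ ^ ((j : ℕ) + 1) + (ζ ^ ((j : ℕ) + 1))⁻¹))
    (hspec : Config.IsSpecial wh (fun j => w (Fin.cast hn.symm j))
      fun i => (charDegree ((i : IrrCharacter G) : G → ℂ) : ℤ)) : False := by
  subst hn
  exact F.not_special S hh θ₀ hθ hζ wh w hJ h1 hspec

open scoped Classical in
/-- The heights are read off from the values at the central involution. -/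
theorem height_cases {θ₀ : IrrCharacter (CQ (Subgroup.zpowers (σ ^ h)))} (hθ : S.Base θ₀)
    {χ : IrrCharacter G} (hχ : χ ∈ B) {z : ℤ} (hz : F.gv S θ₀ χ h = (z : ℂ))
    (hcases : z = 1 ∨ z = -1 ∨ z = 2 ∨ z = -2) :
    (blockHeight 2 B (χ : G → ℂ) = 0 ↔ z = 1 ∨ z = -1) ∧ blockHeight 2 B (χ : G → ℂ) ≤ 1 := by
  obtain ⟨k, -, hk⟩ := F.pres.pow2
  have := charP_resField F.hM
  have hJne := F.pres.sigma_h_ne
  have hC : ∀ t : G, t ∈ CQ (Subgroup.zpowers (σ ^ h)) ↔ Commute t (σ ^ h) :=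
    fun t => mem_cq_zpowers_iff
  have hpJ : ∃ j : ℕ, orderOf (σ ^ h) = 2 ^ j :=
    exists_pElement_orderOf F.hmax.1.1 (F.rot h) F.hM.1
  obtain ⟨j, hj⟩ := hpJ
  have hof : IsBrauerPairOf 2 M B (Subgroup.zpowers (σ ^ h)) f := by
    have h0 := lowPair_pairOf F.hM F.hmax (F.rot h)
    rw [F.lowPair_J S] at h0
    exact h0
  have hd : blockDefect 2 f = blockDefect 2 B := by rw [F.blockDefect_J S hk, F.blockDefect_eq hk]
  obtain ⟨L, hL, h0, hpos⟩ := exists_major_lift F.hM hj hC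
    ((isBrauerPairOf_zpowers_iff F.hM hof.2.1 ⟨j, hj⟩).mp hof) hd hχ hχ
  have hsq : secContrib 2 (σ ^ h) (CQ (Subgroup.zpowers (σ ^ h))) f χ χ = (z : ℂ) * z := by
    have h2 := S.gfun_mul_conj hθ (y := F.elem S h) (F.J_mem_zpowers S hJne) χ χ
    rw [← gv, hz, map_intCast, F.inP_elem, F.lowPair_J S, F.card_centralizer_elem S hJne,
      if_pos dvd_rfl] at h2
    rw [secContrib_self_eq_secSum F.hM S.sub.pairL.2 (fun t => (hC t).mp t.2), h2,
      F.blockDefect_J S hk]
    have h4 : ((4 * h : ℕ) : ℂ) = ((2 : ℕ) : ℂ) ^ (k + 2) := by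
      rw [hk]; push_cast; ring
    rw [h4]
    show _ = _ * secSum 2 χ χ (σ ^ h) _ / (Nat.card (CQ (Subgroup.zpowers (σ ^ h))) : ℂ)
    ring
  have hzz : (2 : ℂ) ^ blockHeight 2 B (χ : G → ℂ) * (L : ℂ) = ((z * z : ℤ) : ℂ) := by
    rw [hsq] at hL; push_cast; exact hL.symm
  have hunit : ∀ (a : ℕ), (2 : ℂ) ^ a * (L : ℂ) = 1 → res M L = 0 → False := by
    intro a ha hres
    have e1 : ((2 ^ a : ℕ) : locRing M) * L = 1 := Subtype.ext (by push_cast; exact ha)
    have := congrArg (res M) e1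
    rw [map_mul, hres, mul_zero, map_one] at this
    exact zero_ne_one this
  rcases Nat.eq_zero_or_pos (blockHeight 2 B (χ : G → ℂ)) with h' | h'
  · refine ⟨iff_of_true h' ?_, by omega⟩
    rcases hcases with e1 | e1 | e1 | e1
    · exact Or.inl e1
    · exact Or.inr e1
    all_goals
      exfalso
      rw [h', pow_zero, one_mul, e1] at hzz
      refine h0 h' ?_
      rw [show L = ((4 : ℕ) : locRing M) from Subtype.ext (by rw [hzz, Subring.coe_natCast]; norm_num), map_natCast,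
        CharP.cast_eq_zero_iff (ResField M) 2]
      decide
  · have hres := hpos h'
    rcases hcases with e1 | e1 | e1 | e1
    · exact (hunit _ (by rw [hzz, e1]; norm_num) hres).elim
    · exact (hunit _ (by rw [hzz, e1]; norm_num) hres).elim
    all_goals
      refine ⟨iff_of_false (by omega) (by omega), ?_⟩
      by_contra hgt
      obtain ⟨a, ha⟩ : ∃ a, blockHeight 2 B (χ : G → ℂ) = a + 2 :=
        ⟨blockHeight 2 B (χ : G → ℂ) - 2, by omega⟩
      rw [ha, e1, pow_add] at hzz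
      push_cast at hzz
      exact hunit a (by linear_combination hzz / 4) hres

end DFrame

open scoped Classical in
/-- The invariants of the block. -/
theorem DFrame.invariants (F : DFrame M B P e σ τ h) : Nat.card B = h + 3 ∧ 1 ≤ blockRank 2 B ∧ blockRank 2 B ≤ 3 ∧
    Nat.card {χ : IrrCharacter G // χ ∈ B ∧ blockHeight 2 B (χ : G → ℂ) = 0} = 4 ∧
    ∀ χ ∈ B, blockHeight 2 B (χ : G → ℂ) ≤ 1 := by
  obtain ⟨g, T⟩ := F.exists_setup
  haveI := Fintype.ofFinite (IrrCharacter (CQ (Subgroup.zpowers (σ ^ h))))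
  obtain ⟨θ₀, hθ⟩ := T.exists_base
  have h2h := F.pres.two_le
  have hζ := Complex.isPrimitiveRoot_exp (2 * h) (by omega)
  obtain ⟨wh, w, hhh, hjj, hjk, hjh, hdh, hdj, hne, hJ, h1⟩ := F.exists_vectors T θ₀ hθ hζ
  have hodd : Odd (h - 1) := by
    obtain ⟨m, hm⟩ := F.pres.h_even
    exact ⟨m - 1, by omega⟩
  rcases Config.exists_config hodd wh w
    (fun i => (charDegree ((i : IrrCharacter G) : G → ℂ) : ℤ))
    (fun i => Int.natCast_ne_zero.mpr (charDegree_eq _).2) hhh hjj hjk hjh hdh hdj hne with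
    ⟨hcard, hfour, hvals⟩ | ⟨hn3, hspec⟩
  swap
  · exact (F.not_special_cast T hn3 (by omega) θ₀ hθ hζ wh w hJ h1 hspec).elim
  have hB : Nat.card B = h + 3 := by
    rw [Nat.card_eq_fintype_card, Fintype.card_subtype, ← Fintype.card_coe, hcard]
    omega
  obtain ⟨m, hm1, hm3, hm⟩ := F.exists_classes
  have hgood : ∀ i : ↥(Finset.univ.filter fun χ : IrrCharacter G => χ ∈ B),
      (blockHeight 2 B ((i : IrrCharacter G) : G → ℂ) = 0 ↔
        Config.fJ wh w i = 1 ∨ Config.fJ wh w i = -1) ∧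
      blockHeight 2 B ((i : IrrCharacter G) : G → ℂ) ≤ 1 := fun i =>
    F.height_cases T hθ (Finset.mem_filter.mp i.2).2 (hJ i) (hvals i)
  refine ⟨hB, by omega, by omega, ?_, fun χ hχ =>
    (hgood ⟨χ, Finset.mem_filter.mpr ⟨Finset.mem_univ _, hχ⟩⟩).2⟩
  rw [← hfour, ← Fintype.card_subtype, ← Nat.card_eq_fintype_card]
  refine Nat.card_congr
    { toFun := fun x => ⟨⟨x.1, Finset.mem_filter.mpr ⟨Finset.mem_univ _, x.2.1⟩⟩,
        (hgood _).1.mp x.2.2⟩
      invFun := fun i => ⟨i.1.1, (Finset.mem_filter.mp i.1.2).2, (hgood i.1).1.mpr i.2⟩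
      left_inv := fun _ => rfl
      right_inv := fun _ => rfl }

end CfsgLib.Block.Tame
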