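import Cfsg.Agent.Lib.Block.HeightCenter

/-!
# Fusion extending to the whole defect group

If a map between the cyclic groups of two elements of `P` extends to all of `P` and the regular
elements of the stabilizer of the maximal pair centralize `P`, the fusion is inside `P`
(`exists_conj_of_fused`).
-/

open Finset MonoidAlgebra

set_option autoImplicit false
set_option linter.unusedSectionVars false

namespace CfsgLib.Block.Tame

open Cfsg CfsgLib CfsgLib.Block
open Cfsg.FusionSystem (extender)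
open scoped Pair

universe u

variable {p : ℕ} {M : Ideal AlgInt} [M.IsMaximal] {G : Type u} [Group G] [Fintype G] [DecidableEq G]
  {P : Subgroup G} {e : Set (IrrCharacter (CQ P))} {B : Set (IrrCharacter G)}

/-- If the regular elements of the stabilizer centralize `P`, it is `P C(P)`. -/
theorem mem_sup_of_stab (hM : IsPModular p M) (hmax : IsMaximalBrauerPair p M B P e)
    (hreg : ∀ t ∈ Subgroup.normalizer (P : Set G), StabilizesBlock (CQ P) e t → ¬ p ∣ orderOf t →
      t ∈ CQ P)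
    {y : G} (hy : y ∈ Subgroup.normalizer (P : Set G)) (hys : StabilizesBlock (CQ P) e y) :
    y ∈ P ⊔ CQ P := by
  classical
  have hpf : Fact p.Prime := ⟨hM.1⟩
  have he := hmax.1.1
  have := Fintype.ofFinite (IrrCharacter G)
  obtain ⟨T, hT⟩ := exists_stab_subgroup hM he.2
  obtain ⟨FT, hL, -⟩ := exists_stabilizerBlock hM he hT
  have hPT : P ≤ T := fun u hu => (hT u).mpr ⟨Subgroup.le_normalizer hu,
    (stabilizesBlock_iff hM (Subgroup.le_normalizer hu) he.2).mpr
      (cinv_iff_cj.mp (cinv_self_eG e) u hu)⟩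
  have hdefT : IsDefectGroup p M FT (P.subgroupOf T) := by
    obtain ⟨D, hD⟩ := exists_defectGroup hM hL.block
    obtain ⟨x, hx, hDx⟩ := hL.exists_conj_le hM he hmax Relation.ReflTransGen.refl hD
    have h1 := hL.inf_conjLE hM he he Relation.ReflTransGen.refl hD
    rw [inf_eq_left.mpr hPT] at h1
    refine isDefectGroup_of_conjLE_card hM hL.block hD h1 ?_
    have h2 := Subgroup.card_le_of_le hDx
    rw [card_cjS, Subgroup.card_map_of_injective Subtype.val_injective] at h2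
    rwa [card_subgroupOf_eq hPT]
  obtain ⟨u', w', huw, -, ⟨a, ha⟩, hw⟩ :=
    exists_isPPart (p := p) hM.1 (⟨y, (hT y).mpr ⟨hy, hys⟩⟩ : T)
  have hu : (u' : G) ∈ P ⊔ CQ P :=
    hL.pElement_le hM he hPT hdefT u'.2 (g := (u' : G)) (by rw [Subgroup.orderOf_coe, ha])
  have hw' : (w' : G) ∈ P ⊔ CQ P :=
    Subgroup.mem_sup_right (hreg _ ((hT _).mp w'.2).1 ((hT _).mp w'.2).2
      (by rwa [Subgroup.orderOf_coe]))
  have h := mul_mem hu hw'
  rw [← Subgroup.coe_mul, huw] at h
  exact h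

theorem cjS_eq_of_mem_sup {y : G} (hy : y ∈ P ⊔ CQ P) {v : G} (hv : v ∈ P) :
    ∃ u ∈ P, y * v * y⁻¹ = u * v * u⁻¹ := by
  have hN : CQ P ≤ Subgroup.normalizer (P : Set G) := centralizer_le_normalizer' P
  rw [← SetLike.mem_coe, Subgroup.coe_mul_of_left_le_normalizer_right P (CQ P) (fun w hw => by
    rw [Subgroup.mem_normalizer_iff]
    exact fun h => cq_conj_iff (Subgroup.le_normalizer hw) h)] at hy
  obtain ⟨u, hu, c, hc, rfl⟩ := hy
  refine ⟨u, hu, ?_⟩
  have hcv : c * v = v * c := (Subgroup.mem_centralizer_iff.mp hc v hv).symm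
  calc u * c * v * (u * c)⁻¹ = u * (c * v) * c⁻¹ * u⁻¹ := by group
    _ = u * v * u⁻¹ := by rw [hcv]; group

/-- A fusion which extends to `P` is one by an element of `P`. -/
theorem exists_conj_of_fused (hM : IsPModular p M) (hmax : IsMaximalBrauerPair p M B P e)
    (hreg : ∀ t ∈ Subgroup.normalizer (P : Set G), StabilizesBlock (CQ P) e t → ¬ p ∣ orderOf t →
      t ∈ CQ P)
    {y z : P} (hz : z ∈ fusClass hM hmax.1.1 y)
    (hdef : IsDefectGroup p M (lowPair hM hmax.1.1 z).2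
      ((P ⊓ CQ (lowPair hM hmax.1.1 z).1).subgroupOf (CQ (lowPair hM hmax.1.1 z).1)))
    (hE : ∀ v ∈ P, ∃ w ∈ P, ∃ i : ℤ, v * (y : G) * v⁻¹ = (y : G) ^ i ∧
      w * (z : G) * w⁻¹ = (z : G) ^ i) :
    ∃ u ∈ P, u * (y : G) * u⁻¹ = (z : G) := by
  classical
  have he := hmax.1.1
  obtain ⟨g, hg, hgl⟩ := (mem_fusClass hM he).mp hz
  obtain ⟨f0, hf0⟩ := exists_eq_pairMk (a := lowPair hM he y) (Q := Subgroup.zpowers (y : G)) rfl
  obtain ⟨f, hf⟩ := exists_eq_pairMk (a := lowPair hM he z) (Q := Subgroup.zpowers (z : G)) rfl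
  have hle0 := lowPair_below hM he y
  have hle := lowPair_below hM he z
  rw [hf0, hf] at hgl
  rw [hf0] at hle0
  rw [hf] at hle
  rw [hf] at hdef
  let φ : Subgroup.zpowers (y : G) →* G :=
    (MulAut.conj g).toMonoidHom.comp (Subgroup.zpowers (y : G)).subtype
  obtain ⟨w, hw, fE, hfE, hbelow⟩ := exists_extension hM he (φ := φ) (fun _ => rfl)
    (Subgroup.zpowers_le.mpr y.2) hle0 hgl hle hdef
  have hPN : ∀ v ∈ P, v ∈ Subgroup.normalizer (Subgroup.zpowers (y : G) : Set G) := by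
    intro v hv
    refine mem_normalizer_of_cjS_eq (Subgroup.eq_of_le_of_card_ge ?_ (card_cjS v _).ge)
    rw [cjS_zpowers, Subgroup.zpowers_le]
    obtain ⟨-, -, i, hi, -⟩ := hE v hv
    exact hi ▸ Subgroup.zpow_mem_zpowers _ i
  have hEP : extender P (Subgroup.zpowers (y : G)) φ = P := by
    refine le_antisymm (fun v hv => (extender_bound (φ := φ) (g := g) (fun _ => rfl) rfl hv).1.1)
      fun v hv => Subgroup.subset_closure ?_
    obtain ⟨v', hv', i, hi, hi'⟩ := hE v hv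
    refine ⟨hv, hPN v hv, v', hv', fun x hx => ?_⟩
    obtain ⟨j, hj⟩ := Subgroup.mem_zpowers_iff.mp x.2
    show g * (v * (x : G) * v⁻¹) * g⁻¹ = v' * (g * (x : G) * g⁻¹) * v'⁻¹
    rw [← hj, ← conj_zpow (a := v), hi, ← conj_zpow (a := g), ← conj_zpow (a := g), hg,
      ← conj_zpow (a := g), hg, ← conj_zpow (a := v'), hi']
  have key : ∀ (E' : Subgroup G) (a : Set (IrrCharacter (CQ E'))), E' = P →
      SubpairLE p M E' a P e → Below p M P e (cjP (w * g) ⟨E', a⟩) →
      cjP (w * g) ⟨P, e⟩ = (⟨P, e⟩ : BrauerPairIdx G) := by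
    intro E' a hE' h1 h2
    subst hE'
    obtain rfl := SubpairLE.eq_of_eq hM h1
    have h3 : cjS (w * g) E' = E' :=
      Subgroup.eq_of_le_of_card_ge (SubpairLE.le h2) (card_cjS (w * g) E').ge
    obtain ⟨f', hf'⟩ := exists_eq_pairMk (a := cjP (w * g) (⟨E', a⟩ : BrauerPairIdx G)) h3
    rw [hf'] at h2 ⊢
    rw [SubpairLE.eq_of_eq hM h2]
  have := Fintype.ofFinite (IrrCharacter G)
  obtain ⟨hN, hS⟩ := stabilizesBlock_of_cjP_eq hM he.2 (key _ fE hEP hfE hbelow)
  obtain ⟨u, hu, huy⟩ := cjS_eq_of_mem_sup (mem_sup_of_stab hM hmax hreg hN hS) y.2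
  refine ⟨u, hu, ?_⟩
  rw [← huy]
  calc w * g * (y : G) * (w * g)⁻¹ = w * (g * (y : G) * g⁻¹) * w⁻¹ := by group
    _ = (z : G) := by rw [hg, (mem_cq_zpowers_iff.mp hw).eq, mul_inv_cancel_right]

end CfsgLib.Block.Tame
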