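import Cfsg.Agent.Lib.Block.NilpotentBijection
import Cfsg.Agent.Lib.Block.FusedSum

/-!
# Contributions against a height zero member of a nilpotent block

For a height zero member `θ₀` of a nilpotent block the contributions `y ↦ contrib θ θ₀ y` are
generalized characters of the defect group, and `contrib θ₀ θ₀ y = 1`.
-/

open Finset MonoidAlgebra Polynomial
open scoped ComplexConjugate

set_option autoImplicit false
set_option linter.unusedSectionVars false

namespace CfsgLib.Block.Tame

open Cfsg CfsgLib CfsgLib.Block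
open scoped Pair

universe u

variable {p : ℕ} {M : Ideal AlgInt} [M.IsMaximal] {G : Type u} [Group G] [Fintype G] [DecidableEq G]
  [Fintype (IrrCharacter G)]

/-- The contributions against a member of height zero: norm one, generalized characters, rank one. -/
theorem contrib_gen_of_height_zero (hM : IsPModular p M) {B : Set (IrrCharacter G)} {P : Subgroup G}
    {e : Set (IrrCharacter (CQ P))} (hmax : IsMaximalBrauerPair p M B P e)
    (hnil : IsNilpotentBlock p M B) {χ : IrrCharacter G} (hχ : χ ∈ B)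
    (h0 : blockHeight p B (χ : G → ℂ) = 0) :
    (∀ y : P, contrib p (lowPair hM hmax.1.1) χ χ y = 1) ∧
      (∀ θ : IrrCharacter G,
        IsGeneralizedCharacter P (fun y : P => contrib p (lowPair hM hmax.1.1) θ χ y)) ∧
      ∀ (θ θ' : IrrCharacter G) (y : P), contrib p (lowPair hM hmax.1.1) θ θ' y =
        contrib p (lowPair hM hmax.1.1) θ χ y * contrib p (lowPair hM hmax.1.1) χ θ' y := by
  classical
  have hpf : Fact p.Prime := ⟨hM.1⟩
  have := charP_resField hM
  have := Fintype.ofFinite (IrrCharacter P)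
  have := Fintype.ofFinite (ConjClasses G)
  have he := hmax.1.1
  have hB := hmax.1.2.1
  have hPcard := exists_defect_pow_card hM hmax
  obtain ⟨i, hi, -⟩ := exists_sourceIdem hM hmax hχ h0
  obtain ⟨ih, hih, hred, hcomm⟩ := exists_lift_idem_commute (S := (P : Set G)) hi.idem hi.cinv
  let low : P → BrauerPairIdx G := lowPair hM he
  have hlow : ∀ y : P, (low y).1 = Subgroup.zpowers (y : G) ∧ Below p M P e (low y) :=
    fun y => ⟨rfl, lowPair_below hM he y⟩
  have hsections : ∀ y : P, ∀ b : Set (IrrCharacter (CQ (Subgroup.zpowers (y : G)))),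
      IsBrauerPairOf p M B (Subgroup.zpowers (y : G)) b → HasUnitRow p b := fun y b hb =>
    isNilpotentBlock_unitRow hM (isNilpotentBlock_local hM hnil hb)
  choose n dd hsd using fun y : P =>
    exists_secData hM hmax hnil hi hih hred hcomm low hlow y (hsections y)
  obtain ⟨hrows, hnorm⟩ := hasUnitRow_step hM hmax hnil (fun y _ => hsections y) hχ h0
  choose! d hd using hrows
  have htot : ∀ θ ∈ B, ∀ θ' ∈ B,
      ∑ y : P, dd y θ * conj (dd y θ') = if θ = θ' then (Nat.card P : ℂ) else 0 := by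
    intro θ hθ θ' hθ'
    rw [← sum_secSum_nilpotent hM hmax hnil low hlow hθ hθ']
    exact Finset.sum_congr rfl fun y _ => ((hsd y θ).2.2 θ').symm
  have hddint : ∀ y θ, IsIntegral ℤ (dd y θ) := fun y θ =>
    isIntegral_of_mem_cycInt Nat.card_pos.ne' (hsd y θ).1
  have hconjint : ∀ {z : ℂ}, IsIntegral ℤ z → IsIntegral ℤ (conj z) := fun h =>
    h.map ((starRingEnd ℂ).toIntAlgHom)
  have hnz : ∀ y : P, dd y χ ≠ 0 ∧ ¬ p ∣ n y := by
    intro y
    obtain ⟨w, hw, hwres⟩ := exists_sval_res hM he.1 hred hi.cinv χ y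
    rw [(hsd y χ).2.1] at hw
    have hne : res M w ≠ 0 := hwres ▸ hi.trB_ne
    refine ⟨fun h => hne ?_, fun h => hne ?_⟩
    · rw [show w = 0 from Subtype.ext (by rw [hw, h, mul_zero, ZeroMemClass.coe_zero]), map_zero]
    · rw [show w = (n y : locRing M) * ⟨dd y χ, integral_mem M (hddint y χ)⟩ from Subtype.ext (by
        rw [Subring.coe_mul, hw]; simp), map_mul, map_natCast,
        (CharP.cast_eq_zero_iff (ResField M) p (n y)).mpr h, zero_mul]
  have hunit : ∀ y, dd y χ * conj (dd y χ) = 1 :=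
    normSq_eq_one_of_card_eq Nat.card_pos.ne'
      (fun y => (⟨dd y χ, (hsd y χ).1⟩ : cycInt (Nat.card P))) (fun y => (hnz y).1) (by
        rw [Int.cast_natCast, ← Nat.card_eq_fintype_card]
        exact (htot χ hχ χ hχ).trans (if_pos rfl))
  -- the class functions
  let a : IrrCharacter G → P → ℂ := fun ψ y => dd y χ * conj (dd y ψ)
  have hPc : (Nat.card P : ℂ) = (p : ℂ) ^ blockDefect p B := by rw [hPcard, Nat.cast_pow]
  have hP0 : (Nat.card P : ℂ) ≠ 0 := Nat.cast_ne_zero.mpr Nat.card_pos.ne'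
  have hG0 : (Nat.card G : ℂ) ≠ 0 := Nat.cast_ne_zero.mpr Nat.card_pos.ne'
  have hreg : ∀ ψ ∈ B, ∀ θ, regInner p ψ θ = (d ψ : ℂ) * regInner p χ θ := by
    intro ψ hψ θ
    refine mul_left_cancel₀ hG0 ?_
    rw [card_mul_regInner, mul_left_comm, card_mul_regInner, Finset.mul_sum]
    exact Finset.sum_congr rfl fun g hg => by
      rw [hd ψ hψ g (Finset.mem_filter.mp hg).2, mul_assoc]
  have hχχ : regInner p χ χ = (Nat.card P : ℂ)⁻¹ := by
    rw [← hPc] at hnorm
    exact eq_inv_of_mul_eq_one_left hnorm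
  have ha1 : ∀ ψ ∈ B, a ψ 1 = (d ψ : ℂ) := by
    intro ψ hψ
    have h1 : ∀ t : G, Commute t ((1 : P) : G) := fun t => by simp [Commute, SemiconjBy]
    have hl : ∀ θ : IrrCharacter G, ∀ t, (θ : G → ℂ) (((1 : P) : G) * t) = 1 * (θ : G → ℂ) t :=
      fun θ t => by simp
    show dd 1 χ * conj (dd 1 ψ) = _
    rw [← (hsd 1 χ).2.2 ψ, contrib_central hM hmax low hlow 1 h1 hχ hψ (hl χ) (hl ψ),
      regInner_comm hM χ ψ, hreg ψ hψ χ, hχχ, map_one, one_mul, one_mul, mul_comm (d ψ : ℂ),
      ← mul_assoc, mul_inv_cancel₀ hP0, one_mul]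
  -- generalized characters
  let N : P → ℕ := fun y => n y ^ 2
  have hN2 : ∀ y : P, sval ih χ (y : G) * conj (sval ih χ (y : G)) = (N y : ℂ) := by
    intro y
    simp only [N, (hsd y χ).2.1, map_mul, map_natCast, Nat.cast_pow]
    linear_combination (n y : ℂ) ^ 2 * hunit y
  have hNp : ∀ y, ¬ p ∣ N y := fun y hd => (hnz y).2 (hM.1.dvd_of_dvd_pow hd)
  set vals : Finset ℕ := Finset.univ.image N
  set Qp : Polynomial ℤ := ∏ v ∈ vals, (C (v : ℤ) - X)
  set m : ℤ := Qp.coeff 0 with hmdef
  have hmv : m = ∏ v ∈ vals, (v : ℤ) := by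
    rw [hmdef, coeff_zero_eq_eval_zero, eval_prod]
    simp
  have hcop : IsCoprime m (Nat.card P : ℤ) := by
    rw [hmv, hPcard, Nat.cast_pow]
    refine (IsCoprime.prod_left fun v hv => ?_).pow_right
    obtain ⟨y, -, rfl⟩ := Finset.mem_image.mp hv
    exact Nat.isCoprime_iff_coprime.mpr ((hM.1.coprime_iff_not_dvd.mpr (hNp y)).symm)
  have hm00 : m ≠ 0 := by
    rw [hmv, Finset.prod_ne_zero_iff]
    intro v hv
    obtain ⟨y, -, rfl⟩ := Finset.mem_image.mp hv
    exact Int.natCast_ne_zero.mpr fun h => hNp y (h ▸ dvd_zero p)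
  have hm0 : (m : ℂ) ≠ 0 := Int.cast_ne_zero.mpr hm00
  let v : P → ℂ := fun y => - aeval (sval ih χ (y : G) * conj (sval ih χ (y : G))) Qp.divX
  have hv : ∀ y : P, (N y : ℂ) * v y = (m : ℂ) := by
    intro y
    simp only [v, hN2 y]
    have h : aeval (N y : ℂ) Qp = 0 := by
      rw [map_prod]
      exact Finset.prod_eq_zero (Finset.mem_image_of_mem N (Finset.mem_univ y)) (by simp)
    rw [← divX_mul_X_add Qp, map_add, map_mul, aeval_X, aeval_C, algebraMap_int_eq, eq_intCast] at h
    linear_combination -h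
  have hf : ∀ θ, IsGeneralizedCharacter P (fun y : P => sval ih θ (y : G)) := fun θ =>
    Char.isGeneralizedCharacter_of_isCharacter (isCharacter_sval ih hih hcomm θ)
  have hfc : ∀ θ, IsGeneralizedCharacter P (fun y : P => conj (sval ih θ (y : G))) := fun θ =>
    Char.isGeneralizedCharacter_of_isCharacter
      (Char.isCharacter_conj (isCharacter_sval ih hih hcomm θ))
  have hvgen : IsGeneralizedCharacter P v := Char.isGeneralizedCharacter_neg
    (isGeneralizedCharacter_aeval (Char.isGeneralizedCharacter_mul (hf χ) (hfc χ)) _)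
  have hagen : ∀ ψ, IsGeneralizedCharacter P (fun y => (m : ℂ) * a ψ y) := by
    intro ψ
    have hg := Char.isGeneralizedCharacter_mul (Char.isGeneralizedCharacter_mul (hf χ) (hfc ψ)) hvgen
    convert hg using 1
    funext y
    have hNv := hv y
    simp only [a, Pi.mul_apply, (hsd y χ).2.1, (hsd y ψ).2.1, map_mul, map_natCast]
    simp only [N, Nat.cast_pow] at hNv
    linear_combination -(dd y χ * conj (dd y ψ)) * hNv
  have hacf : ∀ ψ, IsClassFunction P (a ψ) := fun ψ y u =>
    mul_left_cancel₀ hm0 (Char.isClassFunction_of_isGeneralized (hagen ψ) y u)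
  have haint : ∀ ψ, ∀ μ : IrrCharacter P, ∃ k : ℤ, classInner (a ψ) (μ : P → ℂ) = k := by
    intro ψ μ
    obtain ⟨r, hr⟩ := Char.classInner_generalized_int (hagen ψ)
      (Char.isGeneralizedCharacter_of_isCharacter (Char.isCharacter_irr μ))
    refine exists_intCast_of_mul_eq hm00 hcop (r := r) ?_ ?_
    · rw [← hr, classInner, classInner, Finset.mul_sum, Finset.mul_sum, Finset.mul_sum]
      exact Finset.sum_congr rfl fun y _ => by ring
    · rw [classInner, ← mul_assoc, mul_inv_cancel₀ hP0, one_mul]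
      exact IsIntegral.sum _ fun y _ =>
        ((hddint y χ).mul (hconjint (hddint y ψ))).mul
          (hconjint (Char.isCharacter_isIntegral (Char.isCharacter_irr μ) y))
  have hcon : ∀ (θ : IrrCharacter G) (y : P), contrib p low θ χ y = conj (a θ y) := fun θ y => by
    rw [(hsd y θ).2.2 χ]
    simp only [a, map_mul, Complex.conj_conj]
    ring
  refine ⟨fun y => ?_, fun θ => ?_, fun θ θ' y => ?_⟩
  · rw [show contrib p (lowPair hM hmax.1.1) χ χ y = contrib p low χ χ y from rfl, (hsd y χ).2.2 χ]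
    exact hunit y
  · rw [show (fun y : P => contrib p (lowPair hM hmax.1.1) θ χ y) = fun y : P => conj (a θ y) from
      funext fun y => hcon θ y]
    obtain ⟨c₁, c₂, hc₁, hc₂, he'⟩ :=
      Char.isGeneralizedCharacter_of_int_inner (hacf θ) fun μ => haint θ μ
    exact ⟨_, _, Char.isCharacter_conj hc₁, Char.isCharacter_conj hc₂,
      funext fun y => by simp only [he', Pi.sub_apply, map_sub]⟩
  · change contrib p low θ θ' y = contrib p low θ χ y * contrib p low χ θ' y
    rw [(hsd y θ).2.2 θ', (hsd y θ).2.2 χ, (hsd y χ).2.2 θ']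
    linear_combination -(dd y θ * conj (dd y θ')) * hunit y

/-- The contributions against some member of height zero. -/
theorem exists_contrib_gen (hM : IsPModular p M) {B : Set (IrrCharacter G)} {P : Subgroup G}
    {e : Set (IrrCharacter (CQ P))} (hmax : IsMaximalBrauerPair p M B P e)
    (hnil : IsNilpotentBlock p M B) :
    ∃ θ₀ ∈ B, blockHeight p B (θ₀ : G → ℂ) = 0 ∧
      (∀ y : P, contrib p (lowPair hM hmax.1.1) θ₀ θ₀ y = 1) ∧
      ∀ θ : IrrCharacter G,
        IsGeneralizedCharacter P (fun y : P => contrib p (lowPair hM hmax.1.1) θ θ₀ y) := by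
  obtain ⟨χ, hχ, hmin⟩ := exists_minDeg (p := p) (isPBlock_nonempty hmax.1.2.1)
  have h0 := (blockHeight_eq_zero_iff (p := p) hχ).mpr hmin
  obtain ⟨h1, h2, -⟩ := contrib_gen_of_height_zero hM hmax hnil hχ h0
  exact ⟨χ, hχ, h0, h1, h2⟩

end CfsgLib.Block.Tame
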