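import Cfsg.Agent.Lib.Block.Tame.LocalPair
import Cfsg.Agent.Lib.Block.Tame.NilpotentGen
import Cfsg.Agent.Lib.Block.FreeInertial.Local

/-!
# The generalized characters of a local nilpotent block

For a height zero member `θ₀` of the nilpotent block `f` of `C(Q)` and a character `χ` of `G`,
`Setup.gfun` is the combination of the contributions against `θ₀` of the members of `f` with the
multiplicities in the restriction.  At the elements whose cyclic groups contain `Q` it is a multiple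
of the part of `χ` (`Setup.exists_beta`), normalized by `Setup.gfun_mul_conj`.
-/

open Finset MonoidAlgebra
open scoped ComplexConjugate

set_option autoImplicit false
set_option linter.unusedSectionVars false

namespace CfsgLib.Block.Tame

open Cfsg CfsgLib CfsgLib.Block CfsgLib.Block.CyclicDefect
open scoped Pair

universe u

variable {p : ℕ} {M : Ideal AlgInt} [M.IsMaximal] {G : Type u} [Group G] [Fintype G] [DecidableEq G]
  [Fintype (IrrCharacter G)] {Q R P : Subgroup G} {B : Set (IrrCharacter G)}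
  {e : Set (IrrCharacter (CQ P))} {f : Set (IrrCharacter (CQ Q))}
  {eR : Set (IrrCharacter (CQ R))}

open scoped Classical in
/-- The parts at elements which are not fused are orthogonal. -/
theorem sum_secPart_one_zero (hM : IsPModular p M) (hmax : IsMaximalBrauerPair p M B P e) {y z : P}
    (hne : z ∉ fusClass hM hmax.1.1 y) :
    ∑ χ ∈ Finset.univ.filter (fun χ : IrrCharacter G => χ ∈ B),
      secPart χ (y : G) (lowPair hM hmax.1.1 y) 1 *
        conj (secPart χ (z : G) (lowPair hM hmax.1.1 z) 1) = 0 := by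
  have hpz := exists_pElement_orderOf hmax.1.1 z hM.1
  have hpy := exists_pElement_orderOf hmax.1.1 y hM.1
  by_cases hc : IsConj (y : G) (z : G)
  · obtain ⟨g, hg⟩ := isConj_iff.mp hc
    obtain ⟨b', hb'⟩ := exists_eq_pairMk (a := cjP g (lowPair hM hmax.1.1 y))
      (Q := Subgroup.zpowers (z : G)) (by
        show cjS g (Subgroup.zpowers (y : G)) = _
        rw [cjS_zpowers, hg])
    obtain ⟨b, hb⟩ := exists_eq_pairMk (a := lowPair hM hmax.1.1 z)
      (Q := Subgroup.zpowers (z : G)) rfl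
    have hof := IsBrauerPairOf.conj hM g (lowPair_pairOf hM hmax y)
    change IsBrauerPairOf p M B (cjP g (lowPair hM hmax.1.1 y)).1
      (cjP g (lowPair hM hmax.1.1 y)).2 at hof
    rw [hb'] at hof
    have hofz := lowPair_pairOf hM hmax z
    rw [hb] at hofz
    have hbb : b' ≠ b := fun e => hne ((mem_fusClass hM hmax.1.1).mpr ⟨g, hg, by rw [hb', hb, e]⟩)
    have := Fintype.ofFinite (IrrCharacter (CQ (Subgroup.zpowers (z : G))))
    have hC : ∀ t : G, t ∈ CQ (Subgroup.zpowers (z : G)) ↔ Commute t (z : G) :=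
      fun t => mem_cq_zpowers_iff
    have hC' : ∀ t : CQ (Subgroup.zpowers (z : G)), Commute (t : G) (z : G) := fun t => (hC t).mp t.2
    have hreg : ¬ p ∣ orderOf (1 : CQ (Subgroup.zpowers (z : G))) := by
      rw [orderOf_one]; exact hM.1.not_dvd_one
    have h1reg : (1 : G) ∈ regC p (z : G) :=
      mem_regC.mpr ⟨Subgroup.one_mem _, by rw [orderOf_one]; exact hM.1.not_dvd_one⟩
    rw [Finset.sum_subset (Finset.subset_univ _) fun χ _ hχ => by
      rw [secPart_eq_zero_of_not_mem hM (by simpa using hχ) hpz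
        (mem_pairsAt.mpr ⟨lowPair_fst hM hmax.1.1 z, (lowPair_pairOf hM hmax z).1.2⟩) h1reg
        (lowPair_pairOf hM hmax z), map_zero, mul_zero]]
    refine Eq.trans (Finset.sum_congr rfl (g := fun χ : IrrCharacter G =>
      blockPart b' (secFun (z : G) (CQ (Subgroup.zpowers (z : G))) χ) 1 *
        conj (blockPart b (secFun (z : G) (CQ (Subgroup.zpowers (z : G))) χ) 1)) fun χ _ => ?_) ?_
    · have h := secPart_cjP χ g (y : G) (lowPair hM hmax.1.1 y) 1
      rw [mul_one, mul_inv_cancel, hg, hb'] at h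
      rw [← h, hb, show (1 : G) = ((1 : CQ (Subgroup.zpowers (z : G))) : G) from rfl,
        secPart_eq_blockPart b' hC', secPart_eq_blockPart b hC']
    · rw [sum_blockPart_mul_conj hM hpz hC hof.1.2 hofz.1.2 hreg hreg, if_neg hbb]
  · have hsupp : ∀ (x : P) (t : G),
        subgroupBlockCoeff (CQ (lowPair hM hmax.1.1 x).1) (lowPair hM hmax.1.1 x).2 t ≠ 0 →
          IsPPart p ((x : G) * (t * 1)) (x : G) := by
      intro x t ht
      obtain ⟨b, hlow⟩ := exists_eq_pairMk (a := lowPair hM hmax.1.1 x)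
        (Q := Subgroup.zpowers (x : G)) rfl
      have hpair := lowPair_pairOf hM hmax x
      rw [hlow] at ht hpair
      dsimp only at ht hpair
      have := Fintype.ofFinite (IrrCharacter (CQ (Subgroup.zpowers (x : G))))
      have htC : t ∈ CQ (Subgroup.zpowers (x : G)) := by
        by_contra h
        exact ht (subgroupBlockCoeff_of_notMem b h)
      rw [show t = ((⟨t, htC⟩ : CQ (Subgroup.zpowers (x : G))) : G) from rfl,
        subgroupBlockCoeff_coe] at ht
      refine ⟨t, by rw [mul_one], (mem_cq_zpowers_iff.mp htC).symm,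
        exists_pElement_orderOf hmax.1.1 x hM.1, fun hd => ht ?_⟩
      exact blockCoeff_eq_zero_of_singular hM (IsBlockUnion.of_isPBlock hpair.1.2)
        (by rwa [← Subgroup.orderOf_coe])
    simp only [secPart, map_sum, map_mul, Finset.sum_mul_sum]
    rw [Finset.sum_comm]
    refine Finset.sum_eq_zero fun t _ => ?_
    rw [Finset.sum_comm]
    refine Finset.sum_eq_zero fun t' _ => ?_
    rcases eq_or_ne (subgroupBlockCoeff (CQ (lowPair hM hmax.1.1 y).1)
      (lowPair hM hmax.1.1 y).2 t) 0 with h | h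
    · simp [h]
    rcases eq_or_ne (subgroupBlockCoeff (CQ (lowPair hM hmax.1.1 z).1)
      (lowPair hM hmax.1.1 z).2 t') 0 with h' | h'
    · simp [h']
    have horth := blockUnion_orthogonal_conj hM (IsBlockUnion.of_isPBlock hmax.1.2.1)
      (hsupp y t h) (hsupp z t' h') hc
    rw [finsum_mem_eq_finite_toFinset_sum _ (Set.toFinite _),
      show (Set.toFinite B).toFinset = Finset.univ.filter (fun χ : IrrCharacter G => χ ∈ B) by
        ext; simp] at horth
    rw [Finset.sum_congr rfl (g := fun χ : IrrCharacter G =>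
      subgroupBlockCoeff (CQ (lowPair hM hmax.1.1 y).1) (lowPair hM hmax.1.1 y).2 t *
        conj (subgroupBlockCoeff (CQ (lowPair hM hmax.1.1 z).1) (lowPair hM hmax.1.1 z).2 t') *
        ((χ : G → ℂ) ((y : G) * (t * 1)) * conj ((χ : G → ℂ) ((z : G) * (t' * 1)))))
      fun χ _ => by ring, ← Finset.mul_sum, horth, mul_zero]

namespace Setup

variable (S : Setup p M B P e Q R f eR) [Fintype (IrrCharacter (CQ Q))]
include S

open scoped Classical in
/-- The combination of the contributions with the multiplicities in the restriction. -/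
noncomputable def gfun (θ₀ : IrrCharacter (CQ Q)) (χ : IrrCharacter G) (y : R.subgroupOf (CQ Q)) : ℂ :=
  ∑ θ ∈ Finset.univ.filter (fun θ : IrrCharacter (CQ Q) => θ ∈ f),
    (resMult χ θ : ℂ) * contrib p (lowPair S.hM S.maxC.1.1) θ θ₀ y

/-- The conditions on the distinguished member of `f`. -/
structure Base (θ₀ : IrrCharacter (CQ Q)) : Prop where
  mem : θ₀ ∈ f
  norm : ∀ y, contrib p (lowPair S.hM S.maxC.1.1) θ₀ θ₀ y = 1
  gen : ∀ θ, IsGeneralizedCharacter (R.subgroupOf (CQ Q))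
    fun y => contrib p (lowPair S.hM S.maxC.1.1) θ θ₀ y

theorem exists_base : ∃ θ₀, S.Base θ₀ := by
  obtain ⟨θ₀, h, -, h1, h2⟩ := exists_contrib_gen S.hM S.maxC S.nil
  exact ⟨θ₀, h, h1, h2⟩

variable {θ₀ : IrrCharacter (CQ Q)}

theorem gfun_gen (hθ : S.Base θ₀) (χ : IrrCharacter G) :
    IsGeneralizedCharacter (R.subgroupOf (CQ Q)) (S.gfun θ₀ χ) := by
  classical
  have h := Char.isGeneralizedCharacter_sum
    (Finset.univ.filter (fun θ : IrrCharacter (CQ Q) => θ ∈ f))
    (fun θ => ((resMult χ θ : ℤ) : ℂ) • fun y => contrib p (lowPair S.hM S.maxC.1.1) θ θ₀ y)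
    fun θ _ => Char.isGeneralizedCharacter_zsmul (hθ.gen θ) (resMult χ θ : ℤ)
  convert h using 1
  funext y
  simp [gfun, Finset.sum_apply]

theorem nilpotent_lowC (y : R.subgroupOf (CQ Q)) :
    HasUnitRow p (lowPair S.hM S.maxC.1.1 y).2 :=
  haveI := Fintype.ofFinite (IrrCharacter (CQ (lowPair S.hM S.maxC.1.1 y).1))
  isNilpotentBlock_unitRow S.hM (isNilpotentBlock_local S.hM S.nil (lowPair_pairOf S.hM S.maxC y))

theorem one_mem_regC' {H : Type u} [Group H] [Fintype H] [DecidableEq H] (u : H) :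
    (1 : H) ∈ regC p u :=
  mem_regC.mpr ⟨Subgroup.one_mem _, by rw [orderOf_one]; exact S.hM.1.not_dvd_one⟩

theorem sum_regC_sub (y : CQ Q) (hQ : Q ≤ Subgroup.zpowers (y : G)) (F : G → ℂ) :
    ∑ s ∈ regC p y, F (s : G) = ∑ s ∈ regC p (y : G), F s := by
  refine Finset.sum_bij (fun s _ => (s : G)) (fun s hs => ?_) (fun s _ s' _ h => Subtype.ext h)
    (fun s hs => ?_) fun s _ => rfl
  · obtain ⟨h1, h2⟩ := mem_regC.mp hs
    exact mem_regC.mpr ⟨mem_cq_zpowers_iff.mpr ((mem_cq_zpowers_iff.mp h1).map (CQ Q).subtype),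
      by rwa [Subgroup.orderOf_coe]⟩
  · obtain ⟨h1, h2⟩ := mem_regC.mp hs
    refine ⟨⟨s, cq_mono hQ h1⟩, mem_regC.mpr ⟨mem_cq_zpowers_iff.mpr ?_, ?_⟩, rfl⟩
    · exact Subtype.ext (mem_cq_zpowers_iff.mp h1)
    · rwa [← Subgroup.orderOf_coe]

/-- The order of the centralizer, in `C(Q)` and in `G`. -/
theorem card_cq_sub (y : CQ Q) (hQ : Q ≤ Subgroup.zpowers (y : G)) :
    Nat.card (CQ (Subgroup.zpowers y)) = Nat.card (CQ (Subgroup.zpowers (y : G))) :=
  Nat.card_congr
    { toFun := fun c => ⟨((c : CQ Q) : G),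
        mem_cq_zpowers_iff.mpr ((mem_cq_zpowers_iff.mp c.2).map (CQ Q).subtype)⟩
      invFun := fun c => ⟨⟨(c : G), cq_mono hQ c.2⟩,
        mem_cq_zpowers_iff.mpr (Subtype.ext (mem_cq_zpowers_iff.mp c.2))⟩
      left_inv := fun c => Subtype.ext (Subtype.ext rfl)
      right_inv := fun c => Subtype.ext rfl }

open scoped Classical in
/-- Rank one at an element whose cyclic group contains `Q`. -/
theorem exists_rankOne {y : R.subgroupOf (CQ Q)} (hQ : Q ≤ Subgroup.zpowers ((y : CQ Q) : G)) :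
    ∃ (η : CQ Q → ℂ) (A : IrrCharacter (CQ Q) → ℂ) (D : IrrCharacter G → ℂ), η 1 ≠ 0 ∧
      (∀ θ, ∀ s ∈ regC p (y : CQ Q),
        secPart θ (y : CQ Q) (lowPair S.hM S.maxC.1.1 y) s = A θ * η s) ∧
      ∀ χ, ∀ s ∈ regC p (y : CQ Q),
        secPart χ ((y : CQ Q) : G) (lowPair S.hM S.hmax.1.1 (S.inP y)) (s : G) = D χ * η s ∧
          ∑ θ ∈ (Finset.univ : Finset (IrrCharacter (CQ Q))).filter (fun θ => θ ∈ f),
            (resMult χ θ : ℂ) * A θ = D χ := by
  classical
  obtain ⟨b, hb⟩ := exists_eq_pairMk (a := lowPair S.hM S.maxC.1.1 y)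
    (Q := Subgroup.zpowers (y : CQ Q)) rfl
  have hrow := S.nilpotent_lowC y
  rw [hb] at hrow
  dsimp only at hrow
  obtain ⟨η₀, -, hd, -⟩ := hrow
  choose! d hd using hd
  have := Fintype.ofFinite (IrrCharacter (CQ (Subgroup.zpowers (y : CQ Q))))
  obtain ⟨k, hk⟩ := exists_pElement_orderOf S.maxC.1.1 y S.hM.1
  let η : CQ Q → ℂ := fun s =>
    if h : s ∈ CQ (Subgroup.zpowers (y : CQ Q)) then (η₀ : CQ (Subgroup.zpowers (y : CQ Q)) → ℂ) ⟨s, h⟩ else 0
  let A : IrrCharacter (CQ Q) → ℂ := fun θ => FreeInertial.rowCoeff η₀ θ (y : CQ Q) b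
  have hA : ∀ θ, ∀ s ∈ regC p (y : CQ Q),
      secPart θ (y : CQ Q) (lowPair S.hM S.maxC.1.1 y) s = A θ * η s := by
    intro θ s hs
    obtain ⟨hs1, hs2⟩ := mem_regC.mp hs
    obtain ⟨-, hsp⟩ := FreeInertial.rowCoeff_spec S.hM (pow_ne_zero k S.hM.1.ne_zero)
      (hk ▸ pow_orderOf_eq_one (y : CQ Q)) d hd θ
    rw [hb, show η s = (η₀ : CQ (Subgroup.zpowers (y : CQ Q)) → ℂ) ⟨s, hs1⟩ from dif_pos hs1]
    exact hsp ⟨s, hs1⟩ (by rwa [← Subgroup.orderOf_coe])
  refine ⟨η, A, fun χ => ∑ θ ∈ (Finset.univ : Finset (IrrCharacter (CQ Q))).filter (fun θ => θ ∈ f),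
      (resMult χ θ : ℂ) * A θ, ?_, hA, fun χ s hs => ⟨?_, rfl⟩⟩
  · rw [show η 1 = (η₀ : CQ (Subgroup.zpowers (y : CQ Q)) → ℂ) ⟨1, Subgroup.one_mem _⟩ from dif_pos (Subgroup.one_mem _)]
    exact Char.irr_one_ne_zero η₀
  · rw [S.secPart_restrict hQ χ hs, Finset.sum_mul]
    exact Finset.sum_congr rfl fun θ _ => by rw [hA θ s hs, mul_assoc]

/-- At an element whose cyclic group contains `Q` the function is a multiple of the part. -/
theorem exists_beta {y : R.subgroupOf (CQ Q)} (hQ : Q ≤ Subgroup.zpowers ((y : CQ Q) : G)) :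
    ∃ β : ℂ, ∀ χ, S.gfun θ₀ χ y =
      β * secPart χ ((y : CQ Q) : G) (lowPair S.hM S.hmax.1.1 (S.inP y)) 1 := by
  classical
  obtain ⟨η, A, D, hη, hA, hD⟩ := S.exists_rankOne hQ
  set c : ℂ := (Nat.card (Subgroup.centralizer ({y} : Set (R.subgroupOf (CQ Q)))) : ℂ) /
    (Nat.card (CQ (Subgroup.zpowers (y : CQ Q))) : ℂ) with hc
  set N : ℂ := ∑ s ∈ regC p (y : CQ Q), η s * conj (η s) with hN
  refine ⟨c * N * conj (A θ₀) / η 1, fun χ => ?_⟩
  have h1 := (hD χ 1 (S.one_mem_regC' _)).1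
  rw [OneMemClass.coe_one] at h1
  rw [h1, ← (hD χ 1 (S.one_mem_regC' _)).2, gfun, Finset.sum_mul, Finset.mul_sum]
  refine Finset.sum_congr rfl fun θ _ => ?_
  rw [contrib, show secSum p θ θ₀ ((y : CQ Q)) (lowPair S.hM S.maxC.1.1 y) =
    A θ * conj (A θ₀) * N from ?_, hc]
  · field_simp
  · rw [hN, Finset.mul_sum]
    refine Finset.sum_congr rfl fun s hs => ?_
    rw [hA θ s hs, hA θ₀ s hs, map_mul]
    ring

/-- The products of the values. -/
theorem gfun_mul_conj (hθ : S.Base θ₀) {y : R.subgroupOf (CQ Q)}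
    (hQ : Q ≤ Subgroup.zpowers ((y : CQ Q) : G)) (χ χ' : IrrCharacter G) :
    S.gfun θ₀ χ y * conj (S.gfun θ₀ χ' y) =
      (Nat.card (Subgroup.centralizer ({y} : Set (R.subgroupOf (CQ Q)))) : ℂ) *
        secSum p χ χ' ((y : CQ Q) : G) (lowPair S.hM S.hmax.1.1 (S.inP y)) /
        (Nat.card (CQ (Subgroup.zpowers ((y : CQ Q) : G))) : ℂ) := by
  classical
  obtain ⟨η, A, D, hη, hA, hD⟩ := S.exists_rankOne hQ
  set k : ℂ := (Nat.card (Subgroup.centralizer ({y} : Set (R.subgroupOf (CQ Q)))) : ℂ)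
  set m : ℂ := (Nat.card (CQ (Subgroup.zpowers (y : CQ Q))) : ℂ) with hm
  set N : ℂ := ∑ s ∈ regC p (y : CQ Q), η s * conj (η s) with hN
  have hsec : ∀ θ θ', secSum p θ θ' (y : CQ Q) (lowPair S.hM S.maxC.1.1 y) =
      A θ * conj (A θ') * N := by
    intro θ θ'
    rw [hN, Finset.mul_sum]
    refine Finset.sum_congr rfl fun s hs => ?_
    rw [hA θ s hs, hA θ' s hs, map_mul]
    ring
  have hsecG : ∀ ψ ψ', secSum p ψ ψ' ((y : CQ Q) : G) (lowPair S.hM S.hmax.1.1 (S.inP y)) =
      D ψ * conj (D ψ') * N := by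
    intro ψ ψ'
    refine Eq.trans (S.sum_regC_sub (y : CQ Q) hQ (fun s =>
      secPart ψ ((y : CQ Q) : G) (lowPair S.hM S.hmax.1.1 (S.inP y)) s *
        conj (secPart ψ' ((y : CQ Q) : G) (lowPair S.hM S.hmax.1.1 (S.inP y)) s))).symm ?_
    rw [hN, Finset.mul_sum]
    refine Finset.sum_congr rfl fun s hs => ?_
    rw [(hD ψ s hs).1, (hD ψ' s hs).1, map_mul]
    ring
  have hgf : ∀ ψ, S.gfun θ₀ ψ y = k * (D ψ * conj (A θ₀) * N) / m := by
    intro ψ
    rw [← (hD ψ 1 (S.one_mem_regC' _)).2, gfun]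
    simp only [contrib, hsec, Finset.sum_mul, Finset.mul_sum, Finset.sum_div]
    exact Finset.sum_congr rfl fun θ _ => by simp only [k, m]; ring
  have hone : k * (A θ₀ * conj (A θ₀) * N) / m = 1 := by
    rw [← hsec]
    exact hθ.norm y
  have hk : conj k = k := map_natCast _ _
  have hm' : conj m = m := map_natCast _ _
  have hNc : conj N = N := by
    simp only [hN, map_sum, map_mul, Complex.conj_conj, mul_comm]
  rw [hgf, hgf, hsecG, ← S.card_cq_sub (y : CQ Q) hQ, ← hm]
  simp only [map_div₀, map_mul, Complex.conj_conj, hk, hm', hNc]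
  linear_combination (k * (D χ * conj (D χ') * N) / m) * hone

end Setup

end CfsgLib.Block.Tame
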