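import Cfsg.Agent.Lib.Block.Tame.TameLocal

/-!
# 2-blocks with quaternion or semidihedral defect group: the invariants

With `r` members besides the four of height zero and the `h - 1` of height one, the 2-rank is `1 + r`
in the quaternion case and `2 + r` less the number of free classes of involutions in the semidihedral
case (`TFrame.invariants_quaternion`, `TFrame.invariants_semidihedral`).
-/

open Finset MonoidAlgebra
open scoped ComplexConjugate

set_option autoImplicit false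
set_option linter.unusedSectionVars false

namespace CfsgLib.Block.Tame

open Cfsg CfsgLib CfsgLib.Block CfsgLib.Block.CyclicDefect
open scoped Pair

universe u

variable {M : Ideal AlgInt} [M.IsMaximal] {G : Type u} [Group G] [Fintype G] [DecidableEq G]
  [Fintype (IrrCharacter G)] {B : Set (IrrCharacter G)} {P : Subgroup G}
  {e : Set (IrrCharacter (CQ P))}

namespace TFrame

variable {σ τ : G} {h t : ℕ} (F : TFrame M B P e σ τ h t)
include F

open scoped Classical in
/-- The members by height. -/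
theorem exists_counts {k : ℕ} (hk : h = 2 ^ k) : ∃ r : ℕ,
    Nat.card B = h + 3 + r ∧
    blockRank 2 B + blockRank 2 (lowPair F.hM F.hmax.1.1 (F.rot h)).2 + F.outCls.card = 4 + r ∧
    (blockRank 2 (lowPair F.hM F.hmax.1.1 (F.rot h)).2 = 1 → r = 0) ∧
    (blockRank 2 (lowPair F.hM F.hmax.1.1 (F.rot h)).2 = 2 → r ≤ 1) ∧
    (blockRank 2 (lowPair F.hM F.hmax.1.1 (F.rot h)).2 = 3 → r ≤ 2) ∧
    Nat.card {χ : IrrCharacter G // χ ∈ B ∧ blockHeight 2 B (χ : G → ℂ) = 0} = 4 ∧
    (2 ≤ k → Nat.card {χ : IrrCharacter G // χ ∈ B ∧ blockHeight 2 B (χ : G → ℂ) = 1} = h - 1) ∧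
    ∀ χ ∈ B, blockHeight 2 B (χ : G → ℂ) = 0 ∨ blockHeight 2 B (χ : G → ℂ) = 1 ∨
      blockHeight 2 B (χ : G → ℂ) = k := by
  obtain ⟨r, R, A, A', S, Ue, Uo, V, -, -, hS, hU, hX⟩ := F.exists_rows hk
  have h2h := F.pres.two_le
  have hk0 : k ≠ 0 := by rintro rfl; rw [hk] at h2h; norm_num at h2h
  have hsub : ∀ (c : ℕ) (T : Finset ↥(Finset.univ.filter fun χ : IrrCharacter G => χ ∈ B)),
      (∀ i : ↥(Finset.univ.filter fun χ : IrrCharacter G => χ ∈ B),
        i ∈ T ↔ blockHeight 2 B ((i : IrrCharacter G) : G → ℂ) = c) →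
      Nat.card {χ : IrrCharacter G // χ ∈ B ∧ blockHeight 2 B (χ : G → ℂ) = c} = T.card := by
    intro c T hT
    rw [Nat.card_eq_fintype_card, Fintype.card_subtype, ← Finset.card_map (s := T) (Function.Embedding.subtype _)]
    congr 1
    ext χ
    simp only [Finset.mem_filter, Finset.mem_univ, true_and, Finset.mem_map, Function.Embedding.coe_subtype]
    constructor
    · rintro ⟨hB, hc⟩
      exact ⟨⟨χ, Finset.mem_filter.2 ⟨Finset.mem_univ _, hB⟩⟩, (hT _).2 hc, rfl⟩
    · rintro ⟨i, hi, rfl⟩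
      exact ⟨(Finset.mem_filter.1 i.2).2, (hT i).1 hi⟩
  refine ⟨r, ?_, V.ranks, V.global_two, V.global_one, V.global_zero, ?_, fun h2 => ?_, fun χ hχ => ?_⟩
  · rw [show h + 3 + r = 4 + (h - 1) + r by omega, ← V.card, Fintype.card_coe,
      Nat.card_eq_fintype_card, Fintype.card_subtype]
  · rw [hsub 0 S hS, V.shape.four]
  · rw [hsub 1 (Ue ∪ Uo) fun i => ⟨hU i, fun h1 => ?_⟩]
    · have h1 := V.card_U
      omega
    by_contra hi
    by_cases hiS : i ∈ S
    · rw [(hS i).1 hiS] at h1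
      exact zero_ne_one h1
    · have := hX i (fun h' => (Finset.mem_union.1 h').elim hiS hi)
      omega
  · set i : ↥(Finset.univ.filter fun χ : IrrCharacter G => χ ∈ B) :=
      ⟨χ, Finset.mem_filter.2 ⟨Finset.mem_univ _, hχ⟩⟩ with hi
    by_cases hiS : i ∈ S
    · exact Or.inl ((hS i).1 hiS)
    by_cases hiU : i ∈ Ue ∪ Uo
    · exact Or.inr (Or.inl (hU i hiU))
    · exact Or.inr (Or.inr (hX i fun h' => (Finset.mem_union.1 h').elim hiS hiU))

open scoped Classical in
theorem invariants_quaternion {k : ℕ} (hk : h = 2 ^ k) (hq : τ * τ = σ ^ h) :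
    1 ≤ blockRank 2 B ∧ blockRank 2 B ≤ 3 ∧ Nat.card B = blockRank 2 B + h + 2 ∧
    Nat.card {χ : IrrCharacter G // χ ∈ B ∧ blockHeight 2 B (χ : G → ℂ) = 0} = 4 ∧
    (∀ χ ∈ B, blockHeight 2 B (χ : G → ℂ) = 0 ∨ blockHeight 2 B (χ : G → ℂ) = 1 ∨
      blockHeight 2 B (χ : G → ℂ) = k) ∧
    (2 ≤ k → Nat.card {χ : IrrCharacter G // χ ∈ B ∧ blockHeight 2 B (χ : G → ℂ) = 1} = h - 1) := by
  obtain ⟨r, hcard, hl, h1, h2, h3, hzero, hone, hall⟩ := F.exists_counts hk
  have hloc := F.local_rank.1 hq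
  have := F.card_outCls_le
  refine ⟨?_, ?_, ?_, hzero, hall, hone⟩ <;> omega

open scoped Classical in
theorem invariants_semidihedral {k : ℕ} (hk : h = 2 ^ k) (hsd : τ * τ = 1) :
    (Nat.card B = h + 3 ∨ Nat.card B = h + 4) ∧ 1 ≤ blockRank 2 B ∧ blockRank 2 B ≤ 3 ∧
    (blockRank 2 B = 3 → Nat.card B = h + 4 ∧ F.rot h ∈ F.cls (F.out 0)) ∧
    (blockRank 2 B = 1 → Nat.card B = h + 3) ∧
    Nat.card {χ : IrrCharacter G // χ ∈ B ∧ blockHeight 2 B (χ : G → ℂ) = 0} = 4 ∧
    (2 ≤ k → Nat.card {χ : IrrCharacter G // χ ∈ B ∧ blockHeight 2 B (χ : G → ℂ) = 1} = h - 1) ∧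
    ∀ χ ∈ B, blockHeight 2 B (χ : G → ℂ) = 0 ∨ blockHeight 2 B (χ : G → ℂ) = 1 ∨
      blockHeight 2 B (χ : G → ℂ) = k := by
  obtain ⟨r, hcard, hl, h1, h2, h3, hzero, hone, hall⟩ := F.exists_counts hk
  have hloc := F.local_rank.2 hsd
  have hm : F.outCls.card = (if F.out 0 ∈ F.free then 1 else 0) + (if F.out 1 ∈ F.free then 1 else 0) := by
    rw [F.card_outCls]
    have hne := F.out_one_not_mem hsd
    split_ifs <;> simp_all
  by_cases h0 : F.out 0 ∈ F.free
  · rw [if_pos h0] at hm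
    split_ifs at hm hloc <;>
    exact ⟨by omega, by omega, by omega, fun e0 => absurd e0 (by omega), fun e0 => by omega, hzero,
      hone, hall⟩
  · rw [if_neg h0] at hm
    have hJ : F.rot h ∈ F.cls (F.out 0) := by_contra fun hn => h0 ((F.out_zero_free_iff hsd).2 hn)
    split_ifs at hm hloc <;>
    exact ⟨by omega, by omega, by omega, fun e0 => ⟨by omega, hJ⟩, fun e0 => by omega, hzero,
      hone, hall⟩

end TFrame

end CfsgLib.Block.Tame
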