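import Cfsg.Agent.Lib.Block.NilpotentLocal
import Cfsg.Agent.Lib.Block.FusedSum

/-!
# Nilpotence of the subsections

The block of a subsection is nilpotent as soon as the regular elements normalizing a subgroup of
the defect group and fixing an element conjugate to the given one centralize that subgroup.
-/

open Finset MonoidAlgebra

set_option autoImplicit false
set_option linter.unusedSectionVars false

namespace CfsgLib.Block.Tame

open Cfsg CfsgLib CfsgLib.Block
open scoped Pair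

universe u

variable {p : ℕ} {M : Ideal AlgInt} [M.IsMaximal] {G : Type u} [Group G] [Fintype G] [DecidableEq G]
  [Fintype (IrrCharacter G)] {P : Subgroup G} {e : Set (IrrCharacter (CQ P))}
  {B : Set (IrrCharacter G)}

theorem isNilpotentBlock_low_fused (hM : IsPModular p M) (hmax : IsMaximalBrauerPair p M B P e) (y : P)
    (hfix : ∀ S : Subgroup G, S ≤ P → ∀ u : P, (u : G) ∈ S → u ∈ fusClass hM hmax.1.1 y →
      ∀ g ∈ Subgroup.normalizer (S : Set G), Commute g (u : G) → ¬ p ∣ orderOf g → g ∈ CQ S) :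
    IsNilpotentBlock p M (lowPair hM hmax.1.1 y).2 := by
  classical
  obtain ⟨f, hf⟩ := exists_eq_pairMk (a := lowPair hM hmax.1.1 y)
    (Q := Subgroup.zpowers (y : G)) rfl
  have hpair := lowPair_pairOf hM hmax y
  rw [hf] at hpair ⊢
  dsimp only at hpair ⊢
  set Q := Subgroup.zpowers (y : G) with hQ
  have := Fintype.ofFinite (IrrCharacter (CQ Q))
  refine ⟨hpair.1.2, fun R g hRg t htN _ hreg => ?_⟩
  have hn := nSub_of_isBrauerPairOf hM hpair.1 hRg
  have hB : IsBrauerPairOf p M B (Q ⊔ R.map (CQ Q).subtype) (irrEquiv (cqEquiv R) '' g) :=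
    (hn.isBrauerPairOf_iff hM).mpr hpair
  obtain ⟨x, hx⟩ := exists_conj_subpairLE hM hmax hB
  set S₀ := Q ⊔ R.map (CQ Q).subtype with hS₀
  have hSP : cjS x S₀ ≤ P := SubpairLE.le hx
  have hconj : ∀ v ∈ S₀, (t : G) * v * (t : G)⁻¹ ∈ S₀ := by
    have hle : cjS (t : G) S₀ ≤ S₀ := by
      show Subgroup.map _ _ ≤ _
      rw [hS₀, Subgroup.map_sup]
      refine sup_le (le_sup_left.trans' ?_) (le_sup_right.trans' ?_)
      · exact (cjS_eq_of_mem_normalizer (centralizer_le_normalizer' Q t.2)).le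
      · rintro _ ⟨_, ⟨r, hr, rfl⟩, rfl⟩
        exact ⟨t * r * t⁻¹, (Subgroup.mem_normalizer_iff.mp htN r).mp hr, by simp⟩
    exact fun v hv => hle (conj_mem_cjS.mpr hv)
  have htS : (t : G) ∈ Subgroup.normalizer (S₀ : Set G) :=
    mem_normalizer_of_cjS_eq (Subgroup.eq_of_le_of_card_ge
      (by rintro _ ⟨v, hv, rfl⟩; exact hconj v hv) (card_cjS _ _).ge)
  have hy : (y : G) ∈ S₀ := Subgroup.mem_sup_left (Subgroup.mem_zpowers _)
  have hc : Commute (t : G) (y : G) := mem_cq_zpowers_iff.mp t.2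
  have hfus : (⟨x * (y : G) * x⁻¹, hSP (conj_mem_cjS.mpr hy)⟩ : P) ∈ fusClass hM hmax.1.1 y := by
    simp only [fusClass, Finset.mem_filter, Finset.mem_univ, true_and]
    refine ⟨x, rfl, ?_⟩
    rw [hf]
    exact (SubpairLE.conj hM x (SubpairLE.step hM hn)).trans hx
  have h := hfix (cjS x S₀) hSP ⟨x * (y : G) * x⁻¹, hSP (conj_mem_cjS.mpr hy)⟩ (conj_mem_cjS.mpr hy) hfus
    (x * (t : G) * x⁻¹)
    ((mem_normalizer_cjS_iff).mpr (by simpa [mul_assoc] using htS))
    (hc.map (MulAut.conj x).toMonoidHom)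
    (by rwa [orderOf_conj_eq, Subgroup.orderOf_coe])
  refine Subgroup.mem_centralizer_iff.mpr fun r hr => Subtype.ext ?_
  have h1 := Subgroup.mem_centralizer_iff.mp h (x * (r : G) * x⁻¹)
    (conj_mem_cjS.mpr (Subgroup.mem_sup_right (Subgroup.mem_map_of_mem _ hr)))
  rw [Subgroup.coe_mul, Subgroup.coe_mul]
  exact (MulAut.conj x).injective (by simpa using h1)

theorem isNilpotentBlock_low (hM : IsPModular p M) (hmax : IsMaximalBrauerPair p M B P e) (y : P)
    (hfix : ∀ S : Subgroup G, S ≤ P → ∀ u ∈ S, IsConj (y : G) u →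
      ∀ g ∈ Subgroup.normalizer (S : Set G), Commute g u → ¬ p ∣ orderOf g → g ∈ CQ S) :
    IsNilpotentBlock p M (lowPair hM hmax.1.1 y).2 :=
  isNilpotentBlock_low_fused hM hmax y fun S hS u hu hfus => hfix S hS u hu (by
    obtain ⟨g, hg, -⟩ := (mem_fusClass hM hmax.1.1).mp hfus
    exact isConj_iff.mpr ⟨g, hg⟩)

end CfsgLib.Block.Tame
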