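import Cfsg.Agent.Lib.Block.Tame.DihedralPres
import Cfsg.Agent.Lib.Block.Tame.Fusion
import Cfsg.Agent.Lib.Block.Tame.LocalFun
import Cfsg.Agent.Lib.Block.Tame.NilpotentBelow
import Cfsg.Agent.Lib.Block.Rank

/-!
# 2-blocks with dihedral defect group: subsections, fusion and counting

The subsections at non-trivial elements are nilpotent, the rotations of order at least four are fused
only with their inverses, and `k(B) = l(B) + (h - 1) + m` with `m ≤ 3` classes of involutions
(`DFrame.exists_classes`).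
-/

open Finset MonoidAlgebra
open scoped ComplexConjugate

set_option autoImplicit false
set_option linter.unusedSectionVars false

namespace CfsgLib.Block.Tame

open Cfsg CfsgLib CfsgLib.Block
open scoped Pair

universe u

variable {M : Ideal AlgInt} [M.IsMaximal] {G : Type u} [Group G] [Fintype G] [DecidableEq G]

/-- A block with a maximal pair on a dihedral group. -/
structure DFrame (M : Ideal AlgInt) [M.IsMaximal] (B : Set (IrrCharacter G)) (P : Subgroup G)
    (e : Set (IrrCharacter (CQ P))) (σ τ : G) (h : ℕ) : Prop where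
  hM : IsPModular 2 M
  hmax : IsMaximalBrauerPair 2 M B P e
  pres : DPres P σ τ h

namespace DFrame

variable {B : Set (IrrCharacter G)} {P : Subgroup G} {e : Set (IrrCharacter (CQ P))} {σ τ : G}
  {h : ℕ} (F : DFrame M B P e σ τ h)
include F

/-- The rotations in `P`. -/
def rot (l : ℕ) : P := ⟨σ ^ l, pow_mem F.pres.memσ l⟩

/-- The chosen reflection in `P`. -/
def refl : P := ⟨τ, F.pres.memτ⟩

theorem fintype_rot_coe (l : ℕ) : ((F.rot l : P) : G) = σ ^ l := rfl

theorem cases_P (y : P) : ∃ l : ℕ, y = F.rot l ∨ y = F.refl * F.rot l := by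
  obtain ⟨l, e | e⟩ := F.pres.cases y y.2
  · exact ⟨l, Or.inl (Subtype.ext e)⟩
  · exact ⟨l, Or.inr (Subtype.ext e)⟩

theorem J_center : F.rot h ∈ Subgroup.center P :=
  Subgroup.mem_center_iff.mpr fun v => Subtype.ext (F.pres.J_comm v.2).eq

theorem fused_of_conj (u : P) (y : P) : u * y * u⁻¹ ∈ fusClass F.hM F.hmax.1.1 y := by
  classical
  simp only [fusClass, Finset.mem_filter, Finset.mem_univ, true_and]
  exact ⟨(u : G), by simp, below_conj F.hM (lowPair_below F.hM F.hmax.1.1 y)
    (cjP_top_of_mem F.hM F.hmax.1.1 u.2)⟩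

theorem order_eq_of_fused {y z : P} (hz : z ∈ fusClass F.hM F.hmax.1.1 y) :
    orderOf (z : G) = orderOf (y : G) := by
  obtain ⟨g, hg, -⟩ := (mem_fusClass F.hM F.hmax.1.1).mp hz
  rw [← hg, orderOf_conj_eq]

theorem sq_of_fused {y z : P} (hz : z ∈ fusClass F.hM F.hmax.1.1 y) :
    (z : G) * (z : G) = 1 ↔ (y : G) * (y : G) = 1 := by
  rw [← pow_two, ← pow_two, ← orderOf_dvd_iff_pow_eq_one, ← orderOf_dvd_iff_pow_eq_one,
    F.order_eq_of_fused hz]

variable [Fintype (IrrCharacter G)]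

theorem nilpotent_low {y : P} (hy : y ≠ 1) :
    IsNilpotentBlock 2 M (lowPair F.hM F.hmax.1.1 y).2 := by
  refine isNilpotentBlock_low F.hM F.hmax y fun S hS u hu hc g hg hgu hodd => ?_
  refine F.pres.odd_fix hS hu (fun h1 => hy (Subtype.ext ?_)) hg hgu hodd
  rw [h1] at hc
  exact isConj_one_left.mp hc

theorem rank_low {y : P} (hy : y ≠ 1) : blockRank 2 (lowPair F.hM F.hmax.1.1 y).2 = 1 := by
  have := Fintype.ofFinite (IrrCharacter (CQ (lowPair F.hM F.hmax.1.1 y).1))
  exact (blockRank_eq_one_of_unitRow (by norm_num)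
    (isNilpotentBlock_unitRow F.hM (F.nilpotent_low hy))).1

/-- The defect group of the subsection of a rotation of order at least four. -/
theorem defect_rot {l : ℕ} (hl : ¬ h ∣ l) :
    IsDefectGroup 2 M (lowPair F.hM F.hmax.1.1 (F.rot l)).2
      ((P ⊓ CQ (lowPair F.hM F.hmax.1.1 (F.rot l)).1).subgroupOf
        (CQ (lowPair F.hM F.hmax.1.1 (F.rot l)).1)) := by
  classical
  obtain ⟨b, hb⟩ := exists_eq_pairMk (a := lowPair F.hM F.hmax.1.1 (F.rot l))
    (Q := Subgroup.zpowers (σ ^ l)) rfl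
  have hle := lowPair_below F.hM F.hmax.1.1 (F.rot l)
  rw [hb] at hle ⊢
  dsimp only
  set Q := Subgroup.zpowers (σ ^ l) with hQ
  have := Fintype.ofFinite (IrrCharacter (CQ Q))
  have hpair := isBrauerPair_of_below F.hM F.hmax.1.1 hle
  have hLC := isLocalBlock_self (M := M) (Q := Q) hpair.2
  obtain ⟨D, hD⟩ := exists_defectGroup F.hM hLC.block
  refine isDefectGroup_of_conjLE_card F.hM hpair.2 hD (hLC.inf_conjLE F.hM hpair F.hmax.1.1 hle hD) ?_
  obtain ⟨x, hx, hDx⟩ := hLC.exists_conj_le F.hM hpair F.hmax hle hD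
  have hxmem : x * σ ^ l * x⁻¹ ∈ P :=
    SubpairLE.le hx (conj_mem_cjS.mpr (Subgroup.mem_zpowers _))
  obtain ⟨m, hm, hmh⟩ := F.pres.rot_of_sq hxmem (by
    rw [show x * σ ^ l * x⁻¹ * (x * σ ^ l * x⁻¹) = x * (σ ^ l * σ ^ l) * x⁻¹ by group, Ne,
      conj_eq_one_iff]
    exact (F.pres.sq_ne_iff l).2 hl)
  have hle2 : cjS x (D.map (CQ Q).subtype) ≤ Subgroup.zpowers σ := by
    intro v hv
    rw [← F.pres.inf_centralizer hmh]
    refine ⟨hDx hv, Subgroup.mem_centralizer_singleton_iff.mpr ?_⟩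
    obtain ⟨d, hd, rfl⟩ := hv
    have hc : Commute d (σ ^ l) := mem_cq_zpowers_iff.mp (Subgroup.map_subtype_le D hd)
    rw [← hm]
    exact (hc.map (MulAut.conj x).toMonoidHom).eq
  have h2 := Subgroup.card_le_of_le hle2
  rw [card_cjS, Subgroup.card_map_of_injective Subtype.val_injective] at h2
  refine h2.trans ?_
  rw [card_subgroupOf_inf]
  refine Subgroup.card_le_of_le (le_inf F.pres.zpowers_le ?_)
  rw [Subgroup.zpowers_le]
  exact mem_cq_zpowers_iff.mpr ((Commute.refl σ).pow_right l)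

/-- Rotations of order at least four are fused only with their inverses. -/
theorem fus_rot {l : ℕ} (hl : ¬ h ∣ l) :
    fusClass F.hM F.hmax.1.1 (F.rot l) = {F.rot l, (F.rot l)⁻¹} := by
  classical
  ext z
  simp only [Finset.mem_insert, Finset.mem_singleton]
  constructor
  · intro hz
    obtain ⟨m, hm, hmh⟩ := F.pres.rot_of_sq z.2 (by
      rw [Ne, F.sq_of_fused hz]; exact (F.pres.sq_ne_iff l).2 hl)
    obtain rfl : z = F.rot m := Subtype.ext hm
    obtain ⟨u, hu, hu'⟩ := exists_conj_of_fused F.hM F.hmax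
      (fun t ht _ hodd => F.pres.odd_normalizer ht hodd) hz (F.defect_rot hmh) fun v hv => by
        obtain ⟨j, rfl | rfl⟩ := F.pres.cases v hv
        · exact ⟨1, one_mem _, 1, by
            simp [fintype_rot_coe, (Commute.pow_pow_self σ j l).eq, mul_assoc],
            by simp⟩
        · exact ⟨τ, F.pres.memτ, -1, by rw [fintype_rot_coe, F.pres.conjτσ, zpow_neg_one],
            by rw [fintype_rot_coe, F.pres.conjτ, zpow_neg_one]⟩
    obtain ⟨j, rfl | rfl⟩ := F.pres.cases u hu
    · refine Or.inl (Subtype.ext ?_)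
      rw [← hu', fintype_rot_coe, (Commute.pow_pow_self σ j l).eq, mul_inv_cancel_right]
    · refine Or.inr (Subtype.ext ?_)
      rw [← hu', fintype_rot_coe, F.pres.conjτσ]
      rfl
  · rintro (rfl | rfl)
    · exact self_mem_fusClass F.hM F.hmax.1.1 _
    · convert F.fused_of_conj F.refl (F.rot l) using 1
      exact Subtype.ext (F.pres.conjτ l).symm

/-- A nilpotent local setup at the central involution. -/
theorem exists_setup : ∃ f : Set (IrrCharacter (CQ (Subgroup.zpowers (σ ^ h)))),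
    Setup 2 M B P e (Subgroup.zpowers (σ ^ h)) P f e := by
  classical
  obtain ⟨b, hb, -, -, hPC, hdef⟩ := exists_major_lowPair F.hM F.hmax F.J_center
  simp only [fintype_rot_coe] at hPC hdef
  have hle := lowPair_below F.hM F.hmax.1.1 (F.rot h)
  have hnil := F.nilpotent_low (y := F.rot h)
    (fun h1 => F.pres.sigma_h_ne (congrArg Subtype.val h1))
  rw [hb] at hle hnil
  obtain ⟨g, hg, hgP⟩ := SubpairLE.exists_nSub_mid F.hM F.hmax.1.1
    (hle : SubpairLE 2 M _ b P e) (SubpairLE.le hle) le_rfl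
    (hPC.trans (centralizer_le_normalizer' _))
  obtain rfl : g = e := SubpairLE.eq_of_eq F.hM hgP
  refine ⟨b, F.hM, F.hmax, Relation.ReflTransGen.refl, hg, hPC, ?_, hnil⟩
  rwa [inf_eq_left.mpr hPC] at hdef

theorem sum_rank_low {y : P} (hy : y ≠ 1) [DecidablePred (· ∈ B)] :
    ∑ χ ∈ Finset.univ.filter (· ∈ B), secSum 2 χ χ (y : G) (lowPair F.hM F.hmax.1.1 y) =
      (Nat.card (CQ (Subgroup.zpowers (y : G))) : ℂ) := by
  rw [sum_secSum_eq_rank F.hM (exists_pElement_orderOf F.hmax.1.1 y F.hM.1)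
    (lowPair_fst F.hM F.hmax.1.1 y) (lowPair_pairOf F.hM F.hmax y), F.rank_low hy, Nat.cast_one,
    mul_one, lowPair_fst]

open scoped Classical in
/-- The count of the members, with the classes of involutions. -/
theorem exists_invol_classes : ∃ m : ℕ, 1 ≤ m ∧ m ≤ 3 ∧
    Nat.card B = blockRank 2 B + (h - 1) + m ∧
    (m ≤ 1 → ∀ y : P, y ≠ 1 → (y : G) * (y : G) = 1 →
      y ∈ fusClass F.hM F.hmax.1.1 (F.rot h)) := by
  have := Fintype.ofFinite (ConjClasses G)
  letI := Fintype.ofFinite P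
  set he := F.hmax.1.1
  set cls : P → Finset P := fun y => fusClass F.hM he y with hcls
  have hk : (Nat.card B : ℂ) = (blockRank 2 B : ℂ) +
      ∑ y ∈ Finset.univ.erase (1 : P), ((cls y).card : ℂ)⁻¹ := by
    have hG : (Nat.card G : ℂ) ≠ 0 := Nat.cast_ne_zero.mpr Nat.card_pos.ne'
    have h1 : (Nat.card B : ℂ) = ∑ χ ∈ Finset.univ.filter (fun χ : IrrCharacter G => χ ∈ B),
        ∑ y : P, secSum 2 χ χ (y : G) (lowPair F.hM he y) /
          ((Nat.card (CQ (Subgroup.zpowers (y : G))) : ℂ) * ((cls y).card : ℂ)) := by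
      rw [Finset.sum_congr rfl fun χ hχ => (sum_secSum_fused F.hM F.hmax
        (Finset.mem_filter.mp hχ).2 (Finset.mem_filter.mp hχ).2).trans (if_pos rfl), Finset.sum_const,
        nsmul_one, Nat.card_eq_fintype_card, Fintype.card_subtype]
    rw [h1, Finset.sum_comm, ← Finset.add_sum_erase _ _ (Finset.mem_univ (1 : P))]
    congr 1
    · have hc1 : cls 1 = {1} := by
        ext z
        simp only [Finset.mem_singleton, hcls]
        refine ⟨fun hz => Subtype.ext ?_, fun hz => hz ▸ self_mem_fusClass F.hM he 1⟩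
        have h2 := F.order_eq_of_fused hz
        rw [OneMemClass.coe_one, orderOf_one, orderOf_eq_one_iff] at h2
        exact h2
      have hCG : Nat.card (CQ (Subgroup.zpowers ((1 : P) : G))) = Nat.card G := by
        rw [show CQ (Subgroup.zpowers ((1 : P) : G)) = ⊤ from eq_top_iff.mpr fun t _ =>
          mem_cq_zpowers_iff.mpr (Commute.one_right t), Subgroup.card_top]
      rw [blockRank_eq_sum_regInner F.hM (IsBlockUnion.of_isPBlock F.hmax.1.2.1), hc1, hCG,
        Finset.card_singleton, Nat.cast_one, mul_one]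
      refine Finset.sum_congr rfl fun χ hχ => ?_
      rw [OneMemClass.coe_one, secSum_one_eq F.hM F.hmax (Finset.mem_filter.mp hχ).2
        (Finset.mem_filter.mp hχ).2, mul_div_cancel_left₀ _ hG]
    · refine Finset.sum_congr rfl fun y hy => ?_
      rw [← Finset.sum_div, F.sum_rank_low (Finset.ne_of_mem_erase hy), ← div_div,
        div_self (Nat.cast_ne_zero.mpr Nat.card_pos.ne'), one_div]
  -- the classes of the non-trivial elements
  have hpart : ∀ s : Finset P, (∀ y ∈ s, cls y ⊆ s) →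
      ∑ y ∈ s, ((cls y).card : ℂ)⁻¹ = ((s.image cls).card : ℂ) := by
    intro s hs
    rw [Finset.card_eq_sum_ones, Nat.cast_sum,
      ← Finset.sum_fiberwise_of_maps_to (t := s.image cls) fun y hy => Finset.mem_image_of_mem cls hy]
    refine Finset.sum_congr rfl fun K hK => ?_
    obtain ⟨y, hy, rfl⟩ := Finset.mem_image.mp hK
    have hfib : s.filter (fun z => cls z = cls y) = cls y := by
      ext z
      simp only [Finset.mem_filter]
      exact ⟨fun hz => hz.2 ▸ self_mem_fusClass F.hM he z,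
        fun hz => ⟨hs y hy hz, fusClass_eq_of_mem F.hM he hz⟩⟩
    rw [Finset.sum_congr rfl fun z hz => by rw [(Finset.mem_filter.mp hz).2], Finset.sum_const,
      hfib, nsmul_eq_mul, Nat.cast_one]
    exact mul_inv_cancel₀ (Nat.cast_ne_zero.mpr
      (Finset.card_pos.mpr ⟨y, self_mem_fusClass F.hM he y⟩).ne')
  set S4 := (Finset.univ.erase (1 : P)).filter (fun y : P => (y : G) * (y : G) ≠ 1) with hS4
  set S2 := (Finset.univ.erase (1 : P)).filter (fun y : P => ¬ (y : G) * (y : G) ≠ 1) with hS2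
  have hrot : ∀ y ∈ S4, ∃ l : ℕ, ¬ h ∣ l ∧ y = F.rot l := by
    intro y hy
    obtain ⟨l, hl, hlh⟩ := F.pres.rot_of_sq y.2 (Finset.mem_filter.mp hy).2
    exact ⟨l, hlh, Subtype.ext hl⟩
  have hmem4 : ∀ {j : ℕ}, 0 < j → j < h → F.rot j ∈ S4 := by
    intro j hj0 hj
    have hsq : σ ^ j * σ ^ j ≠ 1 := (F.pres.sq_ne_iff j).2 fun hd => by
      have := Nat.le_of_dvd hj0 hd
      omega
    refine Finset.mem_filter.mpr ⟨Finset.mem_erase.mpr ⟨fun e1 => hsq ?_, Finset.mem_univ _⟩, hsq⟩
    have : σ ^ j = 1 := congrArg Subtype.val e1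
    rw [this, mul_one]
  have h4 : (S4.image cls).card = h - 1 := by
    have : S4.image cls = (Finset.Ioo 0 h).image (fun j => cls (F.rot j)) := by
      ext K
      simp only [Finset.mem_image, Finset.mem_Ioo]
      constructor
      · rintro ⟨y, hy, rfl⟩
        obtain ⟨l, hl, rfl⟩ := hrot y hy
        have hlt := Nat.mod_lt l (show 2 * h > 0 by have := F.pres.two_le; omega)
        set r := l % (2 * h) with hr
        have hrl : F.rot r = F.rot l := Subtype.ext (F.pres.pow_mod l)
        have hr0 : r ≠ 0 ∧ r ≠ h := by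
          refine ⟨fun h0 => hl ?_, fun h0 => hl ?_⟩
          · exact (dvd_mul_left h 2).trans (Nat.dvd_of_mod_eq_zero h0)
          · rw [← Nat.div_add_mod l (2 * h), ← hr, h0]
            exact dvd_add ((dvd_mul_left h 2).mul_right _) dvd_rfl
        rcases Nat.lt_or_ge r h with hlt' | hge
        · exact ⟨r, ⟨by omega, hlt'⟩, by rw [hrl]⟩
        · refine ⟨2 * h - r, ⟨by omega, by omega⟩, ?_⟩
          have hinv : F.rot (2 * h - r) = (F.rot l)⁻¹ := by
            rw [← hrl]
            refine eq_inv_of_mul_eq_one_left (Subtype.ext ?_)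
            show σ ^ (2 * h - r) * σ ^ r = 1
            rw [← pow_add, F.pres.pow_eq_one, Nat.sub_add_cancel hlt.le]
          rw [hinv]
          refine fusClass_eq_of_mem F.hM he ?_
          rw [F.fus_rot hl]
          exact Finset.mem_insert_of_mem (Finset.mem_singleton_self _)
      · rintro ⟨j, ⟨hj0, hj⟩, rfl⟩
        exact ⟨F.rot j, hmem4 hj0 hj, rfl⟩
    rw [this, Finset.card_image_of_injOn, Nat.card_Ioo]
    · omega
    intro i hi j hj hij
    simp only [Finset.coe_Ioo, Set.mem_Ioo] at hi hj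
    have hjh : ¬ h ∣ j := fun hd => by have := Nat.le_of_dvd hj.1 hd; omega
    have hmem : F.rot i ∈ cls (F.rot j) := by
      rw [show cls (F.rot j) = cls (F.rot i) from hij.symm]
      exact self_mem_fusClass F.hM he _
    simp only [hcls] at hmem
    rw [F.fus_rot hjh] at hmem
    have hinj : ∀ a b : ℕ, a < 2 * h → b < 2 * h → σ ^ a = σ ^ b → a = b := fun a b ha hb hab => by
      rw [pow_inj_mod, F.pres.orderσ, Nat.mod_eq_of_lt ha, Nat.mod_eq_of_lt hb] at hab
      exact hab
    rcases Finset.mem_insert.mp hmem with e1 | e1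
    · exact hinj i j (by omega) (by omega) (congrArg Subtype.val e1)
    · exfalso
      have e2 : σ ^ i = (σ ^ j)⁻¹ := congrArg Subtype.val (Finset.mem_singleton.mp e1)
      have e3 : σ ^ (i + j) = 1 := by rw [pow_add, e2, inv_mul_cancel]
      have := Nat.le_of_dvd (by omega) (F.pres.pow_eq_one.1 e3)
      omega
  have hclosed : ∀ y ∈ Finset.univ.erase (1 : P), cls y ⊆ Finset.univ.erase (1 : P) := by
    intro y hy z hz
    refine Finset.mem_erase.mpr ⟨fun hz1 => Finset.ne_of_mem_erase hy (Subtype.ext ?_), Finset.mem_univ _⟩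
    have h2 := F.order_eq_of_fused hz
    rw [hz1, OneMemClass.coe_one, orderOf_one] at h2
    exact orderOf_eq_one_iff.mp h2.symm
  have hclosed4 : ∀ y ∈ S4, cls y ⊆ S4 := fun y hy z hz => Finset.mem_filter.mpr
    ⟨hclosed y (Finset.mem_filter.mp hy).1 hz,
      fun e1 => (Finset.mem_filter.mp hy).2 ((F.sq_of_fused hz).mp e1)⟩
  have hclosed2 : ∀ y ∈ S2, cls y ⊆ S2 := fun y hy z hz => Finset.mem_filter.mpr
    ⟨hclosed y (Finset.mem_filter.mp hy).1 hz, fun e1 => (Finset.mem_filter.mp hy).2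
      fun e2 => e1 ((F.sq_of_fused hz).mpr e2)⟩
  refine ⟨(S2.image cls).card, ?_, ?_, ?_, fun hle y hy hy2 => ?_⟩
  · refine Finset.card_pos.mpr ⟨_, Finset.mem_image_of_mem cls (?_ : F.rot h ∈ S2)⟩
    exact Finset.mem_filter.mpr ⟨Finset.mem_erase.mpr
      ⟨fun e1 => F.pres.sigma_h_ne (congrArg Subtype.val e1), Finset.mem_univ _⟩,
      not_not.mpr F.pres.sigma_h_sq⟩
  · refine (Finset.card_le_card (t := {cls (F.rot h), cls F.refl, cls (F.refl * F.rot 1)})
      fun K hK => ?_).trans Finset.card_le_three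
    obtain ⟨y, hy, rfl⟩ := Finset.mem_image.mp hK
    obtain ⟨hy1, hy2⟩ := Finset.mem_filter.mp hy
    simp only [Finset.mem_insert, Finset.mem_singleton]
    obtain ⟨i, rfl | rfl⟩ := F.cases_P y
    · refine Or.inl (congrArg cls (Subtype.ext ?_))
      refine F.pres.eq_J (fun e1 => Finset.ne_of_mem_erase hy1 (Subtype.ext e1)) ?_
      by_contra hd
      exact hy2 ((F.pres.sq_ne_iff i).2 hd)
    · right
      obtain ⟨k, rfl | rfl⟩ := Nat.even_or_odd' i
      · refine Or.inl (fusClass_eq_of_mem F.hM he ?_)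
        convert F.fused_of_conj (F.rot k)⁻¹ F.refl using 1
        refine Subtype.ext ?_
        show τ * σ ^ (2 * k) = (σ ^ k)⁻¹ * τ * (σ ^ k)⁻¹⁻¹
        calc τ * σ ^ (2 * k) = (τ * σ ^ k * τ⁻¹) * τ * σ ^ k := by group
          _ = _ := by rw [F.pres.conjτ]; group
      · refine Or.inr (fusClass_eq_of_mem F.hM he ?_)
        convert F.fused_of_conj (F.rot k)⁻¹ (F.refl * F.rot 1) using 1
        refine Subtype.ext ?_
        show τ * σ ^ (2 * k + 1) = (σ ^ k)⁻¹ * (τ * σ ^ 1) * (σ ^ k)⁻¹⁻¹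
        calc τ * σ ^ (2 * k + 1) = (τ * σ ^ k * τ⁻¹) * τ * σ * σ ^ k := by group
          _ = _ := by rw [F.pres.conjτ]; group
  · have h5 : ∑ y ∈ Finset.univ.erase (1 : P), ((cls y).card : ℂ)⁻¹ =
        (((h - 1) + (S2.image cls).card : ℕ) : ℂ) := by
      rw [← Finset.sum_filter_add_sum_filter_not _ (fun y : P => (y : G) * (y : G) ≠ 1),
        hpart S4 hclosed4, hpart S2 hclosed2, h4, ← Nat.cast_add]
    rw [h5, ← Nat.cast_add, Nat.cast_inj, ← add_assoc] at hk
    exact hk
  · have hy' : y ∈ S2 :=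
      Finset.mem_filter.mpr ⟨Finset.mem_erase.mpr ⟨hy, Finset.mem_univ _⟩, not_not.mpr hy2⟩
    have hJ' : F.rot h ∈ S2 := Finset.mem_filter.mpr ⟨Finset.mem_erase.mpr
      ⟨fun e1 => F.pres.sigma_h_ne (congrArg Subtype.val e1), Finset.mem_univ _⟩,
      not_not.mpr F.pres.sigma_h_sq⟩
    have h1 : cls y = cls (F.rot h) :=
      Finset.card_le_one.mp hle _ (Finset.mem_image_of_mem cls hy') _ (Finset.mem_image_of_mem cls hJ')
    show y ∈ cls (F.rot h)
    rw [← h1]
    exact self_mem_fusClass F.hM he y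

open scoped Classical in
/-- The count of the members. -/
theorem exists_classes : ∃ m : ℕ, 1 ≤ m ∧ m ≤ 3 ∧
    Nat.card B = blockRank 2 B + (h - 1) + m := by
  obtain ⟨m, h1, h2, h3, -⟩ := F.exists_invol_classes
  exact ⟨m, h1, h2, h3⟩

end DFrame

end CfsgLib.Block.Tame
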