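import Mathlib

/-!
# The vectors of a block with dihedral defect group

Integral vectors `w j` of square length `3` and `wh` of square length `4` with mutual products `2`,
orthogonal to non-zero `d`, with all `wh + 2 ∑ (-1) ^ (j + 1) w j` non-zero: either the common shape
or one of two configurations with three `w j` (`exists_config`).
-/

open Finset

set_option autoImplicit false
set_option linter.unusedSectionVars false

namespace CfsgLib.Block.Tame.Config

variable {ι : Type*} [Fintype ι] [DecidableEq ι]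

/-- The alternating sum. -/
def fJ {n : ℕ} (wh : ι → ℤ) (w : Fin n → ι → ℤ) (i : ι) : ℤ :=
  wh i + 2 * ∑ j : Fin n, (-1) ^ ((j : ℕ) + 1) * w j i

theorem alt_sum {n : ℕ} (hn : Odd n) : ∑ j : Fin n, (-1 : ℤ) ^ ((j : ℕ) + 1) = -1 := by
  obtain ⟨k, rfl⟩ := hn
  rw [Fin.sum_univ_eq_sum_range (fun j => (-1 : ℤ) ^ (j + 1)), Finset.sum_range_succ]
  have h : ∀ m : ℕ, ∑ j ∈ Finset.range (2 * m), (-1 : ℤ) ^ (j + 1) = 0 := by
    intro m
    induction m with
    | zero => simp
    | succ m ih =>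
      rw [show 2 * (m + 1) = 2 * m + 1 + 1 by ring, Finset.sum_range_succ, Finset.sum_range_succ, ih]
      ring
  rw [h k, zero_add, pow_succ, pow_mul]
  norm_num

theorem small_of_sq {z : ℤ} {m : ℤ} (h : z * z ≤ m) (hm : m ≤ 3) : z = 1 ∨ z = -1 ∨ z = 0 := by
  have h1 : -1 ≤ z := by nlinarith
  have h2 : z ≤ 1 := by nlinarith
  omega

/-- A vector of square length three. -/
theorem exists_triple (w : ι → ℤ) (h : ∑ i, w i * w i = 3) :
    ∃ T : Finset ι, T.card = 3 ∧ (∀ i ∈ T, w i = 1 ∨ w i = -1) ∧ ∀ i ∉ T, w i = 0 := by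
  have hs : ∀ i, w i = 1 ∨ w i = -1 ∨ w i = 0 := fun i => small_of_sq
    ((Finset.single_le_sum (fun j _ => mul_self_nonneg (w j)) (Finset.mem_univ i)).trans h.le) le_rfl
  refine ⟨Finset.univ.filter (w · ≠ 0), ?_, fun i hi => ?_, fun i hi => by simpa using hi⟩
  · have hterm : ∀ i, w i * w i = if w i ≠ 0 then 1 else 0 := fun i => by
      rcases hs i with e | e | e <;> simp [e]
    rw [Finset.sum_congr rfl fun i _ => hterm i, Finset.sum_boole] at h
    exact_mod_cast h
  · have := hs i
    have h3 : w i ≠ 0 := by simpa using hi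
    tauto

theorem sum_on {w v : ι → ℤ} {T : Finset ι} (hT : ∀ i ∉ T, w i = 0) :
    ∑ i, w i * v i = ∑ i ∈ T, w i * v i :=
  (Finset.sum_subset (Finset.subset_univ _) fun i _ hi => by rw [hT i hi, zero_mul]).symm

theorem sum_three {f : ι → ℤ} {a b c : ι} (hab : a ≠ b) (hac : a ≠ c) (hbc : b ≠ c) :
    ∑ i ∈ ({a, b, c} : Finset ι), f i = f a + f b + f c := by
  rw [Finset.sum_insert (by simp [hab, hac]), Finset.sum_pair hbc, add_assoc]

/-- Two vectors of square length three with product two share two entries and no third. -/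
theorem meet_two (w v : ι → ℤ) (T U : Finset ι) (hTc : T.card = 3) (hT : ∀ i ∈ T, w i = 1 ∨ w i = -1)
    (hT0 : ∀ i ∉ T, w i = 0) (hU : ∀ i ∈ U, v i = 1 ∨ v i = -1) (hU0 : ∀ i ∉ U, v i = 0)
    (h : ∑ i, w i * v i = 2) :
    ∃ a b c, a ≠ b ∧ a ≠ c ∧ b ≠ c ∧ T = {a, b, c} ∧ a ∈ U ∧ b ∈ U ∧ c ∉ U ∧ v a = w a ∧ v b = w b := by
  obtain ⟨x, y, z, hxy, hxz, hyz, rfl⟩ := Finset.card_eq_three.1 hTc
  rw [sum_on hT0, sum_three hxy hxz hyz] at h
  have key : ∀ i ∈ ({x, y, z} : Finset ι),
      (i ∈ U ∧ v i = w i ∧ w i * v i = 1) ∨ (i ∈ U ∧ w i * v i = -1) ∨ (i ∉ U ∧ w i * v i = 0) := by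
    intro i hi
    by_cases hiU : i ∈ U
    · rcases hT i hi with e | e <;> rcases hU i hiU with e' | e' <;> simp [e, e', hiU]
    · exact Or.inr (Or.inr ⟨hiU, by rw [hU0 i hiU, mul_zero]⟩)
  rcases key x (by simp) with ⟨a1, a2, a3⟩ | ⟨a1, a3⟩ | ⟨a1, a3⟩ <;>
    rcases key y (by simp) with ⟨b1, b2, b3⟩ | ⟨b1, b3⟩ | ⟨b1, b3⟩ <;>
      rcases key z (by simp) with ⟨c1, c2, c3⟩ | ⟨c1, c3⟩ | ⟨c1, c3⟩ <;>
        first
        | omega
        | exact ⟨x, y, z, hxy, hxz, hyz, rfl, a1, b1, c1, a2, b2⟩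
        | exact ⟨x, z, y, hxz, hxy, hyz.symm, by ext; simp; tauto, a1, c1, b1, a2, c2⟩
        | exact ⟨y, z, x, hyz, hxy.symm, hxz.symm, by ext; simp; tauto, b1, c1, a1, b2, c2⟩

/-- The shape of the general case. -/
def IsCommon (n : ℕ) (f : ι → ℤ) : Prop :=
  Fintype.card ι = n + 4 ∧ (Finset.univ.filter fun i => f i = 1 ∨ f i = -1).card = 4 ∧
    ∀ i, f i = 1 ∨ f i = -1 ∨ f i = 2 ∨ f i = -2

/-- What is used of the two special configurations. -/
def IsSpecial (wh : ι → ℤ) (w : Fin 3 → ι → ℤ) (d : ι → ℤ) : Prop :=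
  ∃ i₀ : ι, (fJ wh w i₀ = 1 ∨ fJ wh w i₀ = -1) ∧ (∀ i, d i₀ ∣ d i) ∧
    ∑ i, (fJ wh w i : ℚ) * (w 0 i - w 2 i) * wh i / d i = 0 ∧
    ((3 * d i₀ : ℚ) * ∑ i, (fJ wh w i : ℚ) * (2 * (w 0 i - w 2 i) ^ 2 + (wh i : ℚ) ^ 2) / d i = 8 ∨
      (3 * d i₀ : ℚ) * ∑ i, (fJ wh w i : ℚ) * (2 * (w 0 i - w 2 i) ^ 2 + (wh i : ℚ) ^ 2) / d i = -8)

theorem common_of_data {n : ℕ} (hodd : Odd n) (wh : ι → ℤ) (w : Fin n → ι → ℤ)
    (a b c e : ι) (x : Fin n → ι) (hab : a ≠ b) (hac : a ≠ c) (hae : a ≠ e) (hbc : b ≠ c) (hbe : b ≠ e)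
    (hce : c ≠ e) (hxinj : Function.Injective x)
    (hxne : ∀ j, x j ≠ a ∧ x j ≠ b ∧ x j ≠ c ∧ x j ≠ e)
    (hh : ∀ i ∈ ({a, b, c, e} : Finset ι), wh i = 1 ∨ wh i = -1)
    (hh0 : ∀ i ∉ ({a, b, c, e} : Finset ι), wh i = 0) (hw : ∀ j, w j a = wh a ∧ w j b = wh b)
    (hwx : ∀ j, w j (x j) = 1 ∨ w j (x j) = -1)
    (hw0 : ∀ j i, i ≠ a → i ≠ b → i ≠ x j → w j i = 0)
    (hne : ∀ i, fJ wh w i ≠ 0) : IsCommon n (fJ wh w) := by
  have hab' : ∀ i, (i = a ∨ i = b) → fJ wh w i = - wh i := by
    rintro i (rfl | rfl)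
    · rw [fJ, Finset.sum_congr rfl fun j _ => by rw [(hw j).1], ← Finset.sum_mul, alt_sum hodd]; ring
    · rw [fJ, Finset.sum_congr rfl fun j _ => by rw [(hw j).2], ← Finset.sum_mul, alt_sum hodd]; ring
  have hcd : ∀ i, (i = c ∨ i = e) → fJ wh w i = wh i := by
    intro i hi
    rw [fJ, Finset.sum_eq_zero fun j _ => by
      rw [hw0 j i (by rcases hi with rfl | rfl; exacts [hac.symm, hae.symm])
        (by rcases hi with rfl | rfl; exacts [hbc.symm, hbe.symm])
        (by rcases hi with rfl | rfl; exacts [(hxne j).2.2.1.symm, (hxne j).2.2.2.symm]), mul_zero]]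
    ring
  have hx : ∀ j, fJ wh w (x j) = 2 ∨ fJ wh w (x j) = -2 := by
    intro j
    rw [fJ, hh0 _ (by simp [(hxne j).1, (hxne j).2.1, (hxne j).2.2.1, (hxne j).2.2.2]),
      Finset.sum_eq_single j (fun k _ hk => by
        rw [hw0 k _ (hxne j).1 (hxne j).2.1 fun e => hk (hxinj e.symm), mul_zero])
        (by simp), zero_add]
    rcases neg_one_pow_eq_or ℤ ((j : ℕ) + 1) with p | p <;> rcases hwx j with q | q <;> rw [p, q] <;>
      norm_num
  have hall : ∀ i, i ∈ ({a, b, c, e} : Finset ι) ∪ Finset.univ.image x := by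
    intro i
    by_contra hi
    simp only [Finset.mem_union, Finset.mem_image, Finset.mem_univ, true_and, not_or, not_exists] at hi
    refine hne i ?_
    rw [fJ, hh0 i hi.1, Finset.sum_eq_zero fun j _ => ?_, mul_zero, add_zero]
    have h1 := hi.1
    simp only [Finset.mem_insert, Finset.mem_singleton, not_or] at h1
    rw [hw0 j i h1.1 h1.2.1 fun e => hi.2 j e.symm, mul_zero]
  have hfour : ({a, b, c, e} : Finset ι).card = 4 := by
    rw [Finset.card_insert_of_notMem (by simp [hab, hac, hae]),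
      Finset.card_insert_of_notMem (by simp [hbc, hbe]), Finset.card_pair hce]
  have hone : ∀ i ∈ ({a, b, c, e} : Finset ι), fJ wh w i = 1 ∨ fJ wh w i = -1 := by
    intro i hi
    have h1 := hh i hi
    simp only [Finset.mem_insert, Finset.mem_singleton] at hi
    rcases hi with hi | hi | hi | hi
    · rw [hab' i (Or.inl hi)]; omega
    · rw [hab' i (Or.inr hi)]; omega
    · rw [hcd i (Or.inl hi)]; omega
    · rw [hcd i (Or.inr hi)]; omega
  refine ⟨?_, ?_, fun i => ?_⟩
  · have hdis : Disjoint ({a, b, c, e} : Finset ι) (Finset.univ.image x) := by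
      refine Finset.disjoint_right.2 fun i hi => ?_
      obtain ⟨j, -, rfl⟩ := Finset.mem_image.1 hi
      simp [(hxne j).1, (hxne j).2.1, (hxne j).2.2.1, (hxne j).2.2.2]
    rw [← Finset.card_univ, ← (Finset.eq_univ_iff_forall.2 hall), Finset.card_union_of_disjoint hdis,
      hfour, Finset.card_image_of_injective _ hxinj, Finset.card_univ, Fintype.card_fin, add_comm]
  · rw [← hfour]
    congr 1
    ext i
    simp only [Finset.mem_filter, Finset.mem_univ, true_and]
    refine ⟨fun hi => ?_, hone i⟩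
    rcases Finset.mem_union.1 (hall i) with h | h
    · exact h
    · obtain ⟨j, -, rfl⟩ := Finset.mem_image.1 h
      rcases hx j with e | e <;> omega
  · rcases Finset.mem_union.1 (hall i) with h | h
    · rcases hone i h with e | e <;> tauto
    · obtain ⟨j, -, rfl⟩ := Finset.mem_image.1 h
      rcases hx j with e | e <;> tauto

theorem sum_five {β : Type*} [AddCommMonoid β] {a b c e g : ι} (f : ι → β)
    (h : ∀ i, i = a ∨ i = b ∨ i = c ∨ i = e ∨ i = g) (hab : a ≠ b) (hac : a ≠ c) (hae : a ≠ e)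
    (hag : a ≠ g) (hbc : b ≠ c) (hbe : b ≠ e) (hbg : b ≠ g) (hce : c ≠ e) (hcg : c ≠ g) (heg : e ≠ g) :
    ∑ i, f i = f a + (f b + (f c + (f e + f g))) := by
  rw [show (Finset.univ : Finset ι) = {a, b, c, e, g} from (Finset.eq_univ_iff_forall.2 fun i => by
      simpa using h i).symm,
    Finset.sum_insert (by simp [hab, hac, hae, hag]), Finset.sum_insert (by simp [hbc, hbe, hbg]),
    Finset.sum_insert (by simp [hce, hcg]), Finset.sum_pair heg]

/-- The three triples inside four elements. -/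
theorem special_four (wh : ι → ℤ) (w : Fin 3 → ι → ℤ) (d : ι → ℤ)
    (hd : ∀ i, d i ≠ 0) (hne : ∀ i, fJ wh w i ≠ 0)
    {a b c e : ι} (hab : a ≠ b) (hac : a ≠ c) (hae : a ≠ e) (hbc : b ≠ c) (hbe : b ≠ e) (hce : c ≠ e)
    {sa sb sc se : ℤ} (hsa : sa = 1 ∨ sa = -1) (hsb : sb = 1 ∨ sb = -1) (hsc : sc = 1 ∨ sc = -1)
    (hse : se = 1 ∨ se = -1)
    (h0 : ∀ i, w 0 i = if i = a then sa else if i = b then sb else if i = c then sc else 0)
    (h1 : ∀ i, w 1 i = if i = a then sa else if i = b then sb else if i = e then se else 0)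
    (h2 : ∀ i, w 2 i = if i = a then sa else if i = c then sc else if i = e then se else 0)
    {S : Finset ι} (hSc : S.card = 4) (hS : ∀ i ∈ S, wh i = 1 ∨ wh i = -1) (hS0 : ∀ i ∉ S, wh i = 0)
    (hjh : ∀ j, ∑ i, w j i * wh i = 2)
    (hdh : ∑ i, wh i * d i = 0) (hdj : ∀ j, ∑ i, w j i * d i = 0) : IsSpecial wh w d := by
  have hsum : ∀ (j : Fin 3) (v : ι → ℤ) (p q r : ι) (sp sq sr : ℤ), p ≠ q → p ≠ r → q ≠ r →
      (∀ i, w j i = if i = p then sp else if i = q then sq else if i = r then sr else 0) →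
      ∑ i, w j i * v i = sp * v p + sq * v q + sr * v r := by
    intro j v p q r sp sq sr hpq hpr hqr hv
    rw [sum_on (T := {p, q, r}) fun i hi => ?_, sum_three hpq hpr hqr, hv p, hv q, hv r]
    · simp [hpq.symm, hpr.symm, hqr.symm]
    · simp only [Finset.mem_insert, Finset.mem_singleton, not_or] at hi
      rw [hv i, if_neg hi.1, if_neg hi.2.1, if_neg hi.2.2]
  have i0 := hjh 0
  have i1 := hjh 1
  have i2 := hjh 2
  rw [hsum 0 wh a b c sa sb sc hab hac hbc h0] at i0
  rw [hsum 1 wh a b e sa sb se hab hae hbe h1] at i1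
  rw [hsum 2 wh a c e sa sc se hac hae hce h2] at i2
  have d0 := hdj 0
  have d1 := hdj 1
  have d2 := hdj 2
  rw [hsum 0 d a b c sa sb sc hab hac hbc h0] at d0
  rw [hsum 1 d a b e sa sb se hab hae hbe h1] at d1
  rw [hsum 2 d a c e sa sc se hac hae hce h2] at d2
  have hb1 : ∀ {s z : ℤ}, s = 1 ∨ s = -1 → (z = 1 ∨ z = -1 ∨ z = 0) → -1 ≤ s * z ∧ s * z ≤ 1 := by
    intro s z hs hz
    rcases hs with rfl | rfl <;> rcases hz with rfl | rfl | rfl <;> norm_num
  have hwhv : ∀ i, wh i = 1 ∨ wh i = -1 ∨ wh i = 0 := fun i => by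
    by_cases hi : i ∈ S
    · rcases hS i hi with e | e <;> simp [e]
    · simp [hS0 i hi]
  have ba := hb1 hsa (hwhv a)
  have bb := hb1 hsb (hwhv b)
  have va : sa * wh a = 0 := by omega
  have vb : sb * wh b = 1 := by omega
  have vc : sc * wh c = 1 := by omega
  have ve : se * wh e = 1 := by omega
  have hs2 : ∀ {s : ℤ}, s = 1 ∨ s = -1 → s * s = 1 := by rintro s (rfl | rfl) <;> norm_num
  have hwa : wh a = 0 := by linear_combination sa * va - wh a * hs2 hsa
  have hwb : wh b = sb := by linear_combination sb * vb - wh b * hs2 hsb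
  have hwc : wh c = sc := by linear_combination sc * vc - wh c * hs2 hsc
  have hwe : wh e = se := by linear_combination se * ve - wh e * hs2 hse
  have haS : a ∉ S := fun h => by rcases hS a h with e | e <;> omega
  have hin : ∀ {i s}, wh i = s → (s = 1 ∨ s = -1) → i ∈ S := fun {i s} h hs => by
    by_contra hi; rw [hS0 i hi] at h; omega
  have hsub : ({b, c, e} : Finset ι) ⊆ S := by
    intro i hi
    simp only [Finset.mem_insert, Finset.mem_singleton] at hi
    rcases hi with rfl | rfl | rfl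
    exacts [hin hwb hsb, hin hwc hsc, hin hwe hse]
  obtain ⟨g, hg⟩ : ∃ g, S \ {b, c, e} = {g} := Finset.card_eq_one.1 (by
    rw [Finset.card_sdiff_of_subset hsub, hSc, Finset.card_insert_of_notMem (by simp [hbc, hbe]),
      Finset.card_pair hce])
  have hgm : g ∈ S \ {b, c, e} := by simp [hg]
  simp only [Finset.mem_sdiff, Finset.mem_insert, Finset.mem_singleton, not_or] at hgm
  obtain ⟨hgS, hgb, hgc, hge⟩ := hgm
  have hga : g ≠ a := fun h => haS (h ▸ hgS)
  have hall : ∀ i, i = a ∨ i = b ∨ i = c ∨ i = e ∨ i = g := by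
    intro i
    by_contra hi
    simp only [not_or] at hi
    obtain ⟨p1, p2, p3, p4, p5⟩ := hi
    refine hne i ?_
    have : i ∉ S := fun h => by
      have : i ∈ S \ {b, c, e} := by simp [h, p2, p3, p4]
      rw [hg, Finset.mem_singleton] at this
      exact p5 this
    rw [fJ, Fin.sum_univ_three, h0, h1, h2, hS0 i this]
    simp [p1, p2, p3, p4]
  have hsg := hS g hgS
  set t := sb * d b with ht
  have f := fun i => (show fJ wh w i = wh i + 2 * (-w 0 i + w 1 i - w 2 i) by
    rw [fJ, Fin.sum_univ_three]; simp; ring)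
  have e0 := h0; have e1 := h1; have e2 := h2
  have ta : sa * d a = -2 * t := by omega
  have tc : sc * d c = t := by omega
  have te : se * d e = t := by omega
  have nab : ¬ a = b := hab
  rw [sum_five (fun i => wh i * d i) hall hab hac hae (Ne.symm hga) hbc hbe (Ne.symm hgb) hce
    (Ne.symm hgc) (Ne.symm hge), hwa, hwb, hwc, hwe] at hdh
  have tg : wh g * d g = -3 * t := by linarith
  have da : d a = -2 * sa * t := by linear_combination sa * ta - d a * hs2 hsa
  have dc : d c = sc * t := by linear_combination sc * tc - d c * hs2 hsc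
  have de : d e = se * t := by linear_combination se * te - d e * hs2 hse
  have dg : d g = -3 * wh g * t := by linear_combination wh g * tg - d g * hs2 hsg
  have db : d b = sb * t := by linear_combination (-(d b)) * hs2 hsb
  have ht0 : t ≠ 0 := fun h => hd b (by rw [db, h, mul_zero])
  refine ⟨b, ?_, ?_, ?_, ?_⟩
  · rw [f, hwb, h0, h1, h2]
    simp only [hab.symm, hbc, hbe, if_false, if_true]
    omega
  · intro i
    rcases hall i with h | h | h | h | h
    · rw [h, da, db]; exact ⟨-2 * sa * sb, by linear_combination (2 * sa * t) * hs2 hsb⟩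
    · rw [h]
    · rw [h, dc, db]; exact ⟨sc * sb, by linear_combination (-(sc * t)) * hs2 hsb⟩
    · rw [h, de, db]; exact ⟨se * sb, by linear_combination (-(se * t)) * hs2 hsb⟩
    · rw [h, dg, db]; exact ⟨-3 * wh g * sb, by linear_combination (3 * wh g * t) * hs2 hsb⟩
  all_goals
    rw [sum_five _ hall hab hac hae (Ne.symm hga) hbc hbe (Ne.symm hgb) hce (Ne.symm hgc) (Ne.symm hge)]
    simp only [f, h0, h1, h2, hwa, hwb, hwc, hwe, hab.symm, hac.symm, hae.symm, hga, hbc.symm, hbe.symm,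
      hgb, hce.symm, hgc, hge, hbc, hbe, hce, if_false, if_true, da, db, dc, de, dg]
    have htq : (t : ℚ) ≠ 0 := Int.cast_ne_zero.2 ht0
    rcases hsa with rfl | rfl <;> rcases hsb with rfl | rfl <;> rcases hsc with rfl | rfl <;>
      rcases hse with rfl | rfl <;> rcases hsg with hG | hG <;>
      (rw [hG]; push_cast; field_simp; norm_num)

/-- A vector of square length four with a product two against a triple: four unit entries, or one
entry `± 2`. -/
theorem quad_cases (v : ι → ℤ) (h : ∑ i, v i * v i = 4) :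
    (∃ S : Finset ι, S.card = 4 ∧ (∀ i ∈ S, v i = 1 ∨ v i = -1) ∧ ∀ i ∉ S, v i = 0) ∨
      ∃ z, (v z = 2 ∨ v z = -2) ∧ ∀ i, i ≠ z → v i = 0 := by
  by_cases hbig : ∃ z, 2 ≤ v z ∨ v z ≤ -2
  · obtain ⟨z, hz⟩ := hbig
    refine Or.inr ⟨z, ?_, fun i hi => ?_⟩
    · have h1 := (Finset.single_le_sum (fun j _ => mul_self_nonneg (v j)) (Finset.mem_univ z)).trans h.le
      have : -2 ≤ v z ∧ v z ≤ 2 := ⟨by nlinarith, by nlinarith⟩
      omega
    · have h1 : v z * v z + v i * v i ≤ 4 := by
        rw [← h, ← Finset.sum_pair (f := fun j => v j * v j) hi.symm]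
        exact Finset.sum_le_sum_of_subset_of_nonneg (Finset.subset_univ _) fun j _ _ => mul_self_nonneg _
      have : 4 ≤ v z * v z := by rcases hz with e | e <;> nlinarith
      exact mul_self_eq_zero.1 (le_antisymm (by linarith) (mul_self_nonneg _))
  · push Not at hbig
    have hs : ∀ i, v i = 1 ∨ v i = -1 ∨ v i = 0 := fun i => by have := hbig i; omega
    refine Or.inl ⟨Finset.univ.filter (v · ≠ 0), ?_, fun i hi => ?_, fun i hi => by simpa using hi⟩
    · have hterm : ∀ i, v i * v i = if v i ≠ 0 then 1 else 0 := fun i => by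
        rcases hs i with e | e | e <;> simp [e]
      rw [Finset.sum_congr rfl fun i _ => hterm i, Finset.sum_boole] at h
      exact_mod_cast h
    · have := hs i
      have h3 : v i ≠ 0 := by simpa using hi
      tauto

/-- The common pair with `wh` meeting the three other entries. -/
theorem special_star (wh : ι → ℤ) (w : Fin 3 → ι → ℤ) (d : ι → ℤ)
    (hd : ∀ i, d i ≠ 0) (hne : ∀ i, fJ wh w i ≠ 0) {a b : ι} (x : Fin 3 → ι) (hab : a ≠ b)
    (hxinj : Function.Injective x) (hxne : ∀ j, x j ≠ a ∧ x j ≠ b)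
    {sa sb : ℤ} {sx : Fin 3 → ℤ} (hsa : sa = 1 ∨ sa = -1) (hsb : sb = 1 ∨ sb = -1)
    (hsx : ∀ j, sx j = 1 ∨ sx j = -1)
    (hw : ∀ j i, w j i = if i = a then sa else if i = b then sb else if i = x j then sx j else 0)
    (hh : ∀ i, wh i = if i = a then sa else if i = x 0 then sx 0 else if i = x 1 then sx 1
      else if i = x 2 then sx 2 else 0)
    (hdh : ∑ i, wh i * d i = 0) (hdj : ∀ j, ∑ i, w j i * d i = 0) : IsSpecial wh w d := by
  have n01 : x 0 ≠ x 1 := fun e => absurd (hxinj e) (by decide)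
  have n02 : x 0 ≠ x 2 := fun e => absurd (hxinj e) (by decide)
  have n12 : x 1 ≠ x 2 := fun e => absurd (hxinj e) (by decide)
  have hs2 : ∀ {s : ℤ}, s = 1 ∨ s = -1 → s * s = 1 := by rintro s (rfl | rfl) <;> norm_num
  have f := fun i => (show fJ wh w i = wh i + 2 * (-w 0 i + w 1 i - w 2 i) by
    rw [fJ, Fin.sum_univ_three]; simp; ring)
  have hall : ∀ i, i = a ∨ i = b ∨ i = x 0 ∨ i = x 1 ∨ i = x 2 := by
    intro i
    by_contra hi
    simp only [not_or] at hi
    obtain ⟨p1, p2, p3, p4, p5⟩ := hi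
    exact hne i (by rw [f, hw, hw, hw, hh]; simp [p1, p2, p3, p4, p5])
  have five : ∀ {β : Type} [AddCommMonoid β] (g : ι → β),
      ∑ i, g i = g a + (g b + (g (x 0) + (g (x 1) + g (x 2)))) := fun g =>
    sum_five g hall hab (hxne 0).1.symm (hxne 1).1.symm (hxne 2).1.symm (hxne 0).2.symm (hxne 1).2.symm
      (hxne 2).2.symm n01 n02 n12
  have d0 := hdj 0
  have d1 := hdj 1
  have d2 := hdj 2
  rw [five] at d0 d1 d2 hdh
  simp only [hw, hh, hab, hab.symm, (hxne 0).1, (hxne 0).2, (hxne 1).1, (hxne 1).2, (hxne 2).1, (hxne 2).2,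
    n01, n01.symm, n02, n02.symm, n12, n12.symm, (hxne 0).1.symm, (hxne 0).2.symm, (hxne 1).1.symm,
    (hxne 1).2.symm, (hxne 2).1.symm, (hxne 2).2.symm, if_false, if_true, zero_mul, add_zero, zero_add]
    at d0 d1 d2 hdh
  set t := sx 0 * d (x 0) with ht
  have tx1 : sx 1 * d (x 1) = t := by omega
  have tx2 : sx 2 * d (x 2) = t := by omega
  have ta : sa * d a = -3 * t := by omega
  have tb : sb * d b = 2 * t := by omega
  have da : d a = -3 * sa * t := by linear_combination sa * ta - d a * hs2 hsa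
  have db : d b = 2 * sb * t := by linear_combination sb * tb - d b * hs2 hsb
  have dx0 : d (x 0) = sx 0 * t := by linear_combination (-(d (x 0))) * hs2 (hsx 0)
  have dx1 : d (x 1) = sx 1 * t := by linear_combination sx 1 * tx1 - d (x 1) * hs2 (hsx 1)
  have dx2 : d (x 2) = sx 2 * t := by linear_combination sx 2 * tx2 - d (x 2) * hs2 (hsx 2)
  have ht0 : t ≠ 0 := fun h => hd (x 0) (by rw [dx0, h, mul_zero])
  refine ⟨x 0, ?_, ?_, ?_, ?_⟩
  · rw [f, hw, hw, hw, hh]
    simp only [(hxne 0).1, (hxne 0).2, n01, n02, if_false, if_true]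
    have := hsx 0
    omega
  · intro i
    have h0 := hs2 (hsx 0)
    rcases hall i with h | h | h | h | h
    · rw [h, da, dx0]; exact ⟨-3 * sa * sx 0, by linear_combination (3 * sa * t) * h0⟩
    · rw [h, db, dx0]; exact ⟨2 * sb * sx 0, by linear_combination (-(2 * sb * t)) * h0⟩
    · rw [h]
    · rw [h, dx1, dx0]; exact ⟨sx 1 * sx 0, by linear_combination (-(sx 1 * t)) * h0⟩
    · rw [h, dx2, dx0]; exact ⟨sx 2 * sx 0, by linear_combination (-(sx 2 * t)) * h0⟩
  all_goals
    rw [five]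
    simp only [f, hw, hh, hab, hab.symm, (hxne 0).1, (hxne 0).2, (hxne 1).1, (hxne 1).2, (hxne 2).1,
      (hxne 2).2, n01, n01.symm, n02, n02.symm, n12, n12.symm, (hxne 0).1.symm, (hxne 0).2.symm,
      (hxne 1).1.symm, (hxne 1).2.symm, (hxne 2).1.symm, (hxne 2).2.symm, if_false, if_true,
      da, db, dx0, dx1, dx2]
    have htq : (t : ℚ) ≠ 0 := Int.cast_ne_zero.2 ht0
    rcases hsa with rfl | rfl <;> rcases hsb with rfl | rfl <;> rcases hsx 0 with e0 | e0 <;>
      rcases hsx 1 with e1 | e1 <;> rcases hsx 2 with e2 | e2 <;>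
      (rw [e0, e1, e2]; push_cast; field_simp; norm_num)

/-- The triples have a common pair, or they are three inside four elements. -/
theorem triples_cases {n : ℕ} (hn : 1 < n) (hn2 : n ≠ 2) (hn4 : n ≠ 4) (w : Fin n → ι → ℤ) (T : Fin n → Finset ι)
    (hTc : ∀ j, (T j).card = 3) (hT : ∀ j, ∀ i ∈ T j, w j i = 1 ∨ w j i = -1)
    (hT0 : ∀ j, ∀ i ∉ T j, w j i = 0) (hjk : ∀ j k, j ≠ k → ∑ i, w j i * w k i = 2) :
    (∃ (a b : ι) (x : Fin n → ι) (sa sb : ℤ) (sx : Fin n → ℤ), a ≠ b ∧ (sa = 1 ∨ sa = -1) ∧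
      (sb = 1 ∨ sb = -1) ∧ (∀ j, sx j = 1 ∨ sx j = -1) ∧ Function.Injective x ∧
      (∀ j, x j ≠ a ∧ x j ≠ b) ∧
      ∀ j i, w j i = if i = a then sa else if i = b then sb else if i = x j then sx j else 0) ∨
    (n = 3 ∧ ∀ (j₀ j₁ j₂ : Fin n), j₀ ≠ j₁ → j₀ ≠ j₂ → j₁ ≠ j₂ →
      ∃ (a b c e : ι) (sa sb sc se : ℤ), a ≠ b ∧ a ≠ c ∧ a ≠ e ∧ b ≠ c ∧ b ≠ e ∧ c ≠ e ∧
      (sa = 1 ∨ sa = -1) ∧ (sb = 1 ∨ sb = -1) ∧ (sc = 1 ∨ sc = -1) ∧ (se = 1 ∨ se = -1) ∧
      (∀ i, w j₀ i = if i = a then sa else if i = b then sb else if i = c then sc else 0) ∧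
      (∀ i, w j₁ i = if i = a then sa else if i = b then sb else if i = e then se else 0) ∧
      ∀ i, w j₂ i = if i = a then sa else if i = c then sc else if i = e then se else 0) := by
  have hmeet := fun j k (h : j ≠ k) =>
    meet_two (w j) (w k) (T j) (T k) (hTc j) (hT j) (hT0 j) (hT k) (hT0 k) (hjk j k h)
  have hagree : ∀ j k i, i ∈ T j → i ∈ T k → w k i = w j i := by
    intro j k i hi hk
    by_cases hjk' : j = k
    · rw [hjk']
    obtain ⟨a, b, c, -, -, -, hTe, -, -, hcU, ea, eb⟩ := hmeet j k hjk'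
    rw [hTe] at hi
    simp only [Finset.mem_insert, Finset.mem_singleton] at hi
    rcases hi with rfl | rfl | rfl
    exacts [ea, eb, absurd hk hcU]
  have hinter : ∀ j k, j ≠ k → (T j ∩ T k).card = 2 := by
    intro j k h
    obtain ⟨a, b, c, hab, -, -, hTe, ha, hb, hc, -⟩ := hmeet j k h
    rw [show T j ∩ T k = {a, b} from ?_, Finset.card_pair hab]
    ext i
    simp only [hTe, Finset.mem_inter, Finset.mem_insert, Finset.mem_singleton]
    refine ⟨?_, ?_⟩
    · rintro ⟨rfl | rfl | rfl, hk⟩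
      exacts [Or.inl rfl, Or.inr rfl, absurd hk hc]
    · rintro (rfl | rfl)
      exacts [⟨Or.inl rfl, ha⟩, ⟨Or.inr (Or.inl rfl), hb⟩]
  let j₀ : Fin n := ⟨0, by omega⟩
  let j₁ : Fin n := ⟨1, hn⟩
  have h01 : j₀ ≠ j₁ := fun e => by have := congrArg Fin.val e; simp [j₀, j₁] at this
  by_cases hcom : ∀ k, T j₀ ∩ T j₁ ⊆ T k
  · left
    obtain ⟨a, b, hab, hC⟩ := Finset.card_eq_two.1 (hinter j₀ j₁ h01)
    have hak : ∀ k, a ∈ T k ∧ b ∈ T k := fun k =>
      ⟨hcom k (by simp [hC]), hcom k (by simp [hC])⟩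
    have hx : ∀ k, ∃ x, x ∉ ({a, b} : Finset ι) ∧ T k = {a, b, x} := by
      intro k
      obtain ⟨x, hx⟩ := Finset.card_eq_one.1 (show (T k \ {a, b}).card = 1 by
        rw [Finset.card_sdiff_of_subset (by simp [Finset.insert_subset_iff, hak k]), hTc,
          Finset.card_pair hab])
      have hxm : x ∈ T k \ {a, b} := by simp [hx]
      refine ⟨x, (Finset.mem_sdiff.1 hxm).2, ?_⟩
      ext i
      simp only [Finset.mem_insert, Finset.mem_singleton]
      constructor
      · intro hi
        by_cases h1 : i = a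
        · exact Or.inl h1
        by_cases h2 : i = b
        · exact Or.inr (Or.inl h2)
        have : i ∈ T k \ {a, b} := by simp [hi, h1, h2]
        rw [hx, Finset.mem_singleton] at this
        exact Or.inr (Or.inr this)
      · rintro (rfl | rfl | rfl)
        exacts [(hak k).1, (hak k).2, (Finset.mem_sdiff.1 hxm).1]
    choose x hxab hTx using hx
    have hxne : ∀ j, x j ≠ a ∧ x j ≠ b := fun j => by
      have := hxab j; simp at this; exact this
    refine ⟨a, b, x, w j₀ a, w j₀ b, fun j => w j (x j), hab, hT _ a (hak _).1, hT _ b (hak _).2,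
      fun j => hT j _ (by simp [hTx]), fun j k e => ?_, hxne, fun j i => ?_⟩
    · by_contra hne
      have h2 := hinter j k hne
      rw [hTx, hTx, e, Finset.inter_self,
        Finset.card_insert_of_notMem (by simp [hab, (hxne k).1.symm]),
        Finset.card_pair (hxne k).2.symm] at h2
      omega
    · split_ifs with h1 h2 h3
      · subst h1; exact hagree j₀ j i (hak _).1 (hak _).1
      · subst h2; exact hagree j₀ j i (hak _).2 (hak _).2
      · rw [h3]
      · exact hT0 j i (by simp [hTx, h1, h2, h3])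
  · right
    push Not at hcom
    obtain ⟨k, hk⟩ := hcom
    have hk0 : k ≠ j₀ := fun e => hk (e ▸ Finset.inter_subset_left)
    have hk1 : k ≠ j₁ := fun e => hk (e ▸ Finset.inter_subset_right)
    -- the union of the first two
    have h2 : ∀ m, ¬ T j₀ ∩ T j₁ ⊆ T m → T m ⊆ T j₀ ∪ T j₁ := by
      intro m hm
      have hm0 : m ≠ j₀ := fun e => hm (e ▸ Finset.inter_subset_left)
      have hm1 : m ≠ j₁ := fun e => hm (e ▸ Finset.inter_subset_right)
      have e0 := hinter m j₀ hm0
      have e1 := hinter m j₁ hm1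
      have e2 : (T m ∩ (T j₀ ∩ T j₁)).card ≤ 1 := by
        have e3 : T m ∩ (T j₀ ∩ T j₁) ⊂ T j₀ ∩ T j₁ := by
          refine Finset.ssubset_iff_subset_ne.2 ⟨Finset.inter_subset_right, fun e => hm ?_⟩
          exact Finset.inter_eq_right.1 e
        have := Finset.card_lt_card e3
        rw [hinter j₀ j₁ h01] at this
        omega
      have e4 := Finset.card_union_add_card_inter (T m ∩ T j₀) (T m ∩ T j₁)
      rw [← Finset.inter_union_distrib_left, ← Finset.inter_inter_distrib_left] at e4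
      have e5 : (T m ∩ (T j₀ ∪ T j₁)).card ≤ 3 :=
        (Finset.card_le_card Finset.inter_subset_left).trans (hTc m).le
      have e6 : T m ∩ (T j₀ ∪ T j₁) = T m :=
        Finset.eq_of_subset_of_card_le Finset.inter_subset_left (by rw [hTc]; omega)
      exact Finset.inter_eq_left.1 e6
    have hU4 : (T j₀ ∪ T j₁).card = 4 := by
      have := Finset.card_union_add_card_inter (T j₀) (T j₁)
      rw [hTc, hTc, hinter j₀ j₁ h01] at this
      omega
    have hall : ∀ m, T m ⊆ T j₀ ∪ T j₁ := by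
      intro m
      by_cases hm : T j₀ ∩ T j₁ ⊆ T m
      · by_cases hm0 : m = j₀
        · exact hm0 ▸ Finset.subset_union_left
        by_cases hm1 : m = j₁
        · exact hm1 ▸ Finset.subset_union_right
        by_contra hbad
        have hkm : m ≠ k := fun e => hk (e ▸ hm)
        obtain ⟨y, hy, hyU⟩ := Finset.not_subset.1 hbad
        have hT3 : T m = insert y (T j₀ ∩ T j₁) := by
          refine (Finset.eq_of_subset_of_card_le (Finset.insert_subset hy hm) ?_).symm
          rw [Finset.card_insert_of_notMem (fun h => hyU (Finset.mem_union_left _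
            (Finset.mem_inter.1 h).1)), hinter j₀ j₁ h01, hTc]
        have e0 := hinter k m hkm.symm
        rw [hT3, Finset.inter_insert_of_notMem (fun h => hyU (h2 k hk h))] at e0
        have e3 : T k ∩ (T j₀ ∩ T j₁) ⊂ T j₀ ∩ T j₁ :=
          Finset.ssubset_iff_subset_ne.2 ⟨Finset.inter_subset_right, fun e => hk (Finset.inter_eq_right.1 e)⟩
        have := Finset.card_lt_card e3
        rw [hinter j₀ j₁ h01] at this
        omega
      · exact h2 m hm
    have hnot : ∀ j₀' j₁' j₂' : Fin n, j₀' ≠ j₁' → j₀' ≠ j₂' → j₁' ≠ j₂' →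
        ¬ T j₀' ∩ T j₁' ⊆ T j₂' := by
      intro p q r hpq hpr hqr hsub
      obtain ⟨u, v, huv, hC⟩ := Finset.card_eq_two.1 (hinter p q hpq)
      have hsub4 : ({u, v} : Finset ι) ⊆ T j₀ ∪ T j₁ := hC ▸ Finset.inter_subset_left.trans (hall p)
      have hrest : ((T j₀ ∪ T j₁) \ {u, v}).card = 2 := by
        rw [Finset.card_sdiff_of_subset hsub4, hU4, Finset.card_pair huv]
      have huvm : ∀ m, (m = p ∨ m = q ∨ m = r) → ({u, v} : Finset ι) ⊆ T m := by
        intro m hm
        rw [← hC]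
        rcases hm with rfl | rfl | rfl
        exacts [Finset.inter_subset_left, Finset.inter_subset_right, hsub]
      have hex : ∀ m, (m = p ∨ m = q ∨ m = r) → ∃ y, T m \ {u, v} = {y} := fun m hm =>
        Finset.card_eq_one.1 (by
          rw [Finset.card_sdiff_of_subset (huvm m hm), hTc, Finset.card_pair huv])
      obtain ⟨y1, hy1⟩ := hex p (Or.inl rfl)
      obtain ⟨y2, hy2⟩ := hex q (Or.inr (Or.inl rfl))
      obtain ⟨y3, hy3⟩ := hex r (Or.inr (Or.inr rfl))
      have hne : ∀ m m', m ≠ m' → ({u, v} : Finset ι) ⊆ T m → ({u, v} : Finset ι) ⊆ T m' →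
          T m \ {u, v} ≠ T m' \ {u, v} := fun m m' hmm h1 h2 e => by
        have := hinter m m' hmm
        rw [← Finset.sdiff_union_of_subset h1, e, Finset.sdiff_union_of_subset h2, Finset.inter_self,
          hTc] at this
        omega
      have n12 : y1 ≠ y2 := fun e => hne p q hpq (huvm p (Or.inl rfl)) (huvm q (Or.inr (Or.inl rfl)))
        (by rw [hy1, hy2, e])
      have n13 : y1 ≠ y3 := fun e => hne p r hpr (huvm p (Or.inl rfl)) (huvm r (Or.inr (Or.inr rfl)))
        (by rw [hy1, hy3, e])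
      have n23 : y2 ≠ y3 := fun e => hne q r hqr (huvm q (Or.inr (Or.inl rfl)))
        (huvm r (Or.inr (Or.inr rfl))) (by rw [hy2, hy3, e])
      have hin : ∀ {m y}, T m \ {u, v} = {y} → y ∈ (T j₀ ∪ T j₁) \ {u, v} := by
        intro m y e
        exact Finset.sdiff_subset_sdiff (hall m) le_rfl (by rw [e]; simp)
      have h3 : ({y1, y2, y3} : Finset ι) ⊆ (T j₀ ∪ T j₁) \ {u, v} := by
        simp only [Finset.insert_subset_iff, Finset.singleton_subset_iff]
        exact ⟨hin hy1, hin hy2, hin hy3⟩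
      have := Finset.card_le_card h3
      rw [hrest, Finset.card_insert_of_notMem (by simp [n12, n13]), Finset.card_pair n23] at this
      omega
    have hn3 : n = 3 := by
      have hinj : Function.Injective T := fun p q e => by
        by_contra hpq
        have := hinter p q hpq
        rw [e, Finset.inter_self, hTc] at this
        omega
      have hle : n ≤ 4 := by
        have := Finset.card_le_card (show Finset.univ.image T ⊆ (T j₀ ∪ T j₁).powersetCard 3 from
          fun S hS => by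
            obtain ⟨m, -, rfl⟩ := Finset.mem_image.1 hS
            exact Finset.mem_powersetCard.2 ⟨hall m, hTc m⟩)
        rw [Finset.card_powersetCard, hU4, Finset.card_image_of_injective _ hinj] at this
        simpa [Nat.choose] using this
      by_contra h3
      obtain rfl : n = 4 := by omega
      exact absurd rfl hn4
    refine ⟨hn3, fun p q r hpq hpr hqr => ?_⟩
    obtain ⟨u, v, huv, hC⟩ := Finset.card_eq_two.1 (hinter p q hpq)
    have hns := hnot p q r hpq hpr hqr
    obtain ⟨a, b, hab, hCab, har, hbr⟩ : ∃ a b, a ≠ b ∧ T p ∩ T q = {a, b} ∧ a ∈ T r ∧ b ∉ T r := by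
      have hU : T r ⊆ T p ∪ T q := by
        have e : T p ∪ T q = T j₀ ∪ T j₁ := by
          refine Finset.eq_of_subset_of_card_le (Finset.union_subset (hall p) (hall q)) ?_
          have := Finset.card_union_add_card_inter (T p) (T q)
          rw [hTc, hTc, hinter p q hpq] at this
          rw [hU4]
          omega
        rw [e]; exact hall r
      by_cases hu : u ∈ T r
      · refine ⟨u, v, huv, hC, hu, fun hv => hns ?_⟩
        rw [hC]; simp [Finset.insert_subset_iff, hu, hv]
      · refine ⟨v, u, huv.symm, by rw [hC, Finset.pair_comm], ?_, hu⟩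
        by_contra hv
        have e4 := Finset.card_union_add_card_inter (T r ∩ T p) (T r ∩ T q)
        rw [← Finset.inter_union_distrib_left, ← Finset.inter_inter_distrib_left,
          Finset.inter_eq_left.2 hU, hC, hTc, hinter r p hpr.symm, hinter r q hqr.symm] at e4
        have : T r ∩ {u, v} = ∅ := by
          ext i
          simp only [Finset.mem_inter, Finset.mem_insert, Finset.mem_singleton, Finset.notMem_empty,
            iff_false, not_and, not_or]
          exact fun hi => ⟨fun e => hu (e ▸ hi), fun e => hv (e ▸ hi)⟩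
        rw [this, Finset.card_empty] at e4
        omega
    obtain ⟨c, hc⟩ := Finset.card_eq_one.1 (show (T p \ T q).card = 1 by
      have := Finset.card_sdiff_add_card_inter (T p) (T q)
      rw [hTc, hinter p q hpq] at this; omega)
    obtain ⟨e, he⟩ := Finset.card_eq_one.1 (show (T q \ T p).card = 1 by
      have := Finset.card_sdiff_add_card_inter (T q) (T p)
      rw [hTc, Finset.inter_comm, hinter p q hpq] at this; omega)
    have hcm : c ∈ T p \ T q := by simp [hc]
    have hem : e ∈ T q \ T p := by simp [he]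
    rw [Finset.mem_sdiff] at hcm hem
    have ham : a ∈ T p ∩ T q := by simp [hCab]
    have hbm : b ∈ T p ∩ T q := by simp [hCab]
    rw [Finset.mem_inter] at ham hbm
    have hac : a ≠ c := fun h => hcm.2 (h ▸ ham.2)
    have hbc : b ≠ c := fun h => hcm.2 (h ▸ hbm.2)
    have hae : a ≠ e := fun h => hem.2 (h ▸ ham.1)
    have hbe : b ≠ e := fun h => hem.2 (h ▸ hbm.1)
    have hce : c ≠ e := fun h => hem.2 (h ▸ hcm.1)
    have hTp : T p = {a, b, c} := by
      rw [← Finset.sdiff_union_inter (T p) (T q), hc, hCab]; ext; simp; tauto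
    have hTq : T q = {a, b, e} := by
      rw [← Finset.sdiff_union_inter (T q) (T p), he, Finset.inter_comm, hCab]; ext; simp; tauto
    have hTr : T r = {a, c, e} := by
      refine Finset.eq_of_subset_of_card_le (fun i hi => ?_) ?_
      · have e' : T p ∪ T q = T j₀ ∪ T j₁ := by
          refine Finset.eq_of_subset_of_card_le (Finset.union_subset (hall p) (hall q)) ?_
          have := Finset.card_union_add_card_inter (T p) (T q)
          rw [hTc, hTc, hinter p q hpq] at this
          rw [hU4]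
          omega
        have h' : i ∈ T p ∪ T q := e' ▸ hall r hi
        simp only [hTp, hTq, Finset.mem_union, Finset.mem_insert, Finset.mem_singleton] at h' ⊢
        have : i ≠ b := fun h => hbr (h ▸ hi)
        tauto
      · rw [hTc, Finset.card_insert_of_notMem (by simp [hac, hae]), Finset.card_pair hce]
    have hcr : c ∈ T r := by simp [hTr]
    have her : e ∈ T r := by simp [hTr]
    refine ⟨a, b, c, e, w p a, w p b, w p c, w q e, hab, hac, hae, hbc, hbe, hce, hT p a ham.1,
      hT p b hbm.1, hT p c hcm.1, hT q e hem.1, fun i => ?_, fun i => ?_, fun i => ?_⟩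
    · split_ifs with h1 h2 h3 <;> first | (subst i; rfl) | exact hT0 p i (by simp [hTp, h1, h2, h3])
    · split_ifs with h1 h2 h3
      · subst i; exact hagree p q _ ham.1 ham.2
      · subst i; exact hagree p q _ hbm.1 hbm.2
      · subst i; rfl
      · exact hT0 q i (by simp [hTq, h1, h2, h3])
    · split_ifs with h1 h2 h3
      · subst i; exact hagree p r _ ham.1 har
      · subst i; exact hagree p r _ hcm.1 hcr
      · subst i; exact hagree q r _ hem.1 her
      · exact hT0 r i (by simp [hTr, h1, h2, h3])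

/-- The configurations. -/
theorem exists_config {n : ℕ} (hodd : Odd n) (wh : ι → ℤ) (w : Fin n → ι → ℤ) (d : ι → ℤ)
    (hd : ∀ i, d i ≠ 0) (hhh : ∑ i, wh i * wh i = 4) (hjj : ∀ j, ∑ i, w j i * w j i = 3)
    (hjk : ∀ j k, j ≠ k → ∑ i, w j i * w k i = 2) (hjh : ∀ j, ∑ i, w j i * wh i = 2)
    (hdh : ∑ i, wh i * d i = 0) (hdj : ∀ j, ∑ i, w j i * d i = 0)
    (hne : ∀ i, fJ wh w i ≠ 0) :
    IsCommon n (fJ wh w) ∨ ∃ e : n = 3, IsSpecial wh (fun j => w (Fin.cast e.symm j)) d := by
  choose T hTc hT hT0 using fun j => exists_triple (w j) (hjj j)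
  have hn0 : 0 < n := hodd.pos
  rcases quad_cases wh hhh with ⟨S, hSc, hS, hS0⟩ | ⟨z, hz, hz0⟩
  swap
  · exfalso
    have hwz : ∀ j, 2 * w j z = wh z := by
      intro j
      have e := hjh j
      rw [Finset.sum_eq_single z (fun i _ hi => by rw [hz0 i hi, mul_zero]) (by simp)] at e
      have := small_of_sq ((Finset.single_le_sum (fun i _ => mul_self_nonneg (w j i))
        (Finset.mem_univ z)).trans (hjj j).le) le_rfl
      rcases hz with h | h <;> rw [h] at e ⊢ <;> omega
    refine hne z ?_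
    rw [fJ, Finset.mul_sum, Finset.sum_congr rfl fun (j : Fin n) _ => show 2 * ((-1 : ℤ) ^ ((j : ℕ) + 1) * w j z) =
      (-1) ^ ((j : ℕ) + 1) * wh z by rw [← hwz j]; ring, ← Finset.sum_mul, alt_sum hodd]
    ring
  by_cases h1 : n = 1
  · subst h1
    left
    obtain ⟨a, b, x, hab, hax, hbx, hTe, ha, hb, hx, ea, eb⟩ :=
      meet_two (w 0) wh (T 0) S (hTc 0) (hT 0) (hT0 0) hS hS0 (hjh 0)
    obtain ⟨c, e, hce, hSe⟩ := Finset.card_eq_two.1 (show ((S.erase a).erase b).card = 2 by
      rw [Finset.card_erase_of_mem (Finset.mem_erase.2 ⟨hab.symm, hb⟩), Finset.card_erase_of_mem ha, hSc])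
    have hc : c ∈ (S.erase a).erase b := by simp [hSe]
    have he : e ∈ (S.erase a).erase b := by simp [hSe]
    simp only [Finset.mem_erase] at hc he
    have hS4 : S = {a, b, c, e} := by
      ext i
      simp only [Finset.mem_insert, Finset.mem_singleton]
      constructor
      · intro hi
        by_cases h1 : i = a
        · exact Or.inl h1
        by_cases h2 : i = b
        · exact Or.inr (Or.inl h2)
        have : i ∈ (S.erase a).erase b := by simp [h1, h2, hi]
        rw [hSe] at this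
        simpa [h1, h2] using this
      · rintro (rfl | rfl | rfl | rfl)
        exacts [ha, hb, hc.2.2, he.2.2]
    refine common_of_data hodd wh w a b c e (fun _ => x) hab hc.2.1.symm he.2.1.symm hc.1.symm he.1.symm
      hce (fun i j _ => Subsingleton.elim _ _) (fun _ => ⟨hax.symm, hbx.symm,
        fun h => hx (h ▸ hc.2.2), fun h => hx (h ▸ he.2.2)⟩) (hS4 ▸ hS) (hS4 ▸ hS0) (fun j => ?_)
      (fun j => ?_) (fun j i p1 p2 p3 => ?_) hne <;> rw [Subsingleton.elim j 0]
    · exact ⟨ea.symm, eb.symm⟩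
    · exact hT 0 x (by simp [hTe])
    · exact hT0 0 i (by simp [hTe, p1, p2, p3])
  have hn2 : n ≠ 2 := fun e => absurd hodd (by rw [e]; decide)
  have hn4 : n ≠ 4 := fun e => absurd hodd (by rw [e]; decide)
  rcases triples_cases (by omega) hn2 hn4 w T hTc hT hT0 hjk with
    ⟨a, b, x, sa, sb, sx, hab, hsa, hsb, hsx, hxinj, hxne, hw⟩ | ⟨hn3, hfour⟩
  swap
  · subst hn3
    right
    refine ⟨rfl, ?_⟩
    obtain ⟨a, b, c, e, sa, sb, sc, se, hab, hac, hae, hbc, hbe, hce, hsa, hsb, hsc, hse, e0, e1, e2⟩ :=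
      hfour 0 1 2 (by decide) (by decide) (by decide)
    exact special_four wh w d hd hne hab hac hae hbc hbe hce hsa hsb hsc hse e0 e1 e2 hSc hS hS0 hjh
      hdh hdj
  -- the common pair
  have hwh : ∀ i, wh i = 1 ∨ wh i = -1 ∨ wh i = 0 := fun i => by
    by_cases hi : i ∈ S
    · rcases hS i hi with e | e <;> simp [e]
    · simp [hS0 i hi]
  have hb1 : ∀ {s z : ℤ}, s = 1 ∨ s = -1 → (z = 1 ∨ z = -1 ∨ z = 0) → -1 ≤ s * z ∧ s * z ≤ 1 := by
    intro s z hs hz
    rcases hs with rfl | rfl <;> rcases hz with rfl | rfl | rfl <;> norm_num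
  have hs2 : ∀ {s : ℤ}, s = 1 ∨ s = -1 → s * s = 1 := by rintro s (rfl | rfl) <;> norm_num
  have hsum : ∀ j, sa * wh a + sb * wh b + sx j * wh (x j) = 2 := by
    intro j
    have e := hjh j
    rw [sum_on (T := {a, b, x j}) fun i hi => ?_, sum_three hab (hxne j).1.symm (hxne j).2.symm,
      hw, hw, hw] at e
    · simpa [hab.symm, (hxne j).1, (hxne j).2] using e
    · simp only [Finset.mem_insert, Finset.mem_singleton, not_or] at hi
      rw [hw, if_neg hi.1, if_neg hi.2.1, if_neg hi.2.2]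
  have hval : ∀ {s z : ℤ}, (s = 1 ∨ s = -1) → s * z = 1 → z = s := fun {s z} hs e => by
    linear_combination s * e - z * hs2 hs
  have hzero : ∀ {s z : ℤ}, (s = 1 ∨ s = -1) → s * z = 0 → z = 0 := fun {s z} hs e => by
    linear_combination s * e - z * hs2 hs
  have hmemS : ∀ {i s}, wh i = s → (s = 1 ∨ s = -1) → i ∈ S := fun {i s} e hs => by
    by_contra hi; rw [hS0 i hi] at e; omega
  let j₀ : Fin n := ⟨0, hn0⟩
  have ba := hb1 hsa (hwh a)
  have bb := hb1 hsb (hwh b)
  by_cases h2 : sa * wh a + sb * wh b = 2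
  · left
    have va := hval hsa (show sa * wh a = 1 by omega)
    have vb := hval hsb (show sb * wh b = 1 by omega)
    have hx0 : ∀ j, wh (x j) = 0 := fun j => hzero (hsx j) (by have := hsum j; omega)
    obtain ⟨c, e, hce, hSe⟩ := Finset.card_eq_two.1 (show ((S.erase a).erase b).card = 2 by
      rw [Finset.card_erase_of_mem (Finset.mem_erase.2 ⟨hab.symm, hmemS vb hsb⟩),
        Finset.card_erase_of_mem (hmemS va hsa), hSc])
    have hc : c ∈ (S.erase a).erase b := by simp [hSe]
    have he : e ∈ (S.erase a).erase b := by simp [hSe]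
    simp only [Finset.mem_erase] at hc he
    have hS4 : S = {a, b, c, e} := by
      ext i
      simp only [Finset.mem_insert, Finset.mem_singleton]
      constructor
      · intro hi
        by_cases h1 : i = a
        · exact Or.inl h1
        by_cases h2 : i = b
        · exact Or.inr (Or.inl h2)
        have : i ∈ (S.erase a).erase b := by simp [h1, h2, hi]
        rw [hSe] at this
        simpa [h1, h2] using this
      · rintro (rfl | rfl | rfl | rfl)
        exacts [hmemS va hsa, hmemS vb hsb, hc.2.2, he.2.2]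
    have hxS : ∀ j, x j ∉ S := fun j hj => by
      rcases hS _ hj with q | q <;> rw [hx0 j] at q <;> omega
    exact common_of_data hodd wh w a b c e x hab hc.2.1.symm he.2.1.symm hc.1.symm he.1.symm hce hxinj
      (fun j => ⟨(hxne j).1, (hxne j).2, fun h => hxS j (h ▸ hc.2.2), fun h => hxS j (h ▸ he.2.2)⟩)
      (hS4 ▸ hS) (hS4 ▸ hS0)
      (fun j => ⟨by rw [hw, if_pos rfl, va], by rw [hw, if_neg hab.symm, if_pos rfl, vb]⟩)
      (fun j => by rw [hw, if_neg (hxne j).1, if_neg (hxne j).2, if_pos rfl]; exact hsx j)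
      (fun j i p1 p2 p3 => by rw [hw, if_neg p1, if_neg p2, if_neg p3]) hne
  -- one of the pair and all the others
  have h3 : sa * wh a + sb * wh b = 1 := by
    have := hsum j₀
    have := hb1 (hsx j₀) (hwh (x j₀))
    omega
  have hx1 : ∀ j, wh (x j) = sx j := fun j => hval (hsx j) (by have := hsum j; omega)
  obtain ⟨a, b, sa, sb, hab, hsa, hsb, hxne, hw, va, vb⟩ :
      ∃ a b sa sb, a ≠ b ∧ (sa = 1 ∨ sa = -1) ∧ (sb = 1 ∨ sb = -1) ∧ (∀ j, x j ≠ a ∧ x j ≠ b) ∧
        (∀ j i, w j i = if i = a then sa else if i = b then sb else if i = x j then sx j else 0) ∧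
        wh a = sa ∧ wh b = 0 := by
    by_cases hca : sa * wh a = 1
    · exact ⟨a, b, sa, sb, hab, hsa, hsb, hxne, hw, hval hsa hca, hzero hsb (by omega)⟩
    · refine ⟨b, a, sb, sa, hab.symm, hsb, hsa, fun j => ⟨(hxne j).2, (hxne j).1⟩, fun j i => ?_,
        hval hsb (by omega), hzero hsa (by omega)⟩
      rw [hw]
      by_cases p : i = a
      · subst p; rw [if_pos rfl, if_neg hab, if_pos rfl]
      · simp [p]
  have hsub : insert a (Finset.univ.image x) ⊆ S := by
    intro i hi
    rcases Finset.mem_insert.1 hi with rfl | hi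
    · exact hmemS va hsa
    · obtain ⟨j, -, rfl⟩ := Finset.mem_image.1 hi
      exact hmemS (hx1 j) (hsx j)
  have hcard : (insert a (Finset.univ.image x)).card = n + 1 := by
    rw [Finset.card_insert_of_notMem (by simp only [Finset.mem_image]; rintro ⟨j, -, e⟩; exact (hxne j).1 e),
      Finset.card_image_of_injective _ hxinj, Finset.card_univ, Fintype.card_fin]
  have := Finset.card_le_card hsub
  obtain rfl : n = 3 := by omega
  have hSeq : insert a (Finset.univ.image x) = S := Finset.eq_of_subset_of_card_le hsub (by omega)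
  right
  refine ⟨rfl, special_star wh w d hd hne x hab hxinj hxne hsa hsb hsx hw (fun i => ?_) hdh hdj⟩
  split_ifs with p1 p2 p3 p4
  · subst i; exact va
  · subst i; exact hx1 0
  · subst i; exact hx1 1
  · subst i; exact hx1 2
  · refine hS0 i fun hi => ?_
    rw [← hSeq, Finset.mem_insert, Finset.mem_image] at hi
    rcases hi with hi | ⟨j, -, hj⟩
    · exact p1 hi
    · fin_cases j
      exacts [p2 hj.symm, p3 hj.symm, p4 hj.symm]

end CfsgLib.Block.Tame.Config
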