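import Cfsg.Agent.Lib.Block.CyclicDefect.Pairs
import Cfsg.Agent.Lib.Block.NilpotentData
import Cfsg.Agent.Lib.Block.Convolution
import Cfsg.Agent.Lib.Block.Sections

/-!
# The product of two sections in a block of cyclic central defect group

The class function `secCF` of a subsection has local integral values.  For a block `b` of `C(u)` with
a unit row and defect group `⟨u⟩`, and `v ∈ ⟨u⟩` alone in `⟨u⟩` in its class, the product of the
functions of `(u, b)` and of a subsection at `v` has part in `(u, b)` divisible by `M`, once the parts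
at `v⁻¹ * u` are orthogonal to those at `u` (`exists_product_res_zero`, in general
`exists_product_res_zero_of`).
-/

open Finset MonoidAlgebra
open scoped ComplexConjugate

set_option autoImplicit false
set_option linter.unusedSectionVars false

namespace CfsgLib.Block.Tame

open Cfsg CfsgLib CfsgLib.Block CfsgLib.Block.CyclicDefect
open scoped Pair

universe u

variable {p : ℕ} {M : Ideal AlgInt} [M.IsMaximal] {G : Type u} [Group G] [Fintype G] [DecidableEq G]

theorem conj_blockCoeff_inv {A : Type u} [Group A] [Finite A] (S : Set (IrrCharacter A)) (t : A) :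
    conj (blockCoeff S t) = blockCoeff S t⁻¹ := by
  classical
  have := Fintype.ofFinite (IrrCharacter A)
  simp only [blockCoeff, finsum_mem_eq_toFinset_sum, map_mul, map_inv₀, map_natCast, map_sum]
  congr 1
  exact Finset.sum_congr rfl fun χ _ => by rw [Char.irr_inv, Complex.conj_conj, Char.conj_irr_one]

theorem subCoeff_inv {H : Subgroup G} (S : Set (IrrCharacter H)) (t : G) :
    subgroupBlockCoeff H S t⁻¹ = conj (subgroupBlockCoeff H S t) := by
  by_cases ht : t ∈ H
  · rw [show t = ((⟨t, ht⟩ : H) : G) from rfl, ← InvMemClass.coe_inv, subgroupBlockCoeff_coe,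
      subgroupBlockCoeff_coe, conj_blockCoeff_inv]
  · rw [subgroupBlockCoeff_of_notMem _ ht, map_zero,
      subgroupBlockCoeff_of_notMem _ fun h => ht (by simpa using inv_mem h)]

theorem subCoeff_conj {H : Subgroup G} (S : Set (IrrCharacter H)) {h : G} (hh : h ∈ H) (t : G) :
    subgroupBlockCoeff H S (h * t * h⁻¹) = subgroupBlockCoeff H S t := by
  by_cases ht : t ∈ H
  · rw [show h * t * h⁻¹ = ((⟨h, hh⟩ * ⟨t, ht⟩ * ⟨h, hh⟩⁻¹ : H) : G) from rfl,
      subgroupBlockCoeff_coe, blockCoeff_conj]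
    exact (subgroupBlockCoeff_coe S ⟨t, ht⟩).symm
  · rw [subgroupBlockCoeff_of_notMem _ ht, subgroupBlockCoeff_of_notMem]
    intro h'
    refine ht ?_
    have := H.mul_mem (H.mul_mem (inv_mem hh) h') hh
    simpa [mul_assoc] using this

theorem subCoeff_mem (hM : IsPModular p M) {H : Subgroup G} {S : Set (IrrCharacter H)}
    (hS : IsPBlock M S) (t : G) : subgroupBlockCoeff H S t ∈ locRing M := by
  by_cases ht : t ∈ H
  · rw [show t = ((⟨t, ht⟩ : H) : G) from rfl, subgroupBlockCoeff_coe]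
    exact blockCoeff_mem hM (.of_isPBlock hS) _
  · rw [subgroupBlockCoeff_of_notMem _ ht]
    exact zero_mem _

theorem subCoeff_ne_zero (hM : IsPModular p M) {u : G}
    {b : Set (IrrCharacter (CQ (Subgroup.zpowers u)))} (hb : IsPBlock M b) {t : G}
    (ht : subgroupBlockCoeff (CQ (Subgroup.zpowers u)) b t ≠ 0) :
    t ∈ CQ (Subgroup.zpowers u) ∧ ¬ p ∣ orderOf t := by
  have hmem : t ∈ CQ (Subgroup.zpowers u) := by
    by_contra h
    exact ht (subgroupBlockCoeff_of_notMem b h)
  refine ⟨hmem, fun hd => ht ?_⟩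
  rw [show t = ((⟨t, hmem⟩ : CQ (Subgroup.zpowers u)) : G) from rfl, subgroupBlockCoeff_coe]
  exact blockCoeff_eq_zero_of_singular hM (.of_isPBlock hb) (by rwa [← Subgroup.orderOf_coe])

variable [Fintype (IrrCharacter G)]

/-- The class function of a subsection. -/
noncomputable def secCF (u : G) (a : BrauerPairIdx G) (w : G) : ℂ :=
  (Nat.card (CQ a.1) : ℂ)⁻¹ * ∑ χ : IrrCharacter G, secPart χ u a 1 * conj ((χ : G → ℂ) w)

theorem secCF_conj (u : G) (a : BrauerPairIdx G) (w c : G) :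
    secCF u a (c * w * c⁻¹) = secCF u a w := by
  simp only [secCF]
  congr 1
  exact Finset.sum_congr rfl fun χ _ => by rw [Char.isClassFunction_irr χ w c]

theorem secCF_swap (u : G) (a : BrauerPairIdx G) (x y : G) :
    secCF u a (x * y) = secCF u a (y * x) := by
  rw [← secCF_conj u a (x * y) y]
  congr 1
  group

/-- The function as a sum over the group. -/
theorem secCF_eq_sum (u : G) (b : Set (IrrCharacter (CQ (Subgroup.zpowers u)))) (w : G) :
    secCF u ⟨Subgroup.zpowers u, b⟩ w = (Nat.card (CQ (Subgroup.zpowers u)) : ℂ)⁻¹ *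
      ∑ g : G, subgroupBlockCoeff (CQ (Subgroup.zpowers u)) b (u⁻¹ * (g⁻¹ * w * g)) := by
  classical
  set c := subgroupBlockCoeff (CQ (Subgroup.zpowers u)) b
  have h1 : ∑ χ : IrrCharacter G, secPart χ u ⟨Subgroup.zpowers u, b⟩ 1 * conj ((χ : G → ℂ) w) =
      ∑ t : G, c t * ((Finset.univ.filter fun g : G => u * t = g⁻¹ * w * g).card : ℂ) := by
    simp only [secPart, Finset.sum_mul, mul_one]
    rw [Finset.sum_comm]
    refine Finset.sum_congr rfl fun t _ => ?_
    rw [Finset.sum_congr rfl fun χ _ => mul_assoc _ _ _, ← Finset.mul_sum, Char.sum_irr_mul_conj]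
    congr 1
    split_ifs with hc
    · obtain ⟨g₀, hg₀⟩ := isConj_iff.mp hc
      rw [Nat.cast_inj, ← Fintype.card_subtype, ← Nat.card_eq_fintype_card]
      refine Nat.card_congr
        { toFun := fun z => ⟨g₀ * z, ?_⟩
          invFun := fun g => ⟨g₀⁻¹ * g, ?_⟩
          left_inv := fun z => Subtype.ext (by simp)
          right_inv := fun g => Subtype.ext (by simp) }
      · have hz := Subgroup.mem_centralizer_singleton_iff.mp z.2
        rw [← hg₀]
        calc u * t = (z : G)⁻¹ * ((z : G) * (u * t)) := by group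
          _ = (z : G)⁻¹ * ((u * t) * z) := by rw [hz]
          _ = _ := by group
      · refine Subgroup.mem_centralizer_singleton_iff.mpr ?_
        calc g₀⁻¹ * (g : G) * (u * t) = g₀⁻¹ * (g : G) * ((g : G)⁻¹ * w * g) := congrArg _ g.2
          _ = g₀⁻¹ * (g₀ * (u * t) * g₀⁻¹) * g := by rw [hg₀]; group
          _ = u * t * (g₀⁻¹ * g) := by group
    · rw [eq_comm, Nat.cast_eq_zero, Finset.card_eq_zero, Finset.filter_eq_empty_iff]
      intro g _ hg
      exact hc (isConj_iff.mpr ⟨g, by rw [hg]; group⟩)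
  rw [secCF, h1]
  congr 1
  simp only [← Finset.sum_boole, Finset.mul_sum, mul_ite, mul_one, mul_zero]
  rw [Finset.sum_comm]
  refine Finset.sum_congr rfl fun g _ => ?_
  rw [Finset.sum_eq_single (u⁻¹ * (g⁻¹ * w * g))]
  · rw [if_pos (mul_inv_cancel_left u _)]
  · intro t _ ht
    rw [if_neg fun e => ht (by rw [← e, inv_mul_cancel_left])]
  · exact fun hh => absurd (Finset.mem_univ _) hh

theorem secCF_mem (hM : IsPModular p M) {u : G}
    {b : Set (IrrCharacter (CQ (Subgroup.zpowers u)))} (hb : IsPBlock M b) (w : G) :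
    secCF u ⟨Subgroup.zpowers u, b⟩ w ∈ locRing M := by
  classical
  have hinv : ∀ (g : G) (h : (CQ (Subgroup.zpowers u))), subgroupBlockCoeff (CQ (Subgroup.zpowers u)) b (u⁻¹ * ((g * h)⁻¹ * w * (g * h))) =
      subgroupBlockCoeff (CQ (Subgroup.zpowers u)) b (u⁻¹ * (g⁻¹ * w * g)) := by
    intro g h
    have hc : Commute (h : G) u := mem_cq_zpowers_iff.mp h.2
    rw [← subCoeff_conj b (inv_mem h.2) (u⁻¹ * (g⁻¹ * w * g)), inv_inv]
    congr 1
    calc u⁻¹ * ((g * (h : G))⁻¹ * w * (g * h)) = (u⁻¹ * (h : G)⁻¹) * (g⁻¹ * w * g) * h := by group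
      _ = ((h : G)⁻¹ * u⁻¹) * (g⁻¹ * w * g) * h := by rw [hc.inv_inv.eq]
      _ = (h : G)⁻¹ * (u⁻¹ * (g⁻¹ * w * g)) * h := by group
  rw [secCF_eq_sum,
    ← Finset.sum_fiberwise Finset.univ (fun g : G => (g : G ⧸ CQ (Subgroup.zpowers u)))]
  have : ∀ q : G ⧸ CQ (Subgroup.zpowers u), ∑ g ∈ Finset.univ.filter (fun g : G => (g : G ⧸ _) = q),
      subgroupBlockCoeff (CQ (Subgroup.zpowers u)) b (u⁻¹ * (g⁻¹ * w * g)) =
      (Nat.card (CQ (Subgroup.zpowers u)) : ℂ) *
        subgroupBlockCoeff (CQ (Subgroup.zpowers u)) b (u⁻¹ * (q.out⁻¹ * w * q.out)) := by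
    intro q
    refine Eq.trans (Finset.sum_bij (t := (Finset.univ : Finset (CQ (Subgroup.zpowers u))))
      (g := fun _ => subgroupBlockCoeff (CQ (Subgroup.zpowers u)) b (u⁻¹ * (q.out⁻¹ * w * q.out)))
      (fun g hg => ⟨q.out⁻¹ * g, QuotientGroup.eq.mp
        ((QuotientGroup.out_eq' q).trans (Finset.mem_filter.mp hg).2.symm)⟩)
      (fun _ _ => Finset.mem_univ _) (fun _ _ _ _ e => mul_left_cancel (Subtype.ext_iff.mp e))
      (fun h _ => ⟨q.out * h, Finset.mem_filter.mpr ⟨Finset.mem_univ _, by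
        rw [QuotientGroup.mk_mul_of_mem _ h.2, QuotientGroup.out_eq']⟩,
        Subtype.ext (inv_mul_cancel_left _ _)⟩) fun g hg => ?_) ?_
    · have h := hinv q.out ⟨q.out⁻¹ * g, QuotientGroup.eq.mp
        ((QuotientGroup.out_eq' q).trans (Finset.mem_filter.mp hg).2.symm)⟩
      dsimp only at h
      rwa [mul_inv_cancel_left] at h
    · rw [Finset.sum_const, Finset.card_univ, nsmul_eq_mul, Nat.card_eq_fintype_card]
  simp only [this, ← Finset.mul_sum]
  rw [inv_mul_cancel_left₀ (Nat.cast_ne_zero.mpr Nat.card_pos.ne')]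
  exact Subring.sum_mem _ fun q _ => subCoeff_mem hM hb _

theorem exists_pPart_of_secCF_ne_zero (hM : IsPModular p M) {u : G} (hu : ∃ k : ℕ, orderOf u = p ^ k)
    {b : Set (IrrCharacter (CQ (Subgroup.zpowers u)))} (hb : IsPBlock M b) {w : G}
    (hw : secCF u ⟨Subgroup.zpowers u, b⟩ w ≠ 0) : ∃ g : G, IsPPart p (g⁻¹ * w * g) u := by
  rw [secCF_eq_sum] at hw
  obtain ⟨g, -, hg⟩ := Finset.exists_ne_zero_of_sum_ne_zero (right_ne_zero_of_mul hw)
  obtain ⟨h1, h2⟩ := subCoeff_ne_zero hM hb hg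
  exact ⟨g, u⁻¹ * (g⁻¹ * w * g), mul_inv_cancel_left _ _, (mem_cq_zpowers_iff.mp h1).symm, hu, h2⟩

/-- The convolution of two of the functions. -/
theorem sum_secCF_mul (u v : G) (a a' : BrauerPairIdx G) (g : G) :
    ∑ x : G, secCF u a x * secCF v a' (x⁻¹ * g) =
      (Nat.card G : ℂ) / ((Nat.card (CQ a.1) : ℂ) * (Nat.card (CQ a'.1) : ℂ)) *
        ∑ χ : IrrCharacter G, secPart χ u a 1 * secPart χ v a' 1 / (χ : G → ℂ) 1 *
          conj ((χ : G → ℂ) g) := by
  classical
  have hconv : ∀ χ ψ : IrrCharacter G,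
      ∑ x : G, conj ((χ : G → ℂ) x) * conj ((ψ : G → ℂ) (x⁻¹ * g)) =
        if χ = ψ then (Nat.card G : ℂ) * conj ((χ : G → ℂ) g) / (χ : G → ℂ) 1 else 0 := by
    intro χ ψ
    simp only [← map_mul, ← map_sum]
    split_ifs with e
    · rw [← e, Char.sum_irr_convolution, map_div₀, map_mul, map_natCast, Char.conj_irr_one]
    · rw [sum_irr_convolution_ne e, map_zero]
  simp only [secCF, Finset.mul_sum, Finset.sum_mul]
  rw [Finset.sum_comm_cycle]
  refine Finset.sum_congr rfl fun χ _ => ?_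
  rw [Finset.sum_comm]
  refine Eq.trans (Finset.sum_congr rfl (g := fun ψ : IrrCharacter G =>
    (Nat.card (CQ a.1) : ℂ)⁻¹ * (Nat.card (CQ a'.1) : ℂ)⁻¹ *
      (secPart χ u a 1 * secPart ψ v a' 1) *
      ∑ x : G, conj ((χ : G → ℂ) x) * conj ((ψ : G → ℂ) (x⁻¹ * g))) fun ψ _ => ?_) ?_
  · rw [Finset.mul_sum]
    exact Finset.sum_congr rfl fun x _ => by ring
  · simp only [hconv, mul_ite, mul_zero, Finset.sum_ite_eq, Finset.mem_univ, if_true]
    ring

/-- The part of the function in a pair, in terms of the parts. -/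
theorem sum_coeff_irr {u : G} (b : Set (IrrCharacter (CQ (Subgroup.zpowers u)))) {y : G}
    (hy : ∀ t ∈ CQ (Subgroup.zpowers u), Commute t y) (χ : IrrCharacter G) (s : G) :
    ∑ t : G, subgroupBlockCoeff (CQ (Subgroup.zpowers u)) b t * conj ((χ : G → ℂ) (y * s * t⁻¹)) =
      conj (secPart χ y ⟨Subgroup.zpowers u, b⟩ s) := by
  rw [secPart, map_sum]
  refine Fintype.sum_equiv (Equiv.inv G) _ _ fun t => ?_
  show _ = conj (subgroupBlockCoeff (CQ (Subgroup.zpowers u)) b t⁻¹ * (χ : G → ℂ) (y * (t⁻¹ * s)))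
  by_cases ht : t ∈ CQ (Subgroup.zpowers u)
  · rw [subCoeff_inv, map_mul, Complex.conj_conj]
    congr 2
    rw [← Char.isClassFunction_irr χ (y * s * t⁻¹) t⁻¹,
      show t⁻¹ * (y * s * t⁻¹) * t⁻¹⁻¹ = t⁻¹ * y * s by group, (hy t ht).inv_left.eq, mul_assoc]
  · rw [subgroupBlockCoeff_of_notMem _ ht, subgroupBlockCoeff_of_notMem _ fun h => ht (by
      simpa using inv_mem h)]
    simp

open scoped Classical in
/-- A function of the block on its centralizer with a cyclic central defect group and a unit row. -/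
theorem blockPart_rank_one (hM : IsPModular p M) {u : G}
    {b : Set (IrrCharacter (CQ (Subgroup.zpowers u)))} (hb : IsPBlock M b)
    (hdef : IsDefectGroup p M b ((Subgroup.zpowers u).subgroupOf (CQ (Subgroup.zpowers u))))
    {η₀ : IrrCharacter (CQ (Subgroup.zpowers u))}
    (hrow : ∀ η ∈ b, ∃ d : ℕ, ∀ t, ¬ p ∣ orderOf t →
      (η : CQ (Subgroup.zpowers u) → ℂ) t = (d : ℂ) * (η₀ : CQ (Subgroup.zpowers u) → ℂ) t)
    [Fintype (IrrCharacter (CQ (Subgroup.zpowers u)))]
    (a : IrrCharacter (CQ (Subgroup.zpowers u)) → ℂ) (x : CQ (Subgroup.zpowers u)) :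
    ((x : G) ∉ Subgroup.zpowers u → ∀ w, IsPPart p w x →
      ∑ η ∈ Finset.univ.filter (fun η : IrrCharacter (CQ (Subgroup.zpowers u)) => η ∈ b),
        a η * (η : CQ (Subgroup.zpowers u) → ℂ) w = 0) ∧
    ((x : G) ∈ Subgroup.zpowers u → ∀ t, ¬ p ∣ orderOf t →
      (∑ η ∈ Finset.univ.filter (fun η : IrrCharacter (CQ (Subgroup.zpowers u)) => η ∈ b),
          a η * (η : CQ (Subgroup.zpowers u) → ℂ) (x * t)) *
          (η₀ : CQ (Subgroup.zpowers u) → ℂ) 1 =
        (∑ η ∈ Finset.univ.filter (fun η : IrrCharacter (CQ (Subgroup.zpowers u)) => η ∈ b),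
          a η * (η : CQ (Subgroup.zpowers u) → ℂ) x) * (η₀ : CQ (Subgroup.zpowers u) → ℂ) t) := by
  have hcen : ∀ (y : CQ (Subgroup.zpowers u)), (y : G) ∈ Subgroup.zpowers u → ∀ t, Commute y t := by
    intro y hy t
    obtain ⟨i, hi⟩ := Subgroup.mem_zpowers_iff.mp hy
    refine Subtype.ext ?_
    show (y : G) * (t : G) = (t : G) * y
    rw [← hi]
    exact ((mem_cq_zpowers_iff.mp t.2).symm.zpow_left i).eq
  constructor
  · intro hx w hw
    refine Finset.sum_eq_zero fun η hη => mul_eq_zero_of_right _ ?_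
    refine irr_eq_zero_of_not_mem_defect hM hb hdef hw (fun c hc => hx ?_) (Finset.mem_filter.mp hη).2
    rw [Subgroup.mem_subgroupOf] at hc
    have h := (hcen (c * x * c⁻¹) hc c).eq
    rw [inv_mul_cancel_right] at h
    rw [mul_left_cancel h, SetLike.mem_coe.symm]
    exact hc
  · intro hx t ht
    simp only [Finset.sum_mul]
    refine Finset.sum_congr rfl fun η hη => ?_
    obtain ⟨d, hd⟩ := hrow η (Finset.mem_filter.mp hη).2
    obtain ⟨l, -, hl⟩ := exists_central_scalar η (hcen x hx) (pow_orderOf_eq_one x)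
    have hl1 := hl 1
    rw [mul_one] at hl1
    rw [hl t, hd t ht, hl1, hd 1 (by rw [orderOf_one]; exact hM.1.not_dvd_one)]
    ring

open scoped Classical in
/-- The part of the product of the two functions is divisible by `M`, when for every `y` in the
cyclic group one of the two sums of parts vanishes. -/
theorem exists_product_res_zero_of (hM : IsPModular p M) {u v : G} (hu : ∃ k : ℕ, orderOf u = p ^ k)
    {b : Set (IrrCharacter (CQ (Subgroup.zpowers u)))} (hb : IsPBlock M b) (hrow : HasUnitRow p b)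
    (hdef : IsDefectGroup p M b ((Subgroup.zpowers u).subgroupOf (CQ (Subgroup.zpowers u))))
    {bv : Set (IrrCharacter (CQ (Subgroup.zpowers v)))} (hbv : IsPBlock M bv)
    {s : G} (hs : s ∈ regC p u)
    (hsum : ∀ y ∈ Subgroup.zpowers u,
      ∑ χ : IrrCharacter G, secPart χ v ⟨Subgroup.zpowers v, bv⟩ 1 *
          conj (secPart χ y ⟨Subgroup.zpowers u, b⟩ 1) = 0 ∨
        ∑ χ : IrrCharacter G, secPart χ u ⟨Subgroup.zpowers u, b⟩ 1 *
          conj (secPart χ (y⁻¹ * u) ⟨Subgroup.zpowers u, b⟩ s) = 0) :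
    ∃ L : locRing M, res M L = 0 ∧ (L : ℂ) = (Nat.card G : ℂ) /
        ((Nat.card (CQ (Subgroup.zpowers u)) : ℂ) * (Nat.card (CQ (Subgroup.zpowers v)) : ℂ)) *
      ∑ χ : IrrCharacter G, secPart χ u ⟨Subgroup.zpowers u, b⟩ 1 *
        secPart χ v ⟨Subgroup.zpowers v, bv⟩ 1 / (χ : G → ℂ) 1 *
        conj (secPart χ u ⟨Subgroup.zpowers u, b⟩ s) := by
  have hpf : Fact p.Prime := ⟨hM.1⟩
  have := charP_resField hM
  have := Fintype.ofFinite (IrrCharacter (CQ (Subgroup.zpowers u)))
  set c := subgroupBlockCoeff (CQ (Subgroup.zpowers u)) b with hc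
  set A := secCF u ⟨Subgroup.zpowers u, b⟩ with hA
  set V' := secCF v ⟨Subgroup.zpowers v, bv⟩ with hV'
  have hy : ∀ {y : G}, y ∈ Subgroup.zpowers u → ∀ t ∈ (CQ (Subgroup.zpowers u)), Commute t y := fun {y} hy t ht => by
    obtain ⟨i, rfl⟩ := Subgroup.mem_zpowers_iff.mp hy
    exact (mem_cq_zpowers_iff.mp ht).zpow_right i
  have huH : u ∈ (CQ (Subgroup.zpowers u)) := mem_cq_zpowers_iff.mpr (Commute.refl u)
  have hsH : s ∈ (CQ (Subgroup.zpowers u)) := (mem_regC.mp hs).1
  -- the projection of the function at `v` to the block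
  obtain ⟨η₀, hη₀, hd, -⟩ := hrow
  set f : (CQ (Subgroup.zpowers u)) → ℂ := fun w => conj (V' (w : G)) with hf
  have hfc : IsClassFunction (CQ (Subgroup.zpowers u)) f := fun w c' => by
    simp only [hf, hV', Subgroup.coe_mul, InvMemClass.coe_inv, secCF_conj]
  have hV : ∀ w : (CQ (Subgroup.zpowers u)), ∑ t : G, c t * V' ((w : G) * t⁻¹) = conj (blockPart b f w) := by
    intro w
    rw [blockPart_eq_sum b hfc w, map_sum,
      ← Finset.sum_subset (Finset.subset_univ (Finset.univ.filter (fun t : G => t ∈ (CQ (Subgroup.zpowers u))))) fun t _ ht => by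
        simp only [Finset.mem_filter, Finset.mem_univ, true_and] at ht
        rw [hc, subgroupBlockCoeff_of_notMem b ht, zero_mul],
      Finset.sum_subtype (p := fun t => t ∈ (CQ (Subgroup.zpowers u))) _ (fun t => by simp)]
    refine Fintype.sum_equiv (Equiv.inv (CQ (Subgroup.zpowers u))) _ _ fun t => ?_
    simp only [Equiv.inv_apply, hf, map_mul, Complex.conj_conj, Subgroup.coe_mul,
      InvMemClass.coe_inv, hc]
    rw [subgroupBlockCoeff_coe, conj_blockCoeff_inv, inv_inv, hV', secCF_swap]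
  have hzero : ∀ y : (CQ (Subgroup.zpowers u)), (y : G) ∈ Subgroup.zpowers u →
      (∑ χ : IrrCharacter G, secPart χ v ⟨Subgroup.zpowers v, bv⟩ 1 *
        conj (secPart χ (y : G) ⟨Subgroup.zpowers u, b⟩ 1)) = 0 → blockPart b f y = 0 := by
    intro y hyu h0
    rw [← Complex.conj_conj (blockPart b f y), ← hV, map_eq_zero]
    refine Eq.trans ?_ (mul_eq_zero_of_right (Nat.card (CQ (Subgroup.zpowers v)) : ℂ)⁻¹ h0)
    simp only [hV', secCF, Finset.mul_sum]
    rw [Finset.sum_comm]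
    refine Finset.sum_congr rfl fun χ _ => ?_
    rw [← sum_coeff_irr b (hy hyu) χ 1, Finset.mul_sum, Finset.mul_sum]
    exact Finset.sum_congr rfl fun t _ => by rw [mul_one]; ring
  -- the projection is a multiple of the idempotent at `v`
  set a := fun η : IrrCharacter (CQ (Subgroup.zpowers u)) => classInner f (η : (CQ (Subgroup.zpowers u)) → ℂ)
  have hspan : ∀ w, blockPart b f w = ∑ η ∈ Finset.univ.filter (fun η : IrrCharacter (CQ (Subgroup.zpowers u)) => η ∈ b),
      a η * (η : (CQ (Subgroup.zpowers u)) → ℂ) w := fun w => blockPart_eq b f w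
  set a' := fun η : IrrCharacter (CQ (Subgroup.zpowers u)) => (Nat.card (CQ (Subgroup.zpowers u)) : ℂ)⁻¹ * (η : (CQ (Subgroup.zpowers u)) → ℂ) 1
  have hcspan : ∀ w : (CQ (Subgroup.zpowers u)), conj (c (w : G)) =
      ∑ η ∈ Finset.univ.filter (fun η : IrrCharacter (CQ (Subgroup.zpowers u)) => η ∈ b), a' η * (η : (CQ (Subgroup.zpowers u)) → ℂ) w := by
    intro w
    simp only [hc, subgroupBlockCoeff_coe, blockCoeff, finsum_mem_eq_toFinset_sum, map_mul,
      map_inv₀, map_natCast, map_sum, Complex.conj_conj, Char.conj_irr_one, Finset.mul_sum, a',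
      mul_assoc]
    exact Finset.sum_congr (by ext; simp) fun _ _ => rfl
  set e1 : ℂ := conj (c ((1 : (CQ (Subgroup.zpowers u))) : G)) with he1
  have he1' : e1 ≠ 0 := by
    rw [he1, hcspan, Ne, Finset.sum_congr rfl fun η _ => mul_assoc _ _ _, ← Finset.mul_sum,
      mul_eq_zero, not_or]
    refine ⟨inv_ne_zero (Nat.cast_ne_zero.mpr Nat.card_pos.ne'), fun h0 => ?_⟩
    have h1 : ∀ η : IrrCharacter (CQ (Subgroup.zpowers u)), (η : (CQ (Subgroup.zpowers u)) → ℂ) 1 * (η : (CQ (Subgroup.zpowers u)) → ℂ) 1 =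
        (η : (CQ (Subgroup.zpowers u)) → ℂ) 1 * conj ((η : (CQ (Subgroup.zpowers u)) → ℂ) 1) := fun η => by rw [Char.conj_irr_one]
    rw [Finset.sum_congr rfl fun η _ => h1 η] at h0
    exact Char.irr_one_ne_zero η₀ (eq_zero_of_sum_mul_conj h0
      (Finset.mem_filter.mpr ⟨Finset.mem_univ _, hη₀⟩))
  set κ : (CQ (Subgroup.zpowers u)) → ℂ := fun y => conj (blockPart b f y / e1) with hκ
  set Qs : Finset (CQ (Subgroup.zpowers u)) := Finset.univ.filter (fun y => (y : G) ∈ Subgroup.zpowers u)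
    with hQs
  obtain ⟨k, hk⟩ := hu
  have hsing : ∀ (w x y : CQ (Subgroup.zpowers u)), (y : G) ∈ Subgroup.zpowers u → IsPPart p w x →
      x ≠ y → c ((y : G)⁻¹ * (w : G)) = 0 := by
    intro w x y hyu hx hxy
    by_contra hne
    obtain ⟨-, h3⟩ := subCoeff_ne_zero hM hb hne
    obtain ⟨t, htw, hxt, ⟨i, hi⟩, hreg⟩ := hx
    obtain ⟨j, -, hj⟩ := (Nat.dvd_prime_pow hM.1).mp (hk ▸ orderOf_dvd_of_mem_zpowers (inv_mem hyu))
    rw [show (y : G)⁻¹ * (w : G) = ((y⁻¹ * w : CQ (Subgroup.zpowers u)) : G) from rfl,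
      Subgroup.orderOf_coe, ← htw, ← mul_assoc] at h3
    set z := y⁻¹ * x with hz
    have hyz : Commute y⁻¹ x := Subtype.ext (hy (inv_mem hyu) x x.2).symm.eq
    have hzt : Commute z t :=
      Commute.mul_left (Subtype.ext (hy (inv_mem hyu) t t.2).symm.eq : Commute y⁻¹ t) hxt
    have hzp : ∃ m, orderOf z = p ^ m := by
      have h4 := hyz.orderOf_mul_dvd_lcm.trans (Nat.lcm_dvd_mul _ _)
      have hjH : orderOf y⁻¹ = p ^ j := by rw [← Subgroup.orderOf_coe]; exact hj
      rw [hi, hjH, ← pow_add] at h4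
      obtain ⟨m, -, hm⟩ := (Nat.dvd_prime_pow hM.1).mp h4
      exact ⟨m, hm⟩
    obtain ⟨m, hm⟩ := hzp
    rw [hzt.orderOf_mul_eq_mul_orderOf_of_coprime
      (hm ▸ ((hM.1.coprime_iff_not_dvd).2 hreg).pow_left m), hm] at h3
    have hm0 : m ≠ 0 := fun h0 => hxy (by
      have h5 : z = 1 := orderOf_eq_one_iff.mp (by rw [hm, h0, pow_zero])
      rw [hz, inv_mul_eq_one] at h5
      exact h5.symm)
    exact h3 (Dvd.dvd.mul_right (dvd_pow_self p hm0) _)
  have hVc : ∀ w : (CQ (Subgroup.zpowers u)),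
      conj (blockPart b f w) = ∑ y ∈ Qs, κ y * c ((y : G)⁻¹ * (w : G)) := by
    intro w
    obtain ⟨x, hx⟩ := exists_isPPart hM.1 w
    by_cases hxu : (x : G) ∈ Subgroup.zpowers u
    · rw [Finset.sum_eq_single_of_mem x (by simp [hQs, hxu]) fun y hy' hne => by
        rw [hsing w x y (Finset.mem_filter.mp hy').2 hx (Ne.symm hne), mul_zero]]
      rw [hκ, ← Complex.conj_conj (c ((x : G)⁻¹ * (w : G))), ← map_mul]
      congr 1
      rw [show (x : G)⁻¹ * (w : G) = ((x⁻¹ * w : CQ (Subgroup.zpowers u)) : G) from rfl, hcspan]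
      obtain ⟨t, htw, hxt, -, hreg⟩ := hx
      rw [← htw]
      have h1 := (blockPart_rank_one hM hb hdef hd a x).2 hxu t hreg
      rw [← hspan, ← hspan] at h1
      rw [inv_mul_cancel_left]
      have h2 := (blockPart_rank_one hM hb hdef hd a' 1).2 (one_mem _) t hreg
      rw [one_mul, ← hcspan 1, ← he1] at h2
      have hη1 := Char.irr_one_ne_zero η₀
      field_simp
      refine mul_left_cancel₀ hη1 ?_
      linear_combination e1 * h1 - (blockPart b f x) * h2
    · rw [hspan, (blockPart_rank_one hM hb hdef hd a x).1 hxu w hx, map_zero,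
        Finset.sum_eq_zero fun y hy' => ?_]
      rw [hsing w x y (Finset.mem_filter.mp hy').2 hx fun e => hxu (e ▸ (Finset.mem_filter.mp hy').2),
        mul_zero]
  replace hu : ∃ k : ℕ, orderOf u = p ^ k := ⟨k, hk⟩
  -- the lifts
  let cl : G → locRing M := fun t => ⟨c t, subCoeff_mem hM hb t⟩
  let Al : G → locRing M := fun x => ⟨A x, secCF_mem hM hb x⟩
  let Vl : G → locRing M := fun x => ⟨V' x, secCF_mem hM hbv x⟩
  let L : locRing M := ∑ t : G, cl t * ∑ x : G, Al x * Vl (x⁻¹ * (u * s * t⁻¹))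
  let L' : locRing M := ∑ t : G, cl t * ∑ x ∈ Finset.univ.filter (fun x : G => x ∈ (CQ (Subgroup.zpowers u))),
    Al x * Vl (x⁻¹ * (u * s * t⁻¹))
  have hL' : L' = 0 := by
    refine Subtype.ext ?_
    simp only [L', cl, Al, Vl, AddSubmonoidClass.coe_finsetSum, Subring.coe_mul, Subring.coe_zero,
      Finset.mul_sum]
    rw [Finset.sum_comm]
    refine Eq.trans (Finset.sum_congr rfl (g := fun x => ∑ y ∈ Qs, κ y * (A x * c ((y : G)⁻¹ * (x⁻¹ * (u * s)))))
      fun x hx => ?_) ?_
    · have hxH : x⁻¹ * (u * s) ∈ (CQ (Subgroup.zpowers u)) :=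
        (CQ (Subgroup.zpowers u)).mul_mem (inv_mem (Finset.mem_filter.mp hx).2) ((CQ (Subgroup.zpowers u)).mul_mem huH hsH)
      have e := (hV ⟨_, hxH⟩).trans (hVc ⟨_, hxH⟩)
      dsimp only at e
      rw [Finset.sum_congr rfl fun y _ => mul_left_comm (κ y) (A x) _, ← Finset.mul_sum, ← e,
        Finset.mul_sum]
      refine Finset.sum_congr rfl fun t _ => ?_
      rw [show x⁻¹ * (u * s * t⁻¹) = x⁻¹ * (u * s) * t⁻¹ by group]
      ring
    · rw [Finset.sum_comm]
      refine Finset.sum_eq_zero fun y hy' => ?_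
      have hyu := (Finset.mem_filter.mp hy').2
      rw [← Finset.mul_sum]
      rcases hsum _ hyu with h0 | horth
      · exact mul_eq_zero_of_left (by simp only [hκ, hzero y hyu h0, zero_div, map_zero]) _
      refine mul_eq_zero_of_right _ ?_
      rw [Finset.sum_subset (Finset.subset_univ _) fun x _ hx => by
        rw [hc, subgroupBlockCoeff_of_notMem b fun h => hx (Finset.mem_filter.mpr
          ⟨Finset.mem_univ _, by
            have := mul_mem (mul_mem huH hsH) (inv_mem (mul_mem y.2 h))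
            convert this using 1
            group⟩), mul_zero]]
      rw [Fintype.sum_equiv ((Equiv.inv G).trans ((Equiv.mulRight (u * s)).trans
        (Equiv.mulLeft (y : G)⁻¹))) _ (fun t => c t * A ((y : G)⁻¹ * u * s * t⁻¹)) fun x => ?_]
      · simp only [hA, secCF, Finset.mul_sum]
        rw [Finset.sum_comm]
        refine Eq.trans (Finset.sum_congr rfl (g := fun χ : IrrCharacter G => (Nat.card (CQ (Subgroup.zpowers u)) : ℂ)⁻¹ *
          (secPart χ u ⟨Subgroup.zpowers u, b⟩ 1 *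
            conj (secPart χ ((y : G)⁻¹ * u) ⟨Subgroup.zpowers u, b⟩ s))) fun χ _ => ?_) ?_
        · rw [← sum_coeff_irr b (hy (mul_mem (inv_mem hyu) (Subgroup.mem_zpowers u))) χ s,
            Finset.mul_sum, Finset.mul_sum]
          exact Finset.sum_congr rfl fun t _ => by ring
        · rw [← Finset.mul_sum, horth, mul_zero]
      · simp only [Equiv.trans_apply, Equiv.inv_apply, Equiv.coe_mulRight, Equiv.coe_mulLeft]
        rw [mul_comm, hA, ← secCF_conj u _ ((y : G)⁻¹ * u * s * ((y : G)⁻¹ * (x⁻¹ * (u * s)))⁻¹) (y : G)]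
        congr 2
        group
  refine ⟨L, ?_, ?_⟩
  · rw [← map_zero (res M), ← hL']
    simp only [L, L', map_sum, map_mul]
    refine Finset.sum_congr rfl fun t _ => ?_
    by_cases ht : t ∈ (CQ (Subgroup.zpowers u))
    · congr 1
      have hP : IsPGroup p (Subgroup.zpowers u) := isPGroup_zpowers hu
      have hgH : u * s * t⁻¹ ∈ Subgroup.centralizer (Subgroup.zpowers u : Set G) :=
        (CQ (Subgroup.zpowers u)).mul_mem ((CQ (Subgroup.zpowers u)).mul_mem huH hsH) (inv_mem ht)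
      have h := coeff_mul_brauer (p := p) hP
        (a := gaOfFun fun x => res M (Al x)) (b := gaOfFun fun x => res M (Vl x))
        (fun z _ g => by
          simp only [coeff_gaOfFun]
          exact congrArg _ (Subtype.ext (secCF_conj _ _ g z)))
        (fun z _ g => by
          simp only [coeff_gaOfFun]
          exact congrArg _ (Subtype.ext (secCF_conj _ _ g z))) hgH
      rw [coeff_mul_sum] at h
      simpa only [coeff_gaOfFun] using h
    · rw [show cl t = 0 from Subtype.ext (subgroupBlockCoeff_of_notMem b ht), map_zero, zero_mul,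
        zero_mul]
  · simp only [L, cl, Al, Vl, AddSubmonoidClass.coe_finsetSum, Subring.coe_mul, hA, hV',
      sum_secCF_mul]
    rw [Finset.mul_sum]
    simp only [Finset.mul_sum]
    rw [Finset.sum_comm]
    refine Finset.sum_congr rfl fun χ _ => ?_
    rw [← sum_coeff_irr b (hy (Subgroup.mem_zpowers u)) χ s, Finset.mul_sum, Finset.mul_sum]
    exact Finset.sum_congr rfl fun t _ => by ring

/-- The parts at elements which are not conjugate are orthogonal, whatever the pair at the second. -/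
theorem sum_secPart_zero_of_not_isConj (hM : IsPModular p M) {u v : G}
    (hu : ∃ k : ℕ, orderOf u = p ^ k) (hv : ∃ k : ℕ, orderOf v = p ^ k)
    {b : Set (IrrCharacter (CQ (Subgroup.zpowers u)))} (hb : IsPBlock M b)
    {bv : Set (IrrCharacter (CQ (Subgroup.zpowers v)))} (hbv : IsPBlock M bv)
    {y : G} (hyu : y ∈ Subgroup.zpowers u) (hne : ¬ IsConj v y) :
    ∑ χ : IrrCharacter G, secPart χ v ⟨Subgroup.zpowers v, bv⟩ 1 *
      conj (secPart χ y ⟨Subgroup.zpowers u, b⟩ 1) = 0 := by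
  classical
  have hy : ∀ t ∈ CQ (Subgroup.zpowers u), Commute t y := fun t ht => by
    obtain ⟨i, rfl⟩ := Subgroup.mem_zpowers_iff.mp hyu
    exact (mem_cq_zpowers_iff.mp ht).zpow_right i
  have h1 : ∑ t : G, subgroupBlockCoeff (CQ (Subgroup.zpowers u)) b t *
      secCF v ⟨Subgroup.zpowers v, bv⟩ (y * t⁻¹) = 0 := by
    refine Finset.sum_eq_zero fun t _ => ?_
    by_contra hne'
    obtain ⟨ht1, ht2⟩ := subCoeff_ne_zero hM hb (left_ne_zero_of_mul hne')
    obtain ⟨g, hg⟩ := exists_pPart_of_secCF_ne_zero hM hv hbv (right_ne_zero_of_mul hne')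
    obtain ⟨k, hk⟩ := hu
    have hpy : IsPPart p (y * t⁻¹) y := by
      refine ⟨t⁻¹, rfl, (hy t ht1).symm.inv_right, ?_, by rwa [orderOf_inv]⟩
      obtain ⟨j, -, hj⟩ := (Nat.dvd_prime_pow hM.1).mp (hk ▸ orderOf_dvd_of_mem_zpowers hyu)
      exact ⟨j, hj⟩
    refine hne (isConj_iff.mpr ⟨g, ?_⟩)
    exact isPPart_unique hM.1 (by simpa [mul_assoc] using isPPart_conj hg g) hpy
  refine (mul_eq_zero.mp (?_ : (Nat.card (CQ (Subgroup.zpowers v)) : ℂ)⁻¹ * _ = 0)).resolve_left
    (inv_ne_zero (Nat.cast_ne_zero.mpr Nat.card_pos.ne'))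
  refine Eq.trans ?_ h1
  simp only [secCF, Finset.mul_sum]
  rw [Finset.sum_comm]
  refine Finset.sum_congr rfl fun χ _ => ?_
  rw [← sum_coeff_irr b hy χ 1, Finset.mul_sum, Finset.mul_sum]
  exact Finset.sum_congr rfl fun t _ => by rw [mul_one]; ring

/-- The part of the product of the two functions is divisible by `M`, when `v` is alone in its
class in the cyclic group. -/
theorem exists_product_res_zero (hM : IsPModular p M) {u v : G} (hu : ∃ k : ℕ, orderOf u = p ^ k)
    (hv : ∃ k : ℕ, orderOf v = p ^ k)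
    {b : Set (IrrCharacter (CQ (Subgroup.zpowers u)))} (hb : IsPBlock M b) (hrow : HasUnitRow p b)
    (hdef : IsDefectGroup p M b ((Subgroup.zpowers u).subgroupOf (CQ (Subgroup.zpowers u))))
    {bv : Set (IrrCharacter (CQ (Subgroup.zpowers v)))} (hbv : IsPBlock M bv)
    (huniq : ∀ y ∈ Subgroup.zpowers u, IsConj v y → y = v)
    {s : G} (hs : s ∈ regC p u)
    (horth : ∑ χ : IrrCharacter G, secPart χ u ⟨Subgroup.zpowers u, b⟩ 1 *
      conj (secPart χ (v⁻¹ * u) ⟨Subgroup.zpowers u, b⟩ s) = 0) :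
    ∃ L : locRing M, res M L = 0 ∧ (L : ℂ) = (Nat.card G : ℂ) /
        ((Nat.card (CQ (Subgroup.zpowers u)) : ℂ) * (Nat.card (CQ (Subgroup.zpowers v)) : ℂ)) *
      ∑ χ : IrrCharacter G, secPart χ u ⟨Subgroup.zpowers u, b⟩ 1 *
        secPart χ v ⟨Subgroup.zpowers v, bv⟩ 1 / (χ : G → ℂ) 1 *
        conj (secPart χ u ⟨Subgroup.zpowers u, b⟩ s) :=
  exists_product_res_zero_of hM hu hb hrow hdef hbv hs fun y hy => by
    by_cases h : IsConj v y
    · exact Or.inr (by rw [huniq y hy h]; exact horth)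
    · exact Or.inl (sum_secPart_zero_of_not_isConj hM hu hv hb hbv hy h)

end CfsgLib.Block.Tame
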