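import Cfsg.Agent.Lib.Block.Tame.SectionProduct
import Cfsg.Agent.Lib.Block.Contrib
import Cfsg.Agent.Lib.Block.BlockCount

/-!
# The parts in a block with a unit row

In a block `b` of `C(u)` with a unit row the parts of a character are multiples of the conjugated
coefficients of the idempotent (`secPart_mul_coeff`), and the contributions are the products of the
parts at the identity (`secSum_mul_coeff`).
-/

open Finset MonoidAlgebra
open scoped ComplexConjugate

set_option autoImplicit false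
set_option linter.unusedSectionVars false

namespace CfsgLib.Block.Tame

open Cfsg CfsgLib CfsgLib.Block CfsgLib.Block.CyclicDefect
open scoped Pair

universe u

variable {p : ℕ} {M : Ideal AlgInt} [M.IsMaximal]

/-- The squares of the degrees in a block with a unit row. -/
theorem exists_sum_sq_row {A : Type u} [Group A] [Fintype A] [Fintype (IrrCharacter A)]
    (hM : IsPModular p M) {b : Set (IrrCharacter A)} (hb : IsPBlock M b) (hrow : HasUnitRow p b)
    [DecidablePred (· ∈ b)] :
    ∃ e : ℕ, e ≠ 0 ∧ e.factorization p + blockDefect p b = (Nat.card A).factorization p ∧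
      ∑ η ∈ Finset.univ.filter (· ∈ b), (η : A → ℂ) 1 * (η : A → ℂ) 1 =
        (p : ℂ) ^ blockDefect p b * ((e : ℂ) * e) := by
  classical
  obtain ⟨η, hη, hrows, hnorm⟩ := hrow
  choose! d hd using hrows
  have hreg : ¬ p ∣ orderOf (1 : A) := by
    rw [orderOf_one]; exact hM.1.not_dvd_one
  have hval : ∀ θ ∈ b, regInner p η θ = (d θ : ℂ) * regInner p η η := fun θ hθ => by
    refine mul_left_cancel₀ (Nat.cast_ne_zero.mpr Nat.card_pos.ne' : (Nat.card A : ℂ) ≠ 0) ?_
    rw [card_mul_regInner, mul_left_comm, card_mul_regInner, Finset.mul_sum]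
    refine Finset.sum_congr rfl fun g hg => ?_
    have hg' := (Finset.mem_filter.mp hg).2
    rw [hd θ hθ g⁻¹ (by rwa [orderOf_inv])]
    ring
  have hsq : regInner p η η * ∑ θ ∈ Finset.univ.filter (· ∈ b), (d θ : ℂ) * (d θ : ℂ) = 1 := by
    have h := sum_regInner_mul p η (1 : A)
    simp only [regFun, hreg, if_false] at h
    rw [← Finset.sum_subset (Finset.filter_subset (fun θ => θ ∈ b) Finset.univ) fun θ _ hθ => by
        rw [regInner_eq_zero_of_not_mem hM (.of_isPBlock hb) hη (by simpa using hθ), zero_mul]] at h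
    rw [Finset.sum_congr rfl (g := fun θ => regInner p η η * ((d θ : ℂ) * (d θ : ℂ)) *
        (η : A → ℂ) 1) fun θ hθ => by
      rw [hval θ (Finset.mem_filter.mp hθ).2, hd θ (Finset.mem_filter.mp hθ).2 1 hreg]
      ring, ← Finset.sum_mul, ← Finset.mul_sum] at h
    exact (mul_eq_right₀ (Char.irr_one_ne_zero η)).mp h
  obtain ⟨hη1, he⟩ := charDegree_eq η
  refine ⟨charDegree (η : A → ℂ), he, le_antisymm ?_ (le_degVal_add_blockDefect hη), ?_⟩
  · obtain ⟨θ, hθ, h0⟩ : ∃ θ ∈ b, blockHeight p b (θ : A → ℂ) = 0 := by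
      obtain ⟨θ, hθ, hθm⟩ := Nat.sInf_mem
        (((isPBlock_nonempty hb).image fun χ : IrrCharacter A => (charDegree (χ : A → ℂ)).factorization p))
      exact ⟨θ, hθ, by
        simp only at hθm
        rw [blockHeight, hθm, Nat.sub_self]⟩
    have h1 := degVal_add_blockDefect hM hb hθ h0
    have h2 : charDegree (θ : A → ℂ) = d θ * charDegree (η : A → ℂ) := by
      have h3 := hd θ hθ 1 hreg
      rw [(charDegree_eq θ).1, hη1] at h3
      exact_mod_cast h3
    have hd0 : d θ ≠ 0 := fun e => (charDegree_eq θ).2 (by rw [h2, e, zero_mul])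
    rw [← h1, degVal, h2, Nat.factorization_mul hd0 he, Finsupp.add_apply]
    omega
  · rw [Finset.sum_congr rfl (g := fun θ => (d θ : ℂ) * (d θ : ℂ) * ((η : A → ℂ) 1 * (η : A → ℂ) 1))
      fun θ hθ => by rw [hd θ (Finset.mem_filter.mp hθ).2 1 hreg]; ring, ← Finset.sum_mul, hη1]
    have hrne : regInner p η η ≠ 0 := fun h => by rw [h, zero_mul] at hnorm; exact zero_ne_one hnorm
    congr 1
    exact mul_left_cancel₀ hrne (hsq.trans hnorm.symm)

variable {G : Type u} [Group G] [Fintype G] [DecidableEq G]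
  {u : G} {b : Set (IrrCharacter (CQ (Subgroup.zpowers u)))}

/-- The sum of the squares of the coefficients. -/
theorem sum_coeff_mul_conj (hM : IsPModular p M) (hb : IsPBlock M b) :
    ∑ s ∈ regC p u, subgroupBlockCoeff (CQ (Subgroup.zpowers u)) b s *
        conj (subgroupBlockCoeff (CQ (Subgroup.zpowers u)) b s) =
      subgroupBlockCoeff (CQ (Subgroup.zpowers u)) b 1 := by
  classical
  have hS := IsBlockUnion.of_isPBlock (M := M) hb
  have hidem : ((blockIdem M b : MonoidAlgebra (locRing M) (CQ (Subgroup.zpowers u))) *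
      (blockIdem M b : MonoidAlgebra (locRing M) (CQ (Subgroup.zpowers u)))) =
      (blockIdem M b : MonoidAlgebra (locRing M) (CQ (Subgroup.zpowers u))) :=
    congrArg Subtype.val (blockIdem_mul_self hM hS)
  have h := congrArg (fun z => ((z.coeff (1 : CQ (Subgroup.zpowers u)) : locRing M) : ℂ)) hidem
  simp only [coeff_mul_sum, AddSubmonoidClass.coe_finsetSum, Subring.coe_mul, mul_one,
    coe_coeff_blockIdem hM hS] at h
  rw [Finset.sum_subset (Finset.subset_univ _) fun t _ ht => mul_eq_zero_of_left (by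
      by_contra hne
      exact ht (mem_regC.mpr (subCoeff_ne_zero hM hb hne))) _,
    show (1 : G) = ((1 : CQ (Subgroup.zpowers u)) : G) from rfl, subgroupBlockCoeff_coe, ← h,
    ← Finset.sum_subset (Finset.subset_univ (Finset.univ.filter (fun t : G => t ∈ CQ (Subgroup.zpowers u))))
      (fun t _ ht => mul_eq_zero_of_left (subgroupBlockCoeff_of_notMem b fun h' => ht (by simpa using h')) _),
    Finset.sum_subtype (p := fun t => t ∈ CQ (Subgroup.zpowers u)) _ (fun t => by simp)]
  exact Finset.sum_congr rfl fun t _ => by rw [subgroupBlockCoeff_coe, conj_blockCoeff_inv]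

variable [Fintype (IrrCharacter G)]

/-- The parts at an involution are real. -/
theorem conj_secPart_one (hu : u * u = 1) (χ : IrrCharacter G) :
    conj (secPart χ u ⟨Subgroup.zpowers u, b⟩ 1) = secPart χ u ⟨Subgroup.zpowers u, b⟩ 1 := by
  simp only [secPart, map_sum, mul_one]
  refine Fintype.sum_equiv (Equiv.inv G) _ _ fun t => ?_
  rw [map_mul, ← subCoeff_inv, Equiv.inv_apply]
  by_cases ht : t ∈ CQ (Subgroup.zpowers u)
  · congr 1
    rw [← Char.irr_inv, mul_inv_rev, inv_eq_of_mul_eq_one_right hu]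
    exact congrArg _ ((mem_cq_zpowers_iff.mp ht).inv_left).eq
  · rw [subgroupBlockCoeff_of_notMem b fun h => ht (by simpa using inv_mem h), zero_mul, zero_mul]

variable {η₀ : IrrCharacter (CQ (Subgroup.zpowers u))}

/-- The parts are proportional to the row. -/
theorem secPart_row (hM : IsPModular p M)
    (hrow : ∀ η ∈ b, ∃ d : ℕ, ∀ t, ¬ p ∣ orderOf t →
      (η : CQ (Subgroup.zpowers u) → ℂ) t = (d : ℂ) * (η₀ : CQ (Subgroup.zpowers u) → ℂ) t)
    {y : G} (hy : ∀ t ∈ CQ (Subgroup.zpowers u), Commute t y) (χ : IrrCharacter G)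
    {s : CQ (Subgroup.zpowers u)} (hs : ¬ p ∣ orderOf s) :
    secPart χ y ⟨Subgroup.zpowers u, b⟩ (s : G) * (η₀ : CQ (Subgroup.zpowers u) → ℂ) 1 =
      secPart χ y ⟨Subgroup.zpowers u, b⟩ 1 * (η₀ : CQ (Subgroup.zpowers u) → ℂ) s := by
  classical
  have := Fintype.ofFinite (IrrCharacter (CQ (Subgroup.zpowers u)))
  have hy' : ∀ t : CQ (Subgroup.zpowers u), Commute (t : G) y := fun t => hy t t.2
  rw [show (1 : G) = ((1 : CQ (Subgroup.zpowers u)) : G) from rfl, secPart_eq_blockPart b hy',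
    secPart_eq_blockPart b hy', blockPart_eq, blockPart_eq, Finset.sum_mul, Finset.sum_mul]
  refine Finset.sum_congr rfl fun η hη => ?_
  obtain ⟨d, hd⟩ := hrow η (Finset.mem_filter.mp hη).2
  rw [hd s hs, hd 1 (by rw [orderOf_one]; exact hM.1.not_dvd_one)]
  ring

/-- The conjugated coefficients are proportional to the row. -/
theorem coeff_row (hM : IsPModular p M)
    (hrow : ∀ η ∈ b, ∃ d : ℕ, ∀ t, ¬ p ∣ orderOf t →
      (η : CQ (Subgroup.zpowers u) → ℂ) t = (d : ℂ) * (η₀ : CQ (Subgroup.zpowers u) → ℂ) t)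
    {s : CQ (Subgroup.zpowers u)} (hs : ¬ p ∣ orderOf s) :
    conj (subgroupBlockCoeff (CQ (Subgroup.zpowers u)) b (s : G)) *
        (η₀ : CQ (Subgroup.zpowers u) → ℂ) 1 =
      subgroupBlockCoeff (CQ (Subgroup.zpowers u)) b 1 * (η₀ : CQ (Subgroup.zpowers u) → ℂ) s := by
  classical
  have := Fintype.ofFinite (IrrCharacter (CQ (Subgroup.zpowers u)))
  rw [show (1 : G) = ((1 : CQ (Subgroup.zpowers u)) : G) from rfl, subgroupBlockCoeff_coe,
    subgroupBlockCoeff_coe, blockCoeff, blockCoeff, finsum_mem_eq_toFinset_sum,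
    finsum_mem_eq_toFinset_sum]
  simp only [map_mul, map_inv₀, map_natCast, map_sum, Complex.conj_conj, Char.conj_irr_one,
    Finset.mul_sum, Finset.sum_mul]
  refine Finset.sum_congr rfl fun η hη => ?_
  obtain ⟨d, hd⟩ := hrow η (Set.mem_toFinset.mp hη)
  rw [hd s hs, hd 1 (by rw [orderOf_one]; exact hM.1.not_dvd_one)]
  ring

/-- The parts are multiples of the conjugated coefficients. -/
theorem secPart_mul_coeff (hM : IsPModular p M) (hrow : HasUnitRow p b) (χ : IrrCharacter G)
    {s : G} (hs : s ∈ regC p u) :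
    secPart χ u ⟨Subgroup.zpowers u, b⟩ s * subgroupBlockCoeff (CQ (Subgroup.zpowers u)) b 1 =
      secPart χ u ⟨Subgroup.zpowers u, b⟩ 1 *
        conj (subgroupBlockCoeff (CQ (Subgroup.zpowers u)) b s) := by
  obtain ⟨η₀, -, hd, -⟩ := hrow
  obtain ⟨hs1, hs2⟩ := mem_regC.mp hs
  have hreg : ¬ p ∣ orderOf (⟨s, hs1⟩ : CQ (Subgroup.zpowers u)) := by rwa [← Subgroup.orderOf_coe]
  have h1 := secPart_row hM hd (fun t ht => mem_cq_zpowers_iff.mp ht) χ hreg
  have h2 := coeff_row hM hd hreg
  dsimp only at h1 h2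
  refine mul_left_cancel₀ (Char.irr_one_ne_zero η₀) ?_
  linear_combination (subgroupBlockCoeff (CQ (Subgroup.zpowers u)) b 1) * h1 -
    (secPart χ u ⟨Subgroup.zpowers u, b⟩ 1) * h2

/-- The contributions are the products of the parts at the identity. -/
theorem secSum_mul_coeff (hM : IsPModular p M) (hb : IsPBlock M b) (hrow : HasUnitRow p b)
    (χ ψ : IrrCharacter G) :
    secSum p χ ψ u ⟨Subgroup.zpowers u, b⟩ * subgroupBlockCoeff (CQ (Subgroup.zpowers u)) b 1 =
      secPart χ u ⟨Subgroup.zpowers u, b⟩ 1 * conj (secPart ψ u ⟨Subgroup.zpowers u, b⟩ 1) := by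
  classical
  have h : secSum p χ ψ u ⟨Subgroup.zpowers u, b⟩ =
      ∑ s ∈ regC p u, secPart χ u ⟨Subgroup.zpowers u, b⟩ s *
        conj (secPart ψ u ⟨Subgroup.zpowers u, b⟩ s) :=
    Finset.sum_congr (by ext; simp [mem_regC]) fun _ _ => rfl
  set c1 := subgroupBlockCoeff (CQ (Subgroup.zpowers u)) b 1 with hc1
  have hreal : conj c1 = c1 := by rw [hc1, ← subCoeff_inv, inv_one]
  have h1 : secSum p χ ψ u ⟨Subgroup.zpowers u, b⟩ * (c1 * c1) =
      secPart χ u ⟨Subgroup.zpowers u, b⟩ 1 * conj (secPart ψ u ⟨Subgroup.zpowers u, b⟩ 1) * c1 := by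
    conv_rhs => rw [hc1, ← sum_coeff_mul_conj hM hb]
    rw [h, Finset.sum_mul, Finset.mul_sum]
    refine Finset.sum_congr rfl fun s hs => ?_
    have e1 := secPart_mul_coeff hM hrow χ hs
    have e2 := congrArg conj (secPart_mul_coeff hM hrow ψ hs)
    rw [← hc1] at e1 e2
    simp only [map_mul, hreal, Complex.conj_conj] at e2
    linear_combination (conj (secPart ψ u ⟨Subgroup.zpowers u, b⟩ s) * c1) * e1 +
      (secPart χ u ⟨Subgroup.zpowers u, b⟩ 1 *
        conj (subgroupBlockCoeff (CQ (Subgroup.zpowers u)) b s)) * e2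
  obtain ⟨η₀, hη₀, -, -⟩ := hrow
  have := Fintype.ofFinite (IrrCharacter (CQ (Subgroup.zpowers u)))
  have hne : c1 ≠ 0 := by
    rw [hc1, show (1 : G) = ((1 : CQ (Subgroup.zpowers u)) : G) from rfl, subgroupBlockCoeff_coe,
      blockCoeff, finsum_mem_eq_toFinset_sum]
    refine mul_ne_zero (inv_ne_zero (Nat.cast_ne_zero.mpr Nat.card_pos.ne')) fun h0 => ?_
    exact Char.irr_one_ne_zero η₀ (eq_zero_of_sum_mul_conj h0 (Set.mem_toFinset.mpr hη₀))
  exact mul_right_cancel₀ hne (by rw [mul_assoc, h1])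

end CfsgLib.Block.Tame
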