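import Cfsg.Agent.Lib.Block.Tame.DihedralVectors
import Cfsg.Agent.Lib.Block.Tame.SectionProduct
import Cfsg.Agent.Lib.Block.Tame.UnitRowParts

/-!
# 2-blocks with dihedral defect group: the special configurations do not occur

For `h = 4` the product of the functions of the subsections at `σ` and at the central involution `J`
is divisible by `M` in the pair at `σ`, as `σ ^ 5` is not fused to `σ`; in a special configuration it
is a unit (`DFrame.not_special`).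
-/

open Finset MonoidAlgebra
open scoped ComplexConjugate

set_option autoImplicit false
set_option linter.unusedSectionVars false

namespace CfsgLib.Block.Tame

open Cfsg CfsgLib CfsgLib.Block CfsgLib.Block.CyclicDefect
open scoped Pair

universe u

variable {M : Ideal AlgInt} [M.IsMaximal]

/-- A square of a local integer in the ideal is no odd rational multiple of a unit. -/
theorem false_of_sq_eq (hM : IsPModular 2 M) {L c : locRing M} (hL : res M L = 0)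
    (hc : res M c ≠ 0) {N D : ℕ} (hN : N ≠ 0) (hv : N.factorization 2 = D.factorization 2)
    (h : (L : ℂ) * L * D = (c : ℂ) * c * N) : False := by
  have := charP_resField hM
  have e : (L * L * (ordCompl[2] D : ℕ) : locRing M) = c * c * (ordCompl[2] N : ℕ) := by
    refine Subtype.ext (mul_left_cancel₀ (pow_ne_zero (D.factorization 2) (two_ne_zero (α := ℂ))) ?_)
    have hD' : (D : ℂ) = (2 : ℂ) ^ D.factorization 2 * ((ordCompl[2] D : ℕ) : ℂ) := by
      conv_lhs => rw [← Nat.ordProj_mul_ordCompl_eq_self D 2]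
      push_cast; ring
    have hN' : (N : ℂ) = (2 : ℂ) ^ D.factorization 2 * ((ordCompl[2] N : ℕ) : ℂ) := by
      rw [← hv]
      conv_lhs => rw [← Nat.ordProj_mul_ordCompl_eq_self N 2]
      push_cast; ring
    simp only [Subring.coe_mul, Subring.coe_natCast]
    rw [hD', hN'] at h
    linear_combination h
  have h2 := congrArg (res M) e
  simp only [map_mul, map_natCast, hL, zero_mul] at h2
  refine mul_ne_zero (mul_ne_zero hc hc) (fun h0 => ?_) h2.symm
  rw [CharP.cast_eq_zero_iff (ResField M) 2] at h0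
  exact Nat.not_dvd_ordCompl Nat.prime_two hN h0

variable {G : Type u} [Group G] [Fintype G] [DecidableEq G] [Fintype (IrrCharacter G)]

namespace DFrame

variable {B : Set (IrrCharacter G)} {P : Subgroup G} {e : Set (IrrCharacter (CQ P))} {σ τ : G}
  {h : ℕ} (F : DFrame M B P e σ τ h)
  {f : Set (IrrCharacter (CQ (Subgroup.zpowers (σ ^ h))))}
  (S : Setup 2 M B P e (Subgroup.zpowers (σ ^ h)) P f e)
  [Fintype (IrrCharacter (CQ (Subgroup.zpowers (σ ^ h))))]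
include F S

theorem lowPair_J : lowPair F.hM F.hmax.1.1 (F.rot h) = ⟨Subgroup.zpowers (σ ^ h), f⟩ :=
  below_ext F.hM F.hmax.1.1 (lowPair_below F.hM F.hmax.1.1 _)
    (Relation.ReflTransGen.single ((isNormalSubpair_iff F.hM).mpr S.sub) : SubpairLE 2 M _ f P e) rfl

omit S in
theorem blockDefect_eq {k : ℕ} (hk : h = 2 ^ k) : blockDefect 2 B = k + 2 := by
  have h1 := exists_defect_pow_card F.hM F.hmax
  rw [F.pres.card, hk, show 4 * 2 ^ k = 2 ^ (k + 2) by ring] at h1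
  exact (Nat.pow_right_injective le_rfl h1).symm

theorem blockDefect_J {k : ℕ} (hk : h = 2 ^ k) : blockDefect 2 f = k + 2 := by
  have h1 := defectGroup_card F.hM S.sub.pairL.2 S.defect
  rw [Nat.card_congr (Subgroup.subgroupOfEquivOfLe S.cent).toEquiv, F.pres.card] at h1
  have h2 : 4 * h = 2 ^ (k + 2) := by rw [hk]; ring
  exact Nat.pow_right_injective le_rfl (h1.symm.trans h2)

open scoped Classical in
/-- The special configurations do not occur. -/
theorem not_special (hh : h = 4) (θ₀ : IrrCharacter (CQ (Subgroup.zpowers (σ ^ h)))) (hθ : S.Base θ₀)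
    {ζ : ℂ} (hζ : IsPrimitiveRoot ζ (2 * h))
    (wh : ↥(Finset.univ.filter fun χ : IrrCharacter G => χ ∈ B) → ℤ)
    (w : Fin 3 → ↥(Finset.univ.filter fun χ : IrrCharacter G => χ ∈ B) → ℤ)
    (hJ : ∀ i : ↥(Finset.univ.filter fun χ : IrrCharacter G => χ ∈ B),
      F.gv S θ₀ (i : IrrCharacter G) h = (Config.fJ wh w i : ℂ))
    (h1 : ∀ i : ↥(Finset.univ.filter fun χ : IrrCharacter G => χ ∈ B),
      F.gv S θ₀ (i : IrrCharacter G) 1 = -(wh i : ℂ) +
        ∑ j : Fin 3, (w j i : ℂ) * (ζ ^ ((j : ℕ) + 1) + (ζ ^ ((j : ℕ) + 1))⁻¹))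
    (hspec : Config.IsSpecial wh w fun i => (charDegree ((i : IrrCharacter G) : G → ℂ) : ℤ)) :
    False := by
  obtain ⟨i₀, hi₀, hdvd, hcross, hsum⟩ := hspec
  have hnd1 : ¬ h ∣ 1 := by rw [hh]; decide
  have hσ1 : σ ^ 1 ≠ 1 := fun e0 => hnd1 (dvd_trans (dvd_mul_left h 2) (F.pres.pow_eq_one.1 e0))
  have hJne := F.pres.sigma_h_ne
  have hJsq := F.pres.sigma_h_sq
  -- the pairs
  obtain ⟨b, hb⟩ := exists_eq_pairMk (a := lowPair F.hM F.hmax.1.1 (F.rot 1))
    (Q := Subgroup.zpowers (σ ^ 1)) rfl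
  have hbpair := lowPair_pairOf F.hM F.hmax (F.rot 1)
  have hble := lowPair_below F.hM F.hmax.1.1 (F.rot 1)
  have hbrow := isNilpotentBlock_unitRow F.hM
    (F.nilpotent_low (y := F.rot 1) fun e0 => hσ1 (congrArg Subtype.val e0))
  have hbdef := F.defect_rot (l := 1) hnd1
  rw [hb] at hbpair hble hbrow hbdef
  dsimp only at hbpair hbrow hbdef
  have hPQ : P ⊓ CQ (Subgroup.zpowers (σ ^ 1)) = Subgroup.zpowers (σ ^ 1) := by
    rw [show CQ (Subgroup.zpowers (σ ^ 1)) = Subgroup.centralizer ({σ ^ 1} : Set G) by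
      ext t; rw [mem_cq_zpowers_iff, Subgroup.mem_centralizer_singleton_iff]; exact Iff.rfl,
      F.pres.inf_centralizer hnd1, pow_one]
  rw [hPQ] at hbdef
  have hlowJ := F.lowPair_J S
  have hfrow : HasUnitRow 2 f := isNilpotentBlock_unitRow F.hM S.nil
  have hfb : IsPBlock M f := S.sub.pairL.2
  have hpσ : ∃ k : ℕ, orderOf (σ ^ 1) = 2 ^ k :=
    exists_pElement_orderOf F.hmax.1.1 (F.rot 1) F.hM.1
  have hpJ : ∃ k : ℕ, orderOf (σ ^ h) = 2 ^ k :=
    exists_pElement_orderOf F.hmax.1.1 (F.rot h) F.hM.1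
  have hvu : σ ^ h ∈ Subgroup.zpowers (σ ^ 1) := by rw [pow_one]; exact Subgroup.pow_mem _ (Subgroup.mem_zpowers σ) h
  have huniq : ∀ y ∈ Subgroup.zpowers (σ ^ 1), IsConj (σ ^ h) y → y = σ ^ h := by
    intro y hy hconj
    rw [pow_one] at hy
    obtain ⟨l, rfl⟩ := (isOfFinOrder_of_finite σ).mem_powers_iff_mem_zpowers.mpr hy
    dsimp only at hconj ⊢
    obtain ⟨g, hg⟩ := isConj_iff.mp hconj
    have hne : σ ^ l ≠ 1 := fun e0 => hJne (conj_eq_one_iff.mp (hg.trans e0))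
    refine F.pres.eq_J hne (not_not.1 fun hd => (F.pres.sq_ne_iff l).2 hd ?_)
    rw [← hg, show g * σ ^ h * g⁻¹ * (g * σ ^ h * g⁻¹) = g * (σ ^ h * σ ^ h) * g⁻¹ by group, hJsq,
      mul_one, mul_inv_cancel]
  -- a regular element with invertible coefficient
  obtain ⟨s₀, hs₀⟩ := exists_defectClass F.hM hbpair.1.2
  have := Fintype.ofFinite (IrrCharacter (CQ (Subgroup.zpowers (σ ^ 1))))
  have hs₀' := ((isDefectClass_iff F.hM hbpair.1.2).mp hs₀).1
  have hs₀reg := regular_of_coeffRes_ne_zero F.hM (.of_isPBlock hbpair.1.2) hs₀'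
  have hs : (s₀ : G) ∈ regC 2 (σ ^ 1) := mem_regC.mpr ⟨s₀.2, by rwa [Subgroup.orderOf_coe]⟩
  set c := subgroupBlockCoeff (CQ (Subgroup.zpowers (σ ^ 1))) b with hc
  let cs : locRing M := ⟨c (s₀ : G), subCoeff_mem F.hM hbpair.1.2 _⟩
  have hcs : res M cs ≠ 0 := by
    rw [show cs = (blockIdem M b : MonoidAlgebra (locRing M) (CQ (Subgroup.zpowers (σ ^ 1)))).coeff s₀ from
      Subtype.ext (by
        rw [coe_coeff_blockIdem F.hM (.of_isPBlock hbpair.1.2)]
        exact subgroupBlockCoeff_coe b s₀)]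
    exact hs₀'
  -- orthogonality at `σ ^ 5`
  have horth : ∑ χ : IrrCharacter G, secPart χ (σ ^ 1) ⟨Subgroup.zpowers (σ ^ 1), b⟩ 1 *
      conj (secPart χ ((σ ^ h)⁻¹ * σ ^ 1) ⟨Subgroup.zpowers (σ ^ 1), b⟩ (s₀ : G)) = 0 := by
    have hv : (σ ^ h)⁻¹ * σ ^ 1 = σ ^ 5 := by
      rw [inv_eq_of_mul_eq_one_right hJsq, ← pow_add, hh]
    have hz5 : Subgroup.zpowers (σ ^ 5) = Subgroup.zpowers (σ ^ 1) := by
      have h8 : σ ^ 8 = 1 := F.pres.pow_eq_one.2 (by rw [hh])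
      refine le_antisymm (Subgroup.zpowers_le.2 ?_) (Subgroup.zpowers_le.2 ?_)
      · rw [pow_one]; exact Subgroup.pow_mem _ (Subgroup.mem_zpowers σ) 5
      · have e5 : (σ ^ 5) ^ 5 = σ ^ 1 := by
          rw [← pow_mul, show 5 * 5 = 8 * 3 + 1 from rfl, pow_add, pow_mul, h8, one_pow, one_mul]
        rw [← e5]; exact Subgroup.pow_mem _ (Subgroup.mem_zpowers _) 5
    have hlow5 : lowPair F.hM F.hmax.1.1 (F.rot 5) = ⟨Subgroup.zpowers (σ ^ 1), b⟩ :=
      below_ext F.hM F.hmax.1.1 (lowPair_below F.hM F.hmax.1.1 _) hble hz5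
    have hne : F.rot 5 ∉ fusClass F.hM F.hmax.1.1 (F.rot 1) := by
      rw [F.fus_rot hnd1]
      intro hm
      rcases Finset.mem_insert.1 hm with e0 | e0
      · have e1 : σ ^ 4 * σ ^ 1 = 1 * σ ^ 1 := by
          rw [← pow_add, one_mul]; exact congrArg Subtype.val e0
        exact hJne (by rw [hh]; exact mul_right_cancel e1)
      · have e1 : σ ^ 5 = (σ ^ 1)⁻¹ := congrArg Subtype.val (Finset.mem_singleton.1 e0)
        have e2 : σ ^ 6 = 1 := by rw [show 6 = 5 + 1 from rfl, pow_add, e1, inv_mul_cancel]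
        have := F.pres.pow_eq_one.1 e2
        rw [hh] at this
        norm_num at this
    have h0 := sum_secPart_one_zero F.hM F.hmax hne
    simp only [hb, hlow5, fintype_rot_coe] at h0
    obtain ⟨η₀, -, hd, -⟩ := hbrow
    have hy5 : ∀ t ∈ CQ (Subgroup.zpowers (σ ^ 1)), Commute t (σ ^ 5) := fun t ht => by
      have := mem_cq_zpowers_iff.mp ht
      rw [pow_one] at this
      exact this.pow_right 5
    have hreg1 : (1 : G) ∈ regC 2 (σ ^ 1) :=
      mem_regC.mpr ⟨Subgroup.one_mem _, by rw [orderOf_one]; decide⟩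
    rw [hv]
    refine (mul_eq_zero.mp ?_).resolve_right
      (mt (map_eq_zero (starRingEnd ℂ)).mp (Char.irr_one_ne_zero η₀))
    rw [Finset.sum_mul]
    refine Eq.trans (Finset.sum_congr rfl (g := fun χ : IrrCharacter G =>
      secPart χ (σ ^ 1) ⟨Subgroup.zpowers (σ ^ 1), b⟩ 1 *
        conj (secPart χ (σ ^ 5) ⟨Subgroup.zpowers (σ ^ 1), b⟩ 1) *
        conj ((η₀ : CQ (Subgroup.zpowers (σ ^ 1)) → ℂ) s₀)) fun χ _ => ?_) ?_
    · rw [mul_assoc, ← map_mul, secPart_row F.hM hd hy5 χ hs₀reg, map_mul, mul_assoc]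
    · rw [← Finset.sum_mul]
      refine mul_eq_zero_of_left ?_ _
      rw [← h0]
      refine (Finset.sum_subset (Finset.subset_univ _) fun χ _ hχ => ?_).symm
      rw [secPart_eq_zero_of_not_mem F.hM (by simpa using hχ) hpσ (mem_pairsAt.mpr ⟨rfl, hbpair.1.2⟩)
        hreg1 hbpair, zero_mul]
  obtain ⟨L, hLres, hL⟩ := exists_product_res_zero F.hM hpσ hpJ hbpair.1.2 hbrow hbdef
    (bv := f) hfb huniq hs horth
  -- the values
  set su := fun χ : IrrCharacter G => secPart χ (σ ^ 1) ⟨Subgroup.zpowers (σ ^ 1), b⟩ 1 with hsu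
  set sJ := fun χ : IrrCharacter G => secPart χ (σ ^ h) ⟨Subgroup.zpowers (σ ^ h), f⟩ 1 with hsJ
  set cJ := subgroupBlockCoeff (CQ (Subgroup.zpowers (σ ^ h))) f 1 with hcJ
  set c1 := c 1 with hc1
  set Cu : ℂ := (Nat.card (CQ (Subgroup.zpowers (σ ^ 1))) : ℂ) with hCu
  set CJ : ℂ := (Nat.card (CQ (Subgroup.zpowers (σ ^ h))) : ℂ) with hCJ
  have hCu0 : Cu ≠ 0 := Nat.cast_ne_zero.mpr Nat.card_pos.ne'
  have hCJ0 : CJ ≠ 0 := Nat.cast_ne_zero.mpr Nat.card_pos.ne'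
  have hgσ : ∀ χ, F.gv S θ₀ χ 1 * conj (F.gv S θ₀ χ 1) * (c1 * Cu) = 8 * (su χ * conj (su χ)) := by
    intro χ
    have h2 := S.gfun_mul_conj hθ (y := F.elem S 1) (F.J_mem_zpowers S hσ1) χ χ
    rw [F.inP_elem, hb, F.card_centralizer_elem S hσ1, if_neg hnd1] at h2
    rw [gv, h2]
    show _ * secSum 2 χ χ (σ ^ 1) _ / Cu * _ = _
    rw [hsu, ← secSum_mul_coeff F.hM hbpair.1.2 hbrow, ← hc, ← hc1, hh]
    field_simp
    push_cast
    ring
  have hgJ : ∀ χ χ', F.gv S θ₀ χ h * conj (F.gv S θ₀ χ' h) * (cJ * CJ) =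
      16 * (sJ χ * conj (sJ χ')) := by
    intro χ χ'
    have h2 := S.gfun_mul_conj hθ (y := F.elem S h) (F.J_mem_zpowers S hJne) χ χ'
    rw [F.inP_elem, hlowJ, F.card_centralizer_elem S hJne, if_pos dvd_rfl] at h2
    rw [gv, gv, h2]
    show _ * secSum 2 χ χ' (σ ^ h) _ / CJ * _ = _
    rw [hsJ, ← secSum_mul_coeff F.hM hfb hfrow, ← hcJ, show 4 * h = 16 by omega]
    field_simp
    push_cast
    ring
  obtain ⟨E, hE0, hEv, hE⟩ := exists_sum_sq_row (b := f) F.hM hfb hfrow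
  rw [F.blockDefect_J S (k := 2) (by rw [hh]; rfl)] at hEv hE
  have hW : cJ * CJ = 16 * ((E : ℂ) * E) := by
    rw [show (16 : ℂ) = ((2 : ℕ) : ℂ) ^ (2 + 2) by norm_num, ← hE, hcJ, hCJ,
      show (1 : G) = ((1 : CQ (Subgroup.zpowers (σ ^ h))) : G) from rfl, subgroupBlockCoeff_coe,
      blockCoeff, finsum_mem_eq_toFinset_sum, mul_comm, mul_inv_cancel_left₀ hCJ0]
    simp only [Char.conj_irr_one]
    exact Finset.sum_congr (by ext; simp) fun _ _ => rfl
  have hc10 : c1 ≠ 0 := by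
    obtain ⟨η₀, hη₀, -, -⟩ := hbrow
    rw [hc1, hc, show (1 : G) = ((1 : CQ (Subgroup.zpowers (σ ^ 1))) : G) from rfl, subgroupBlockCoeff_coe,
      blockCoeff, finsum_mem_eq_toFinset_sum]
    exact mul_ne_zero (inv_ne_zero hCu0) fun h0 =>
      Char.irr_one_ne_zero η₀ (eq_zero_of_sum_mul_conj h0 (Set.mem_toFinset.mpr hη₀))
  set χ₀ : IrrCharacter G := (i₀ : IrrCharacter G) with hχ₀
  have hχ₀B : χ₀ ∈ B := (Finset.mem_filter.mp i₀.2).2
  have hf0 : F.gv S θ₀ χ₀ h * conj (F.gv S θ₀ χ₀ h) = 1 := by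
    rw [hχ₀, hJ]
    rcases hi₀ with e0 | e0 <;> simp [e0]
  have hs0 : sJ χ₀ * sJ χ₀ = (E : ℂ) * E := by
    have h2 := hgJ χ₀ χ₀
    rw [hf0, one_mul, hW, hsJ, conj_secPart_one hJsq] at h2
    rw [hsJ]
    linear_combination (-1 / 16 : ℂ) * h2
  -- the sum
  set r : ℂ := ζ + ζ⁻¹ with hr
  have hζ0 : ζ ≠ 0 := hζ.ne_zero (by omega)
  have hζ4 : ζ ^ 4 = -1 := by
    have : IsPrimitiveRoot (ζ ^ 4) 2 := hζ.pow (by omega) (by omega)
    exact this.eq_neg_one_of_two_right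
  have hr2 : r * r = 2 := by
    rw [hr]
    field_simp
    linear_combination hζ4
  have hrc : conj r = r := by
    have hn : ‖ζ‖ = 1 := Complex.norm_eq_one_of_pow_eq_one hζ.pow_eq_one (by omega)
    rw [hr, map_add, map_inv₀, ← Complex.inv_eq_conj hn, inv_inv, add_comm]
  have hg1 : ∀ i : ↥(Finset.univ.filter fun χ : IrrCharacter G => χ ∈ B),
      F.gv S θ₀ (i : IrrCharacter G) 1 * conj (F.gv S θ₀ (i : IrrCharacter G) 1) =
        ((2 * (w 0 i - w 2 i) ^ 2 + (wh i) ^ 2 : ℤ) : ℂ) -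
          2 * r * (((w 0 i - w 2 i) * wh i : ℤ) : ℂ) := by
    intro i
    have e0 : F.gv S θ₀ (i : IrrCharacter G) 1 = -(wh i : ℂ) + r * ((w 0 i : ℂ) - (w 2 i : ℂ)) := by
      rw [h1, Fin.sum_univ_three, hr]
      simp only [Fin.val_zero, Fin.val_one, Fin.val_two, zero_add, pow_one, show (1 : ℕ) + 1 = 2 from rfl,
        show (2 : ℕ) + 1 = 3 from rfl]
      field_simp
      linear_combination ((w 1 i : ℂ) * ζ + (w 2 i : ℂ) * (ζ ^ 2 + 1)) * hζ4
    rw [e0, map_add, map_mul, map_sub, map_neg, map_intCast, map_intCast, map_intCast, hrc]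
    push_cast
    linear_combination ((w 0 i : ℂ) - (w 2 i : ℂ)) ^ 2 * hr2
  set d₀ : ℂ := ((charDegree (χ₀ : G → ℂ) : ℕ) : ℂ) with hd₀
  have hd₀0 : d₀ ≠ 0 := Nat.cast_ne_zero.mpr (charDegree_eq χ₀).2
  set T : ℂ := ∑ χ ∈ Finset.univ.filter (fun χ : IrrCharacter G => χ ∈ B),
    F.gv S θ₀ χ 1 * conj (F.gv S θ₀ χ 1) * F.gv S θ₀ χ h / (χ : G → ℂ) 1 with hT
  have hT2 : (3 * d₀ * T) ^ 2 = 64 := by
    have e : T = ((∑ i, (Config.fJ wh w i : ℚ) * (2 * (w 0 i - w 2 i) ^ 2 + (wh i : ℚ) ^ 2) /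
        ((charDegree ((i : IrrCharacter G) : G → ℂ) : ℤ) : ℚ) : ℚ) : ℂ) -
        2 * r * ((∑ i, (Config.fJ wh w i : ℚ) * (w 0 i - w 2 i) * wh i /
          ((charDegree ((i : IrrCharacter G) : G → ℂ) : ℤ) : ℚ) : ℚ) : ℂ) := by
      rw [hT, ← Finset.sum_coe_sort (Finset.univ.filter fun χ : IrrCharacter G => χ ∈ B), Rat.cast_sum,
        Rat.cast_sum, Finset.mul_sum, ← Finset.sum_sub_distrib]
      refine Finset.sum_congr rfl fun i _ => ?_
      rw [hg1, hJ, (charDegree_eq (i : IrrCharacter G)).1]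
      push_cast
      ring
    rw [e, hcross, Rat.cast_zero, mul_zero, sub_zero]
    rcases hsum with e0 | e0
    · have e1 := congrArg (fun q : ℚ => (q : ℂ)) e0
      push_cast at e1 ⊢
      rw [hd₀, hχ₀, e1]
      norm_num
    · have e1 := congrArg (fun q : ℚ => (q : ℂ)) e0
      push_cast at e1 ⊢
      rw [hd₀, hχ₀, e1]
      norm_num
  have hLeq : (L : ℂ) * conj (F.gv S θ₀ χ₀ h) =
      sJ χ₀ * (c (s₀ : G) * ((Nat.card G : ℂ) / CJ) * (T / 8)) *
        (F.gv S θ₀ χ₀ h * conj (F.gv S θ₀ χ₀ h)) := by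
    have hsub : ∀ χ ∈ (Finset.univ : Finset (IrrCharacter G)),
        χ ∉ Finset.univ.filter (fun χ : IrrCharacter G => χ ∈ B) →
        secPart χ (σ ^ 1) ⟨Subgroup.zpowers (σ ^ 1), b⟩ 1 *
          secPart χ (σ ^ h) ⟨Subgroup.zpowers (σ ^ h), f⟩ 1 / (χ : G → ℂ) 1 *
          conj (secPart χ (σ ^ 1) ⟨Subgroup.zpowers (σ ^ 1), b⟩ (s₀ : G)) = 0 := fun χ _ hχ => by
      rw [secPart_eq_zero_of_not_mem F.hM (by simpa using hχ) hpσ
        (mem_pairsAt.mpr ⟨rfl, hbpair.1.2⟩)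
        (mem_regC.mpr ⟨Subgroup.one_mem _, by rw [orderOf_one]; decide⟩) hbpair]
      simp
    rw [hL, ← Finset.sum_subset (Finset.subset_univ _) hsub, hT, hf0, mul_one,
      Finset.mul_sum, Finset.sum_mul, Finset.sum_div, Finset.mul_sum, Finset.mul_sum]
    refine Finset.sum_congr rfl fun χ _ => ?_
    have e1 : conj (secPart χ (σ ^ 1) ⟨Subgroup.zpowers (σ ^ 1), b⟩ (s₀ : G)) * c1 =
        conj (su χ) * c (s₀ : G) := by
      have e2 := congrArg conj (secPart_mul_coeff F.hM hbrow χ hs)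
      simp only [map_mul, Complex.conj_conj, ← subCoeff_inv, inv_one, inv_inv] at e2
      exact e2
    have e3 := hgσ χ
    have e4 := hgJ χ χ₀
    have e6 := hgJ χ₀ χ₀
    simp only [hsJ, conj_secPart_one hJsq] at e4 e6
    have hs00 : sJ χ₀ ≠ 0 := fun h0 => hE0 (by
      rw [h0, zero_mul] at hs0
      exact_mod_cast (mul_self_eq_zero.mp hs0.symm))
    have hχ1 := Char.irr_one_ne_zero χ
    have hg0 : conj (F.gv S θ₀ χ₀ h) = F.gv S θ₀ χ₀ h := by
      rw [hχ₀, hJ, map_intCast]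
    rw [hg0] at e4 e6 ⊢
    have e7 : F.gv S θ₀ χ₀ h * sJ χ = F.gv S θ₀ χ h * sJ χ₀ := by
      refine mul_right_cancel₀ hs00 ?_
      linear_combination (F.gv S θ₀ χ h / 16) * e6 - (F.gv S θ₀ χ₀ h / 16) * e4
    simp only [hsu] at e3 ⊢
    simp only [hsJ] at e7 ⊢
    field_simp
    refine mul_right_cancel₀ (mul_ne_zero hc10 hc10) ?_
    grobner
  rw [hf0, mul_one] at hLeq
  have hLsq : (L : ℂ) * L = (E : ℂ) * E * (c (s₀ : G) * ((Nat.card G : ℂ) / CJ) * (T / 8)) ^ 2 := by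
    have e8 : conj (F.gv S θ₀ χ₀ h) * conj (F.gv S θ₀ χ₀ h) = 1 := by
      rw [hχ₀, hJ]
      rcases hi₀ with e0 | e0 <;> simp [e0]
    linear_combination ((L : ℂ) * conj (F.gv S θ₀ χ₀ h) +
      sJ χ₀ * (c (s₀ : G) * ((Nat.card G : ℂ) / CJ) * (T / 8))) * hLeq +
      ((c (s₀ : G) * ((Nat.card G : ℂ) / CJ) * (T / 8)) ^ 2) * hs0 - ((L : ℂ) * L) * e8
  refine false_of_sq_eq F.hM hLres hcs
    (N := Nat.card G * Nat.card G * (E * E))
    (D := 9 * (Nat.card (CQ (Subgroup.zpowers (σ ^ h))) * Nat.card (CQ (Subgroup.zpowers (σ ^ h))) *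
      (charDegree (χ₀ : G → ℂ) * charDegree (χ₀ : G → ℂ)))) ?_ ?_ ?_
  · exact mul_ne_zero (mul_ne_zero Nat.card_pos.ne' Nat.card_pos.ne') (mul_ne_zero hE0 hE0)
  · have hG := (Nat.card_pos (α := G)).ne'
    have hC := (Nat.card_pos (α := CQ (Subgroup.zpowers (σ ^ h)))).ne'
    have hd0 := (charDegree_eq χ₀).2
    have hmin : blockHeight 2 B (χ₀ : G → ℂ) = 0 := by
      rw [blockHeight, Nat.sub_eq_zero_iff_le]
      refine le_csInf ((Set.Nonempty.image _ ⟨χ₀, hχ₀B⟩)) ?_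
      rintro _ ⟨ψ, hψ, rfl⟩
      have := hdvd ⟨ψ, Finset.mem_filter.mpr ⟨Finset.mem_univ _, hψ⟩⟩
      simp only [Int.natCast_dvd_natCast] at this
      exact (Nat.factorization_le_iff_dvd hd0 (charDegree_eq ψ).2).mpr this 2
    have hh2 : h = 2 ^ 2 := by rw [hh]; rfl
    have hd := degVal_add_blockDefect F.hM F.hmax.1.2.1 hχ₀B hmin
    rw [F.blockDefect_eq hh2, degVal] at hd
    have h9 : (9 : ℕ).factorization 2 = 0 := Nat.factorization_eq_zero_of_not_dvd (by decide)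
    simp only [Nat.factorization_mul, ne_eq, mul_eq_zero, not_false_eq_true, or_self, hG, hC, hd0,
      hE0, OfNat.ofNat_ne_zero, Finsupp.add_apply, h9]
    omega
  · push_cast
    show (L : ℂ) * L * _ = c (s₀ : G) * c (s₀ : G) * _
    rw [hLsq, ← hCJ, ← hd₀]
    field_simp
    linear_combination (c (s₀ : G) ^ 2) * hT2

end DFrame

end CfsgLib.Block.Tame
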