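import Cfsg.Agent.Lib.Invol.DihedralSubgroup
import Mathlib.GroupTheory.SpecificGroups.Dihedral

/-!
# A dihedral 2-subgroup with chosen rotation and reflection
-/

set_option autoImplicit false
set_option linter.unusedSectionVars false

namespace CfsgLib.Block.Tame

universe u

variable {G : Type u} [Group G]

/-- A dihedral subgroup of order `4 h` with rotations `σ ^ l` and reflections `τ * σ ^ l`. -/
structure DPres (P : Subgroup G) (σ τ : G) (h : ℕ) : Prop where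
  pow2 : ∃ k : ℕ, 0 < k ∧ h = 2 ^ k
  memσ : σ ∈ P
  memτ : τ ∈ P
  orderσ : orderOf σ = 2 * h
  sqτ : τ * τ = 1
  rel : τ * σ * τ⁻¹ = σ⁻¹
  not_zpow : τ ∉ Subgroup.zpowers σ
  card : Nat.card P = 4 * h
  cases : ∀ x ∈ P, ∃ l : ℕ, x = σ ^ l ∨ x = τ * σ ^ l
  emb : Nonempty (P ≃* DihedralGroup (2 * h))

theorem exists_dPres {P : Subgroup G} {n : ℕ} (hn : 3 ≤ n)
    (hd : Nonempty (P ≃* DihedralGroup (2 ^ (n - 1)))) :
    ∃ σ τ : G, DPres P σ τ (2 ^ (n - 2)) := by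
  obtain ⟨k, rfl⟩ : ∃ k, n = k + 3 := ⟨n - 3, by omega⟩
  have h2 : 2 ^ (k + 3 - 1) = 2 * 2 ^ (k + 3 - 2) := by
    rw [← pow_succ']; congr 1
  rw [h2] at hd
  obtain ⟨e⟩ := hd
  set h := 2 ^ (k + 3 - 2) with hh
  haveI : NeZero (2 * h) := ⟨by positivity⟩
  set s : P := e.symm (DihedralGroup.r 1) with hs
  set t : P := e.symm (DihedralGroup.sr 0) with ht
  have hpow : ∀ l : ℕ, s ^ l = e.symm (DihedralGroup.r (l : ZMod (2 * h))) := fun l => by
    rw [hs, ← map_pow, DihedralGroup.r_one_pow]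
  refine ⟨s, t, ⟨k + 1, by omega, by rw [hh]; congr 1⟩, s.2, t.2, ?_, ?_, ?_, ?_, ?_, ?_, ⟨e⟩⟩
  · rw [Subgroup.orderOf_coe, hs, MulEquiv.orderOf_eq, DihedralGroup.orderOf_r_one]
  · rw [← Subgroup.coe_mul, ht, ← map_mul, DihedralGroup.sr_mul_self, map_one, OneMemClass.coe_one]
  · rw [← Subgroup.coe_inv, ← Subgroup.coe_inv, ← Subgroup.coe_mul, ← Subgroup.coe_mul, hs, ht,
      ← map_inv, ← map_inv, ← map_mul, ← map_mul]
    simp [DihedralGroup.inv_r, DihedralGroup.inv_sr, DihedralGroup.sr_mul_r, DihedralGroup.sr_mul_sr]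
  · intro hz
    obtain ⟨j, hj⟩ := Subgroup.mem_zpowers_iff.mp hz
    rw [← Subgroup.coe_zpow, ← Subtype.ext_iff, hs, ht, ← map_zpow, e.symm.injective.eq_iff,
      DihedralGroup.r_one_zpow] at hj
    exact absurd hj (by simp)
  · rw [Nat.card_congr e.toEquiv, DihedralGroup.nat_card]; ring
  · intro x hx
    have hval : ∀ w, e ⟨x, hx⟩ = w → x = ((e.symm w : P) : G) := fun w hw => by
      rw [← hw, MulEquiv.symm_apply_apply]
    rcases hc : e ⟨x, hx⟩ with i | i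
    · refine ⟨i.val, Or.inl ?_⟩
      rw [← Subgroup.coe_pow, hpow, hval _ hc, ZMod.natCast_zmod_val]
    · refine ⟨i.val, Or.inr ?_⟩
      rw [← Subgroup.coe_pow, ← Subgroup.coe_mul, hpow, ht, ← map_mul, DihedralGroup.sr_mul_r,
        ZMod.natCast_zmod_val, zero_add, hval _ hc]

namespace DPres

variable {P : Subgroup G} {σ τ : G} {h : ℕ} (D : DPres P σ τ h)
include D

theorem two_le : 2 ≤ h := by
  obtain ⟨k, hk, rfl⟩ := D.pow2
  exact le_trans (by norm_num) (Nat.pow_le_pow_right two_pos hk)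

theorem h_even : Even h := by
  obtain ⟨k, hk, rfl⟩ := D.pow2
  exact Nat.even_pow.2 ⟨even_two, hk.ne'⟩

theorem pow_eq_one {l : ℕ} : σ ^ l = 1 ↔ 2 * h ∣ l := by
  rw [← orderOf_dvd_iff_pow_eq_one, D.orderσ]

theorem pow_mod (l : ℕ) : σ ^ (l % (2 * h)) = σ ^ l := by
  rw [← D.orderσ, pow_mod_orderOf]

theorem τ_inv : τ⁻¹ = τ := inv_eq_of_mul_eq_one_right D.sqτ

theorem conjτ (l : ℕ) : τ * σ ^ l * τ⁻¹ = (σ ^ l)⁻¹ := by rw [← conj_pow, D.rel, inv_pow]

theorem conjτσ (j l : ℕ) : τ * σ ^ j * σ ^ l * (τ * σ ^ j)⁻¹ = (σ ^ l)⁻¹ := by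
  rw [show τ * σ ^ j * σ ^ l * (τ * σ ^ j)⁻¹ = τ * (σ ^ j * σ ^ l * (σ ^ j)⁻¹) * τ⁻¹ by group,
    (Commute.pow_pow_self σ j l).eq, mul_inv_cancel_right, D.conjτ]

theorem refl_sq (l : ℕ) : τ * σ ^ l * (τ * σ ^ l) = 1 := by
  calc τ * σ ^ l * (τ * σ ^ l) = (τ * σ ^ l * τ⁻¹) * σ ^ l := by rw [D.τ_inv]; group
    _ = 1 := by rw [D.conjτ, inv_mul_cancel]

theorem refl_not_rot (l m : ℕ) : τ * σ ^ l ≠ σ ^ m := fun e => D.not_zpow (by
  rw [show τ = σ ^ m * (σ ^ l)⁻¹ by rw [← e, mul_inv_cancel_right]]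
  exact mul_mem (Subgroup.npow_mem_zpowers σ m) (inv_mem (Subgroup.npow_mem_zpowers σ l)))

theorem sq_ne_iff (l : ℕ) : σ ^ l * σ ^ l ≠ 1 ↔ ¬ h ∣ l := by
  rw [← pow_add, Ne, D.pow_eq_one, not_iff_not, ← two_mul, Nat.mul_dvd_mul_iff_left two_pos]

theorem rot_of_sq {x : G} (hx : x ∈ P) (h2 : x * x ≠ 1) : ∃ l : ℕ, x = σ ^ l ∧ ¬ h ∣ l := by
  obtain ⟨l, e | e⟩ := D.cases x hx
  · exact ⟨l, e, (D.sq_ne_iff l).mp (e ▸ h2)⟩
  · exact absurd (by rw [e]; exact D.refl_sq l) h2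

theorem sigma_h_sq : σ ^ h * σ ^ h = 1 := by rw [← pow_add, D.pow_eq_one, two_mul]

theorem sigma_h_ne : σ ^ h ≠ 1 := fun e => by
  have := Nat.le_of_dvd (by have := D.two_le; omega) (D.pow_eq_one.1 e)
  have := D.two_le
  omega

theorem eq_J {l : ℕ} (h1 : σ ^ l ≠ 1) (h2 : h ∣ l) : σ ^ l = σ ^ h := by
  obtain ⟨c, rfl⟩ := h2
  rcases Nat.even_or_odd' c with ⟨d, rfl | rfl⟩
  · exact absurd (D.pow_eq_one.2 ⟨d, by ring⟩) h1
  · rw [show h * (2 * d + 1) = h + 2 * h * d by ring, pow_add, D.pow_eq_one.2 (dvd_mul_right _ d),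
      mul_one]

theorem J_comm {x : G} (hx : x ∈ P) : Commute x (σ ^ h) := by
  obtain ⟨l, e | e⟩ := D.cases x hx
  · rw [e]; exact Commute.pow_pow_self σ l h
  · rw [e]
    refine Commute.mul_left ?_ (Commute.pow_pow_self σ l h)
    show τ * σ ^ h = σ ^ h * τ
    rw [← mul_inv_eq_iff_eq_mul, D.conjτ, inv_eq_of_mul_eq_one_right D.sigma_h_sq]

theorem mem_zpowers_of_commute {x : G} (hx : x ∈ P) {l : ℕ} (hl : ¬ h ∣ l)
    (hc : Commute x (σ ^ l)) : x ∈ Subgroup.zpowers σ := by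
  obtain ⟨m, e | e⟩ := D.cases x hx
  · exact e ▸ Subgroup.npow_mem_zpowers σ m
  · exfalso
    subst e
    have h1 : τ * σ ^ m * σ ^ l * (τ * σ ^ m)⁻¹ = σ ^ l := by rw [hc.eq, mul_inv_cancel_right]
    rw [D.conjτσ] at h1
    exact (D.sq_ne_iff l).2 hl (by nth_rewrite 1 [← h1]; exact inv_mul_cancel _)

theorem zpowers_le : Subgroup.zpowers σ ≤ P := Subgroup.zpowers_le.2 D.memσ

/-- The centralizer in `P` of a rotation of order at least four. -/
theorem inf_centralizer {l : ℕ} (hl : ¬ h ∣ l) :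
    P ⊓ Subgroup.centralizer ({σ ^ l} : Set G) = Subgroup.zpowers σ :=
  le_antisymm (fun _ hx =>
      D.mem_zpowers_of_commute hx.1 hl (Subgroup.mem_centralizer_singleton_iff.1 hx.2))
    (le_inf D.zpowers_le (Subgroup.zpowers_le.2
      (Subgroup.mem_centralizer_singleton_iff.2 ((Commute.refl σ).pow_right l).eq)))

/-- The centre is generated by the central involution. -/
theorem eq_of_central {x : G} (hx : x ∈ P) (hc : ∀ v ∈ P, Commute x v) : x = 1 ∨ x = σ ^ h := by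
  obtain ⟨j, hj⟩ : ∃ j : ℕ, x = σ ^ j := by
    have h1 : ¬ h ∣ 1 := fun hd => by
      have := Nat.le_of_dvd one_pos hd
      have := D.two_le
      omega
    have := D.mem_zpowers_of_commute hx h1 (by rw [pow_one]; exact hc σ D.memσ)
    obtain ⟨j, e | e⟩ := D.cases x hx
    · exact ⟨j, e⟩
    · exfalso
      refine D.not_zpow ?_
      rw [show τ = x * (σ ^ j)⁻¹ by rw [e, mul_inv_cancel_right]]
      exact mul_mem this (inv_mem (Subgroup.npow_mem_zpowers σ j))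
  by_cases h1 : x = 1
  · exact Or.inl h1
  · right
    rw [hj] at h1 ⊢
    refine D.eq_J h1 ?_
    by_contra hd
    refine (D.sq_ne_iff j).2 hd ?_
    have h2 := D.conjτ j
    rw [← hj, (hc τ D.memτ).symm.eq, mul_inv_cancel_right] at h2
    rw [← hj]
    nth_rewrite 1 [h2]
    exact inv_mul_cancel x

/-- Odd-order elements normalizing a subgroup and fixing a non-trivial element of it centralize it. -/
theorem odd_fix [Finite G] {S : Subgroup G} (hS : S ≤ P) {u : G} (hu : u ∈ S) (hu1 : u ≠ 1)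
    {g : G} (hg : g ∈ Subgroup.normalizer (S : Set G)) (hc : Commute g u)
    (hodd : ¬ 2 ∣ orderOf g) : g ∈ Subgroup.centralizer (S : Set G) := by
  haveI : Fact (Nat.Prime 2) := ⟨Nat.prime_two⟩
  obtain ⟨k, -, hk⟩ := D.pow2
  have hP : IsPGroup 2 P := IsPGroup.of_card (n := k + 2) (by rw [D.card, hk]; ring)
  obtain ⟨e⟩ := D.emb
  haveI : NeZero (2 * h) := ⟨by have := D.two_le; omega⟩
  have hSp : IsPGroup 2 S := hP.to_le hS
  set α : MulAut S := S.normalizerMonoidHom ⟨g, hg⟩ with hα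
  have hαn : α ^ orderOf g = 1 := by
    rw [hα, ← map_pow]
    rw [show (⟨g, hg⟩ : Subgroup.normalizer (S : Set G)) ^ orderOf g = 1 from
      Subtype.ext (by simpa using pow_orderOf_eq_one g), map_one]
  obtain ⟨i, hi⟩ := hSp ⟨u, hu⟩
  have hne : (⟨u, hu⟩ : S) ≠ 1 := fun e => hu1 (congrArg Subtype.val e)
  have h2 : 2 ∣ orderOf (⟨u, hu⟩ : S) := by
    obtain ⟨j, -, hj⟩ := (Nat.dvd_prime_pow Nat.prime_two).1 (orderOf_dvd_of_pow_eq_one hi)
    rw [hj]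
    refine dvd_pow_self 2 fun h0 => hne (orderOf_eq_one_iff.1 ?_)
    rw [hj, h0, pow_zero]
  set r := orderOf (⟨u, hu⟩ : S) / 2 with hr
  have ht : orderOf ((⟨u, hu⟩ : S) ^ r) = 2 := by
    rw [orderOf_pow_of_dvd ?_ (Nat.div_dvd_of_dvd h2), Nat.div_div_self h2 (orderOf_pos _).ne']
    exact (Nat.div_pos (Nat.le_of_dvd (orderOf_pos _) h2) two_pos).ne'
  have hfix : α ((⟨u, hu⟩ : S) ^ r) = (⟨u, hu⟩ : S) ^ r := by
    refine Subtype.ext ?_
    show g * ((⟨u, hu⟩ : S) ^ r : S).1 * g⁻¹ = _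
    rw [Subgroup.coe_pow, (hc.pow_right r).eq, mul_inv_cancel_right]
  have h1 := CfsgLib.Invol.aut_eq_one_of_dihedral hSp (e.toMonoidHom.comp (Subgroup.inclusion hS))
    (e.injective.comp (Subgroup.inclusion_injective hS)) α
    (Nat.odd_iff.2 (Nat.two_dvd_ne_zero.1 hodd)) hαn ht hfix
  refine Subgroup.mem_centralizer_iff.2 fun s hs => ?_
  have h3 : g * s * g⁻¹ = s := congrArg (fun β : MulAut S => ((β ⟨s, hs⟩ : S) : G)) h1
  exact (mul_inv_eq_iff_eq_mul.1 h3).symm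

/-- Odd-order elements normalizing `P` centralize it. -/
theorem odd_normalizer [Finite G] {g : G} (hg : g ∈ Subgroup.normalizer (P : Set G))
    (hodd : ¬ 2 ∣ orderOf g) : g ∈ Subgroup.centralizer (P : Set G) := by
  refine D.odd_fix le_rfl (pow_mem D.memσ h) D.sigma_h_ne hg ?_ hodd
  have hmem : g * σ ^ h * g⁻¹ ∈ P := (Subgroup.mem_normalizer_iff.1 hg _).1 (pow_mem D.memσ h)
  rcases D.eq_of_central hmem (fun v hv => by
    have hv' : g⁻¹ * v * g ∈ P := (Subgroup.mem_normalizer_iff''.1 hg v).1 hv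
    have := (D.J_comm hv').symm.map (MulAut.conj g).toMonoidHom
    simpa [mul_assoc] using this) with e | e
  · exact absurd (conj_eq_one_iff.1 e) D.sigma_h_ne
  · exact mul_inv_eq_iff_eq_mul.1 e

end DPres

end CfsgLib.Block.Tame
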