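import Cfsg.Agent.Lib.Block.Tame.DihedralBlock
import Cfsg.Agent.Lib.Block.Tame.DihedralConfig
import Cfsg.Agent.Lib.Block.StarChar
import Cfsg.Agent.Lib.Block.Orthogonality
import Mathlib.NumberTheory.LegendreSymbol.AddCharacter

/-!
# 2-blocks with dihedral defect group: the integral vectors

The values at the rotations of the generalized characters of the nilpotent block at the central
involution (`DFrame.gv`), their products (`DFrame.sum_gv`), and the integral vectors
(`DFrame.exists_vectors`).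
-/

open Finset MonoidAlgebra
open scoped ComplexConjugate

set_option autoImplicit false
set_option linter.unusedSectionVars false

namespace CfsgLib.Block.Tame

open Cfsg CfsgLib CfsgLib.Block CfsgLib.Block.CyclicDefect
open scoped Pair

universe u

variable {M : Ideal AlgInt} [M.IsMaximal] {G : Type u} [Group G] [Fintype G] [DecidableEq G]
  [Fintype (IrrCharacter G)]

namespace DFrame

variable {B : Set (IrrCharacter G)} {P : Subgroup G} {e : Set (IrrCharacter (CQ P))} {σ τ : G}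
  {h : ℕ} (F : DFrame M B P e σ τ h)
  {f : Set (IrrCharacter (CQ (Subgroup.zpowers (σ ^ h))))}
  (S : Setup 2 M B P e (Subgroup.zpowers (σ ^ h)) P f e)
  [Fintype (IrrCharacter (CQ (Subgroup.zpowers (σ ^ h))))]
include F S

/-- A rotation in the local group. -/
def elem (l : ℕ) : P.subgroupOf (CQ (Subgroup.zpowers (σ ^ h))) :=
  ⟨⟨σ ^ l, S.cent (pow_mem F.pres.memσ l)⟩, pow_mem F.pres.memσ l⟩

theorem inP_elem (l : ℕ) : S.inP (F.elem S l) = F.rot l := rfl

/-- The values at the rotations. -/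
noncomputable def gv (θ₀ : IrrCharacter (CQ (Subgroup.zpowers (σ ^ h)))) (χ : IrrCharacter G)
    (l : ℕ) : ℂ :=
  S.gfun θ₀ χ (F.elem S l)

theorem elem_congr {l l' : ℕ} (he : σ ^ l = σ ^ l') : F.elem S l = F.elem S l' :=
  Subtype.ext (Subtype.ext he)

theorem J_mem_zpowers {l : ℕ} (hl : σ ^ l ≠ 1) :
    Subgroup.zpowers (σ ^ h) ≤ Subgroup.zpowers (σ ^ l) := by
  rw [Subgroup.zpowers_le]
  obtain ⟨k, -, hk⟩ := F.pres.pow2
  set g := Nat.gcd l (2 * h) with hg
  have hg2 : g ∣ 2 ^ (k + 1) := by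
    rw [pow_succ', ← hk]; exact Nat.gcd_dvd_right _ _
  obtain ⟨i, hi, hgi⟩ := (Nat.dvd_prime_pow Nat.prime_two).1 hg2
  have hgh : g ∣ h := by
    rcases Nat.eq_or_lt_of_le hi with e | e
    · exfalso
      refine hl (F.pres.pow_eq_one.2 ?_)
      rw [hk, ← pow_succ', ← e, ← hgi]
      exact Nat.gcd_dvd_left _ _
    · rw [hgi, hk]; exact pow_dvd_pow 2 (by omega)
  obtain ⟨c, hc⟩ := hgh
  have hmem : σ ^ g ∈ Subgroup.zpowers (σ ^ l) := by
    refine Subgroup.mem_zpowers_iff.2 ⟨Nat.gcdA l (2 * h), ?_⟩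
    rw [← zpow_natCast σ g, hg, Nat.gcd_eq_gcd_ab, zpow_add, zpow_mul, zpow_mul, zpow_natCast,
      zpow_natCast, F.pres.pow_eq_one.2 dvd_rfl, one_zpow, mul_one]
  exact (congrArg (σ ^ ·) hc).trans (pow_mul σ g c) ▸ pow_mem hmem c

theorem gv_neg (θ₀ : IrrCharacter (CQ (Subgroup.zpowers (σ ^ h)))) (hθ : S.Base θ₀)
    (χ : IrrCharacter G) {l l' : ℕ} (hl : σ ^ l' = (σ ^ l)⁻¹) :
    F.gv S θ₀ χ l' = F.gv S θ₀ χ l := by
  have hcf := Char.isClassFunction_of_isGeneralized (S.gfun_gen hθ χ)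
  have he : F.elem S l' = ⟨⟨τ, S.cent F.pres.memτ⟩, F.pres.memτ⟩ * F.elem S l *
      (⟨⟨τ, S.cent F.pres.memτ⟩, F.pres.memτ⟩ : P.subgroupOf (CQ (Subgroup.zpowers (σ ^ h))))⁻¹ :=
    Subtype.ext (Subtype.ext (hl.trans (F.pres.conjτ l).symm))
  rw [gv, gv, he]
  exact hcf _ _

theorem card_centralizer_elem {l : ℕ} (hl : σ ^ l ≠ 1) :
    Nat.card (Subgroup.centralizer ({F.elem S l} : Set (P.subgroupOf (CQ (Subgroup.zpowers (σ ^ h)))))) =
      if h ∣ l then 4 * h else 2 * h := by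
  have e : Nat.card (Subgroup.centralizer
      ({F.elem S l} : Set (P.subgroupOf (CQ (Subgroup.zpowers (σ ^ h)))))) =
      Nat.card (P ⊓ Subgroup.centralizer ({σ ^ l} : Set G) : Subgroup G) :=
    Nat.card_congr
      { toFun := fun c => ⟨((c.1 : CQ (Subgroup.zpowers (σ ^ h))) : G), c.1.2,
          Subgroup.mem_centralizer_singleton_iff.2
            (congrArg (fun z : P.subgroupOf (CQ (Subgroup.zpowers (σ ^ h))) =>
              ((z : CQ (Subgroup.zpowers (σ ^ h))) : G)) (Subgroup.mem_centralizer_singleton_iff.1 c.2))⟩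
        invFun := fun c => ⟨⟨⟨(c : G), S.cent c.2.1⟩, c.2.1⟩, Subgroup.mem_centralizer_singleton_iff.2
          (Subtype.ext (Subtype.ext (Subgroup.mem_centralizer_singleton_iff.1 c.2.2)))⟩
        left_inv := fun c => rfl
        right_inv := fun c => rfl }
  rw [e]
  split_ifs with hd
  · rw [show P ⊓ Subgroup.centralizer ({σ ^ l} : Set G) = P from inf_eq_left.2 fun v hv => by
      rw [F.pres.eq_J hl hd]
      exact Subgroup.mem_centralizer_singleton_iff.2 (F.pres.J_comm hv).eq, F.pres.card]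
  · rw [F.pres.inf_centralizer hd, Nat.card_zpowers, F.pres.orderσ]

open scoped Classical in
/-- The products of the values over the block. -/
theorem sum_gv (θ₀ : IrrCharacter (CQ (Subgroup.zpowers (σ ^ h)))) (hθ : S.Base θ₀) {l l' : ℕ}
    (hl : σ ^ l ≠ 1) (hl' : σ ^ l' ≠ 1) :
    ∑ χ ∈ Finset.univ.filter (fun χ : IrrCharacter G => χ ∈ B),
      F.gv S θ₀ χ l * conj (F.gv S θ₀ χ l') =
      (2 * h : ℂ) * ((if σ ^ l' = σ ^ l then 1 else 0) + (if σ ^ l' = (σ ^ l)⁻¹ then 1 else 0)) := by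
  have hself : ∑ χ ∈ Finset.univ.filter (fun χ : IrrCharacter G => χ ∈ B),
      F.gv S θ₀ χ l * conj (F.gv S θ₀ χ l) = ((if h ∣ l then 4 * h else 2 * h : ℕ) : ℂ) := by
    simp only [gv, S.gfun_mul_conj hθ (y := F.elem S l) (F.J_mem_zpowers S hl), F.inP_elem]
    rw [← Finset.sum_div, ← Finset.mul_sum, F.card_centralizer_elem S hl]
    have h1 := F.sum_rank_low (y := F.rot l) fun e => hl (congrArg Subtype.val e)
    simp only [fintype_rot_coe] at h1
    erw [h1]
    exact mul_div_cancel_right₀ _ (Nat.cast_ne_zero.2 Nat.card_pos.ne')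
  have hinv : (σ ^ l)⁻¹ = σ ^ l ↔ h ∣ l := by
    rw [inv_eq_iff_mul_eq_one, ← not_iff_not]; exact F.pres.sq_ne_iff l
  by_cases h1 : σ ^ l' = σ ^ l
  · have e : ∀ χ, F.gv S θ₀ χ l' = F.gv S θ₀ χ l := fun χ => by rw [gv, gv, F.elem_congr S h1]
    simp only [e]
    rw [hself, if_pos h1, h1]
    by_cases hd : h ∣ l
    · rw [if_pos hd, if_pos (hinv.2 hd).symm]; push_cast; ring
    · rw [if_neg hd, if_neg fun e' => hd (hinv.1 e'.symm)]; push_cast; ring
  by_cases h2 : σ ^ l' = (σ ^ l)⁻¹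
  · have e : ∀ χ, F.gv S θ₀ χ l' = F.gv S θ₀ χ l := fun χ => F.gv_neg S θ₀ hθ χ h2
    simp only [e, hself, if_neg h1, if_pos h2]
    have hd : ¬ h ∣ l := fun hd => h1 (h2.trans (hinv.2 hd))
    rw [if_neg hd]; push_cast; ring
  rw [if_neg h1, if_neg h2, add_zero, mul_zero]
  obtain ⟨β, hβ⟩ := S.exists_beta (θ₀ := θ₀) (y := F.elem S l) (F.J_mem_zpowers S hl)
  obtain ⟨β', hβ'⟩ := S.exists_beta (θ₀ := θ₀) (y := F.elem S l') (F.J_mem_zpowers S hl')
  have hne : F.rot l' ∉ fusClass F.hM F.hmax.1.1 (F.rot l) := by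
    intro hm
    by_cases hd : h ∣ l
    · have hsq := (F.sq_of_fused hm).2 (not_not.1 fun e => (F.pres.sq_ne_iff l).1 e hd)
      refine h1 ?_
      rw [F.pres.eq_J hl hd, F.pres.eq_J hl' (by
        by_contra hd'; exact (F.pres.sq_ne_iff l').2 hd' hsq)]
    · rw [F.fus_rot hd] at hm
      rcases Finset.mem_insert.1 hm with e | e
      · exact h1 (congrArg Subtype.val e)
      · exact h2 (congrArg Subtype.val (Finset.mem_singleton.1 e))
  have horth := sum_secPart_one_zero F.hM F.hmax hne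
  simp only [gv, hβ, hβ', map_mul]
  refine Eq.trans (Finset.sum_congr rfl fun χ _ => mul_mul_mul_comm _ _ _ _) ?_
  rw [← Finset.mul_sum]
  exact mul_eq_zero_of_right _ horth

open scoped Classical in
/-- The values are orthogonal to the degrees. -/
theorem sum_gv_degree (θ₀ : IrrCharacter (CQ (Subgroup.zpowers (σ ^ h)))) {l : ℕ} (hl : σ ^ l ≠ 1) :
    ∑ χ ∈ Finset.univ.filter (fun χ : IrrCharacter G => χ ∈ B),
      F.gv S θ₀ χ l * (χ : G → ℂ) 1 = 0 := by
  obtain ⟨β, hβ⟩ := S.exists_beta (θ₀ := θ₀) (y := F.elem S l) (F.J_mem_zpowers S hl)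
  simp only [gv, hβ, mul_assoc, ← Finset.mul_sum]
  refine mul_eq_zero_of_right _ ?_
  simp only [secPart, Finset.sum_mul]
  rw [Finset.sum_comm]
  refine Finset.sum_eq_zero fun t _ => ?_
  rw [Finset.sum_congr rfl fun χ _ => mul_assoc _ _ _, ← Finset.mul_sum]
  set Q' := (lowPair S.hM S.hmax.1.1 (S.inP (F.elem S l))).1
  by_cases ht : t ∈ CQ Q'
  swap
  · rw [subgroupBlockCoeff_of_notMem _ ht, zero_mul]
  by_cases hreg : 2 ∣ orderOf t
  · rw [show t = ((⟨t, ht⟩ : CQ Q') : G) from rfl, subgroupBlockCoeff_coe,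
      blockCoeff_eq_zero_of_singular F.hM (IsBlockUnion.of_isPBlock
        (lowPair_pairOf S.hM S.hmax (S.inP (F.elem S l))).1.2) (by rwa [← Subgroup.orderOf_coe]),
      zero_mul]
  refine mul_eq_zero_of_right _ ?_
  have hc : Commute t (σ ^ l) := mem_cq_zpowers_iff.1 ht
  have hsing : 2 ∣ orderOf ((σ ^ l * (t * 1))) := by
    rw [mul_one, hc.symm.orderOf_mul_eq_mul_orderOf_of_coprime ?_]
    · refine Dvd.dvd.mul_right ?_ _
      obtain ⟨k, hk⟩ := exists_pElement_orderOf F.hmax.1.1 (F.rot l) F.hM.1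
      rw [fintype_rot_coe] at hk
      rw [hk]
      refine dvd_pow_self 2 fun h0 => hl (orderOf_eq_one_iff.1 ?_)
      rw [hk, h0, pow_zero]
    · obtain ⟨k, hk⟩ := exists_pElement_orderOf F.hmax.1.1 (F.rot l) F.hM.1
      rw [fintype_rot_coe] at hk
      rw [hk]
      exact ((Nat.prime_two.coprime_iff_not_dvd).2 hreg).pow_left k
  have e := blockUnion_orthogonal_regular_singular F.hM (IsBlockUnion.of_isPBlock F.hmax.1.2.1)
    (g := (1 : G)) (by simp) hsing
  rw [finsum_mem_eq_finite_toFinset_sum _ (Set.toFinite _),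
    show (Set.toFinite B).toFinset = Finset.univ.filter (fun χ : IrrCharacter G => χ ∈ B) by
      ext; simp] at e
  have e2 := congrArg conj e
  rw [map_zero, map_sum] at e2
  refine Eq.trans (Finset.sum_congr rfl fun χ _ => ?_) e2
  rw [map_mul, Complex.conj_conj, Char.conj_irr_one, mul_comm]
  rfl

open scoped Classical in
/-- No member vanishes at the central involution. -/
theorem gv_ne_zero (θ₀ : IrrCharacter (CQ (Subgroup.zpowers (σ ^ h)))) (hθ : S.Base θ₀)
    {χ : IrrCharacter G} (hχ : χ ∈ B) : F.gv S θ₀ χ h ≠ 0 := by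
  intro h0
  have hm := S.gfun_mul_conj hθ (y := F.elem S h) (F.J_mem_zpowers S F.pres.sigma_h_ne) χ χ
  rw [← gv, h0, zero_mul] at hm
  have hsec : secSum 2 χ χ (σ ^ h) (lowPair S.hM S.hmax.1.1 (F.rot h)) = 0 := by
    rcases div_eq_zero_iff.1 hm.symm with e | e
    · exact (mul_eq_zero.1 e).resolve_left (Nat.cast_ne_zero.2 Nat.card_pos.ne')
    · exact absurd e (Nat.cast_ne_zero.2 Nat.card_pos.ne')
  obtain ⟨s, hs, hne⟩ := exists_secPart_ne_zero_of_center F.hM F.hmax hχ F.J_center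
  obtain ⟨hs1, hs2⟩ := mem_regC.1 hs
  exact hne (eq_zero_of_sum_mul_conj hsec (Finset.mem_filter.2 ⟨Finset.mem_univ _, hs1, hs2⟩))

omit S in
/-- A generalized character on the powers of an element of order dividing `2 h`. -/
theorem exists_mult {H : Type u} [Group H] [Finite H] {g : H → ℂ}
    (hg : IsGeneralizedCharacter H g) {s : H} (hs : s ^ (2 * h) = 1) {ζ : ℂ}
    (hζ : IsPrimitiveRoot ζ (2 * h)) [NeZero (2 * h)] :
    ∃ a : ZMod (2 * h) → ℤ, ∀ l : ℕ, g (s ^ l) =
      ∑ x, (a x : ℂ) * AddChar.zmodChar (2 * h) hζ.pow_eq_one (x * (l : ZMod (2 * h))) := by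
  have hchar : ∀ χ : H → ℂ, IsCharacter H χ → ∃ a : ZMod (2 * h) → ℕ, ∀ l : ℕ, χ (s ^ l) =
      ∑ x, (a x : ℂ) * AddChar.zmodChar (2 * h) hζ.pow_eq_one (x * (l : ZMod (2 * h))) := by
    rintro χ ⟨m, ρ, rfl⟩
    obtain ⟨b, μ, h1, -, h3⟩ := Char.exists_eigen_data ρ s
    have hk : ∀ i, ∃ k : ℕ, ζ ^ k = μ i := fun i => by
      obtain ⟨c, hc⟩ := orderOf_dvd_of_pow_eq_one hs
      obtain ⟨k, -, hk⟩ := hζ.eq_pow_of_pow_eq_one (show μ i ^ (2 * h) = 1 by
        rw [hc, pow_mul, h1, one_pow])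
      exact ⟨k, hk⟩
    choose k hk using hk
    refine ⟨fun x => (Finset.univ.filter fun i => ((k i : ℕ) : ZMod (2 * h)) = x).card, fun l => ?_⟩
    rw [h3, ← Finset.sum_fiberwise Finset.univ (fun i => ((k i : ℕ) : ZMod (2 * h)))]
    refine Finset.sum_congr rfl fun x _ => ?_
    rw [Finset.sum_congr rfl (g := fun _ => AddChar.zmodChar (2 * h) hζ.pow_eq_one
      (x * (l : ZMod (2 * h)))) fun i hi => ?_, Finset.sum_const, nsmul_eq_mul]
    rw [← (Finset.mem_filter.1 hi).2, ← Nat.cast_mul, AddChar.zmodChar_apply', pow_mul, hk]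
  obtain ⟨χ, ψ, hχ, hψ, rfl⟩ := hg
  obtain ⟨a, ha⟩ := hchar χ hχ
  obtain ⟨b, hb⟩ := hchar ψ hψ
  refine ⟨fun x => (a x : ℤ) - b x, fun l => ?_⟩
  rw [Pi.sub_apply, ha, hb, ← Finset.sum_sub_distrib]
  exact Finset.sum_congr rfl fun x _ => by push_cast; ring

open scoped Classical in
/-- The integral vectors of the block. -/
theorem exists_vectors (θ₀ : IrrCharacter (CQ (Subgroup.zpowers (σ ^ h)))) (hθ : S.Base θ₀) {ζ : ℂ}
    (hζ : IsPrimitiveRoot ζ (2 * h)) :
    ∃ (wh : ↥(Finset.univ.filter fun χ : IrrCharacter G => χ ∈ B) → ℤ)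
      (w : Fin (h - 1) → ↥(Finset.univ.filter fun χ : IrrCharacter G => χ ∈ B) → ℤ),
      (∑ i, wh i * wh i = 4) ∧ (∀ j, ∑ i, w j i * w j i = 3) ∧
      (∀ j k, j ≠ k → ∑ i, w j i * w k i = 2) ∧ (∀ j, ∑ i, w j i * wh i = 2) ∧
      (∑ i, wh i * (charDegree ((i : IrrCharacter G) : G → ℂ) : ℤ) = 0) ∧
      (∀ j, ∑ i, w j i * (charDegree ((i : IrrCharacter G) : G → ℂ) : ℤ) = 0) ∧
      (∀ i, Config.fJ wh w i ≠ 0) ∧
      (∀ i : ↥(Finset.univ.filter fun χ : IrrCharacter G => χ ∈ B),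
        F.gv S θ₀ (i : IrrCharacter G) h = (Config.fJ wh w i : ℂ)) ∧
      ∀ i : ↥(Finset.univ.filter fun χ : IrrCharacter G => χ ∈ B), F.gv S θ₀ (i : IrrCharacter G) 1 = -(wh i : ℂ) +
        ∑ j : Fin (h - 1), (w j i : ℂ) * (ζ ^ ((j : ℕ) + 1) + (ζ ^ ((j : ℕ) + 1))⁻¹) := by
  have h2h := F.pres.two_le
  haveI : NeZero (2 * h) := ⟨by omega⟩
  set ψ : AddChar (ZMod (2 * h)) ℂ := AddChar.zmodChar (2 * h) hζ.pow_eq_one with hψ
  have hψp : ψ.IsPrimitive := AddChar.zmodChar_primitive_of_primitive_root (2 * h) hζ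
  have hψv : ∀ n : ℕ, ψ (n : ZMod (2 * h)) = ζ ^ n := fun n => AddChar.zmodChar_apply' hζ.pow_eq_one n
  have hsum : ∀ b : ZMod (2 * h), ∑ y, ψ (y * b) = if b = 0 then (2 * h : ℂ) else 0 := by
    intro b
    rw [AddChar.sum_mulShift b hψp]
    split_ifs with hb <;> simp [ZMod.card]
  have hconjψ : ∀ y, conj (ψ y) = ψ (-y) := fun y => by
    rw [AddChar.map_neg_eq_inv, ← Complex.inv_eq_conj]
    exact Complex.norm_eq_one_of_pow_eq_one (n := 2 * h) (by
      rw [← AddChar.map_nsmul_eq_pow, ZModModule.char_nsmul_eq_zero, AddChar.map_zero_eq_one]) (by omega)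
  set R : ZMod (2 * h) → G := fun y => σ ^ y.val with hR
  have hRn : ∀ n : ℕ, R (n : ZMod (2 * h)) = σ ^ n := fun n => by
    simp only [hR, ZMod.val_natCast]
    exact F.pres.pow_mod n
  have hRneg : ∀ y, R (-y) = (R y)⁻¹ := fun y => by
    refine eq_inv_of_mul_eq_one_left ?_
    show σ ^ (-y).val * σ ^ y.val = 1
    rw [← pow_add, F.pres.pow_eq_one, ← ZMod.natCast_eq_zero_iff, Nat.cast_add,
      ZMod.natCast_zmod_val, ZMod.natCast_zmod_val, neg_add_cancel]
  have hR1 : ∀ y, y ≠ 0 → R y ≠ 1 := fun y hy e => hy (by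
    have h1 := F.pres.pow_eq_one.1 (show σ ^ y.val = 1 from e)
    exact (ZMod.val_eq_zero y).1 (Nat.eq_zero_of_dvd_of_lt h1 (ZMod.val_lt y)))
  have hRinj : Function.Injective R := fun y z e => by
    have e' : σ ^ y.val = σ ^ z.val := e
    rw [pow_inj_mod, F.pres.orderσ, Nat.mod_eq_of_lt (ZMod.val_lt y),
      Nat.mod_eq_of_lt (ZMod.val_lt z)] at e'
    exact ZMod.val_injective _ e'
  set g : IrrCharacter G → ZMod (2 * h) → ℂ := fun χ y => F.gv S θ₀ χ y.val with hgdef
  have hsym : ∀ χ y, g χ (-y) = g χ y := fun χ y => F.gv_neg S θ₀ hθ χ (hRneg y)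
  have hcoeff : ∀ χ : IrrCharacter G, ∃ a : ZMod (2 * h) → ℤ, ∀ y,
      g χ y = ∑ x, (a x : ℂ) * ψ (x * y) := by
    intro χ
    have hs : F.elem S 1 ^ (2 * h) = 1 := Subtype.ext (Subtype.ext (by
      show (σ ^ 1) ^ (2 * h) = 1
      rw [pow_one, F.pres.pow_eq_one]))
    obtain ⟨a, ha⟩ := F.exists_mult (S.gfun_gen hθ χ) hs hζ
    refine ⟨a, fun y => ?_⟩
    have h1 := ha y.val
    rw [ZMod.natCast_zmod_val] at h1
    rw [← h1]
    show S.gfun θ₀ χ (F.elem S y.val) = _
    congr 1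
    exact Subtype.ext (Subtype.ext (show σ ^ y.val = (σ ^ 1) ^ y.val by rw [pow_one]))
  choose a ha using hcoeff
  set w : IrrCharacter G → ZMod (2 * h) → ℤ := fun χ x => a χ x - a χ 0 with hw
  have hinv : ∀ χ x, (2 * h : ℂ) * (a χ x : ℂ) = ∑ y, g χ y * ψ (-(x * y)) := by
    intro χ x
    simp only [ha, Finset.sum_mul, mul_assoc, ← AddChar.map_add_eq_mul]
    rw [Finset.sum_comm]
    simp only [← Finset.mul_sum]
    rw [Finset.sum_eq_single x (fun z _ hz => ?_) (fun hh => absurd (Finset.mem_univ x) hh)]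
    · simp only [add_neg_cancel, AddChar.map_zero_eq_one, Finset.sum_const, Finset.card_univ, ZMod.card,
        nsmul_eq_mul, mul_one]
      push_cast; ring
    · rw [Finset.sum_congr rfl fun y _ => congrArg ψ (show z * y + -(x * y) = y * (z - x) by ring), hsum,
        if_neg (sub_ne_zero.2 hz), mul_zero]
  have hwN : ∀ χ x, (2 * h : ℂ) * (w χ x : ℂ) = ∑ y, g χ y * (ψ (-(x * y)) - 1) := by
    intro χ x
    have h0 := hinv χ 0
    simp only [zero_mul, neg_zero, AddChar.map_zero_eq_one, mul_one] at h0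
    simp only [hw, mul_sub, Finset.sum_sub_distrib, mul_one, ← hinv, ← h0]
    push_cast; ring
  have hN0 : (2 * h : ℂ) ≠ 0 := by
    have : (h : ℂ) ≠ 0 := Nat.cast_ne_zero.2 (by omega)
    exact mul_ne_zero two_ne_zero this
  have hwsym : ∀ χ x, w χ (-x) = w χ x := fun χ x => by
    have e : (2 * h : ℂ) * (w χ (-x) : ℂ) = (2 * h : ℂ) * (w χ x : ℂ) := by
      rw [hwN, hwN]
      exact Fintype.sum_equiv (Equiv.neg _) _ _ fun y => by
        simp only [Equiv.neg_apply, hsym, neg_mul, mul_neg, neg_neg]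
    exact_mod_cast mul_left_cancel₀ hN0 e
  have hval : ∀ χ : IrrCharacter G, ∀ y, y ≠ 0 → g χ y = ∑ x, (w χ x : ℂ) * ψ (x * y) := by
    intro χ y hy
    rw [ha χ y]
    simp only [hw]
    push_cast
    simp only [sub_mul, Finset.sum_sub_distrib, ← Finset.mul_sum]
    rw [hsum, if_neg hy, mul_zero, sub_zero]
  set B' := Finset.univ.filter (fun χ : IrrCharacter G => χ ∈ B) with hB'
  have hiso : ∀ x z, x ≠ 0 → z ≠ 0 → ∑ χ ∈ B', (w χ x * w χ z) =
      (if x = z then 1 else 0) + (if x = -z then 1 else 0) + 2 := by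
    intro x z hx hz
    have hcz : ∀ χ, (2 * h : ℂ) * (w χ z : ℂ) = ∑ y, conj (g χ y) * (ψ (z * y) - 1) := by
      intro χ
      have e := congrArg conj (hwN χ z)
      simp only [map_mul, map_sum, map_sub, map_one, hconjψ, neg_neg, map_intCast, map_natCast,
        map_ofNat] at e
      exact e
    have key : (2 * h : ℂ) * (2 * h : ℂ) * ((∑ χ ∈ B', (w χ x * w χ z) : ℤ) : ℂ) =
        ∑ y, ∑ y', (ψ (-(x * y)) - 1) * (ψ (z * y') - 1) *
          ∑ χ ∈ B', g χ y * conj (g χ y') := by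
      push_cast
      rw [Finset.mul_sum]
      simp only [Finset.mul_sum]
      rw [Finset.sum_comm_cycle]
      refine Finset.sum_congr rfl fun χ _ => ?_
      rw [show (2 * h : ℂ) * (2 * h : ℂ) * ((w χ x : ℂ) * (w χ z : ℂ)) =
        ((2 * h : ℂ) * (w χ x : ℂ)) * ((2 * h : ℂ) * (w χ z : ℂ)) by ring, hwN, hcz, Finset.sum_mul_sum]
      exact Finset.sum_congr rfl fun y _ => Finset.sum_congr rfl fun y' _ => by ring
    have hinner : ∀ y, (∑ y', (ψ (-(x * y)) - 1) * (ψ (z * y') - 1) *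
        ∑ χ ∈ B', g χ y * conj (g χ y')) =
        (ψ (-(x * y)) - 1) * ((ψ (z * y) - 1) + (ψ (-(z * y)) - 1)) * (2 * h : ℂ) := by
      intro y
      by_cases hy : y = 0
      · subst hy; simp
      have hcol : ∀ y', y' ≠ 0 → ∑ χ ∈ B', g χ y * conj (g χ y') =
          (2 * h : ℂ) * ((if y' = y then 1 else 0) + (if y' = -y then 1 else 0)) := by
        intro y' hy'
        simp only [hgdef]
        rw [F.sum_gv S θ₀ hθ (hR1 y hy) (hR1 y' hy')]
        congr 2
        · exact if_congr ⟨fun e => hRinj e, fun e => e ▸ rfl⟩ rfl rfl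
        · exact if_congr ⟨fun e => hRinj (show R y' = R (-y) by rw [hRneg]; exact e),
            fun e => by rw [e]; exact hRneg y⟩ rfl rfl
      rw [Finset.sum_congr rfl (g := fun y' => (ψ (-(x * y)) - 1) * (ψ (z * y') - 1) *
        ((2 * h : ℂ) * ((if y' = y then 1 else 0) + (if y' = -y then 1 else 0)))) fun y' _ => ?_]
      · simp only [mul_add, mul_ite, mul_one, mul_zero, Finset.sum_add_distrib, Finset.sum_ite_eq',
          Finset.mem_univ, if_true, mul_neg]
        ring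
      · by_cases hy' : y' = 0
        · subst hy'; simp
        · rw [hcol y' hy']
    rw [Finset.sum_congr rfl fun y _ => hinner y, ← Finset.sum_mul] at key
    have hexp : ∀ y, (ψ (-(x * y)) - 1) * ((ψ (z * y) - 1) + (ψ (-(z * y)) - 1)) =
        ψ (y * (z - x)) + ψ (y * (-z - x)) - 2 * ψ (y * -x) - ψ (y * z) - ψ (y * -z) + 2 * ψ (y * 0) := by
      intro y
      rw [show y * (z - x) = -(x * y) + z * y by ring, show y * (-z - x) = -(x * y) + -(z * y) by ring,
        AddChar.map_add_eq_mul, AddChar.map_add_eq_mul, mul_zero, AddChar.map_zero_eq_one,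
        show y * -x = -(x * y) by ring, show y * z = z * y by ring, show y * -z = -(z * y) by ring]
      ring
    simp only [hexp, Finset.sum_add_distrib, Finset.sum_sub_distrib, ← Finset.mul_sum, hsum,
      if_neg (neg_ne_zero.2 hx), if_neg hz, if_neg (neg_ne_zero.2 hz), if_pos] at key
    have e2 : ((∑ χ ∈ B', (w χ x * w χ z) : ℤ) : ℂ) =
        ((((if x = z then 1 else 0) + (if x = -z then 1 else 0) + 2) : ℤ) : ℂ) := by
      refine mul_left_cancel₀ (mul_ne_zero hN0 hN0) (key.trans ?_)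
      push_cast [apply_ite (Int.cast : ℤ → ℂ)]
      simp only [sub_eq_zero, eq_comm (a := z) (b := x), eq_comm (a := -z) (b := x)]
      split_ifs <;> ring
    exact_mod_cast e2
  have hdeg : ∀ x, ∑ χ ∈ B', w χ x * (charDegree (χ : G → ℂ) : ℤ) = 0 := by
    intro x
    refine Int.cast_injective (α := ℂ) (mul_left_cancel₀ hN0 ?_)
    push_cast
    rw [mul_zero, Finset.mul_sum, Finset.sum_congr rfl fun χ _ => by
      rw [← mul_assoc, hwN, ← (charDegree_eq χ).1, Finset.sum_mul], Finset.sum_comm]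
    refine Finset.sum_eq_zero fun y _ => ?_
    by_cases hy : y = 0
    · subst hy; simp
    rw [Finset.sum_congr rfl fun χ _ => mul_right_comm _ _ _, ← Finset.sum_mul]
    exact mul_eq_zero_of_left (F.sum_gv_degree S θ₀ (hR1 y hy)) _
  -- the indices
  set hh : ZMod (2 * h) := (h : ZMod (2 * h)) with hhh
  set J : Fin (h - 1) → ZMod (2 * h) := fun j => (((j : ℕ) + 1 : ℕ) : ZMod (2 * h)) with hJ
  have hhv : hh.val = h := by rw [hhh, ZMod.val_natCast, Nat.mod_eq_of_lt (by omega)]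
  have hJv : ∀ j, (J j).val = (j : ℕ) + 1 := fun j => by
    rw [hJ, ZMod.val_natCast, Nat.mod_eq_of_lt (by have := j.2; omega)]
  have hJ0 : ∀ j, J j ≠ 0 := fun j e => by
    have := hJv j; rw [e, ZMod.val_zero] at this; omega
  have hJnv : ∀ j, (-J j).val = 2 * h - ((j : ℕ) + 1) := fun j => by
    haveI := NeZero.mk (hJ0 j)
    rw [ZMod.val_neg_of_ne_zero, hJv]
  have hh0 : hh ≠ 0 := fun e => by rw [e, ZMod.val_zero] at hhv; omega
  have hhneg : -hh = hh := by
    rw [neg_eq_iff_add_eq_zero, hhh, ← Nat.cast_add, ← two_mul, ZMod.natCast_self]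
  have hJh : ∀ j, J j ≠ hh ∧ J j ≠ -hh := fun j => by
    rw [hhneg]
    have := hJv j
    refine ⟨fun e => ?_, fun e => ?_⟩ <;> (rw [e, hhv] at this; have := j.2; omega)
  have hJJ : ∀ j k, (J j = J k → j = k) ∧ J j ≠ -J k := fun j k => by
    refine ⟨fun e => Fin.ext (by have := hJv j; rw [e, hJv k] at this; omega), fun e => ?_⟩
    have := hJv j
    rw [e, hJnv k] at this
    have := j.2; have := k.2; omega
  -- the expansion
  have hexpand : ∀ χ y, y ≠ 0 → g χ y = (w χ hh : ℂ) * ψ (hh * y) +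
      ∑ j : Fin (h - 1), (w χ (J j) : ℂ) * (ψ (J j * y) + ψ (-J j * y)) := by
    intro χ y hy
    have hset : (Finset.univ : Finset (ZMod (2 * h))) = insert 0 (insert hh
        ((Finset.univ.image J) ∪ Finset.univ.image fun j => -J j)) := by
      refine (Finset.eq_univ_iff_forall.2 fun x => ?_).symm
      simp only [Finset.mem_insert, Finset.mem_union, Finset.mem_image, Finset.mem_univ, true_and]
      by_cases hx : x = 0
      · exact Or.inl hx
      right
      have h1 : x.val ≠ 0 := fun e => hx ((ZMod.val_eq_zero x).1 e)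
      have h2 := ZMod.val_lt x
      rcases lt_trichotomy x.val h with hl | hl | hl
      · refine Or.inr (Or.inl ⟨⟨x.val - 1, by omega⟩, ZMod.val_injective _ ?_⟩)
        rw [hJv]; simp only; omega
      · exact Or.inl (ZMod.val_injective _ (by rw [hl, hhv]))
      · refine Or.inr (Or.inr ⟨⟨2 * h - x.val - 1, by omega⟩, ZMod.val_injective _ ?_⟩)
        rw [hJnv]; simp only; omega
    rw [hval χ y hy, hset, Finset.sum_insert ?_, Finset.sum_insert ?_, Finset.sum_union ?_,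
      Finset.sum_image fun j _ k _ e => (hJJ j k).1 e,
      Finset.sum_image fun j _ k _ e => (hJJ j k).1 (neg_injective e), ← Finset.sum_add_distrib]
    · simp only [hw, sub_self, Int.cast_zero, zero_mul, zero_add]
      congr 1
      refine Finset.sum_congr rfl fun j _ => ?_
      have := hwsym χ (J j)
      simp only [hw] at this
      rw [this]
      ring
    · refine Finset.disjoint_left.2 fun x hx hx' => ?_
      obtain ⟨j, -, rfl⟩ := Finset.mem_image.1 hx
      obtain ⟨k, -, e⟩ := Finset.mem_image.1 hx'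
      exact (hJJ j k).2 e.symm
    · simp only [Finset.mem_union, Finset.mem_image, Finset.mem_univ, true_and, not_or, not_exists]
      exact ⟨fun j => (hJh j).1, fun j e => (hJh j).2 (by rw [← e, neg_neg])⟩
    · simp only [Finset.mem_insert, Finset.mem_union, Finset.mem_image, Finset.mem_univ, true_and,
        not_or, not_exists]
      exact ⟨hh0.symm, fun j => hJ0 j, fun j e => hJ0 j (neg_eq_zero.1 e)⟩
  have hζh : ζ ^ h = -1 := (hζ.pow (by omega) (by ring)).eq_neg_one_of_two_right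
  have hgJ : ∀ χ, F.gv S θ₀ χ h =
      ((w χ hh + 2 * ∑ j : Fin (h - 1), (-1) ^ ((j : ℕ) + 1) * w χ (J j) : ℤ) : ℂ) := by
    intro χ
    have e := hexpand χ hh hh0
    simp only [hgdef, hhv] at e
    rw [e]
    have hψh : ∀ n : ℕ, ψ ((n : ZMod (2 * h)) * hh) = (-1) ^ n := fun n => by
      rw [hhh, ← Nat.cast_mul, hψv, mul_comm, pow_mul, hζh]
    push_cast
    rw [show hh * hh = (h : ZMod (2 * h)) * hh from rfl, hψh, F.pres.h_even.neg_one_pow, mul_one,
      Finset.mul_sum]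
    congr 1
    refine Finset.sum_congr rfl fun j _ => ?_
    rw [show -J j * hh = J j * hh by rw [neg_mul, ← mul_neg, hhneg], hψh]
    ring
  refine ⟨fun i => w i hh, fun j i => w i (J j), ?_, fun j => ?_, fun j k hjk => ?_, fun j => ?_, ?_,
    fun j => ?_, fun i => ?_, fun i => hgJ _, fun i => ?_⟩
  · rw [Finset.sum_coe_sort B' (fun χ => w χ hh * w χ hh), hiso hh hh hh0 hh0, if_pos rfl,
      if_pos hhneg.symm]
    rfl
  · rw [Finset.sum_coe_sort B' (fun χ => w χ (J j) * w χ (J j)), hiso _ _ (hJ0 j) (hJ0 j), if_pos rfl,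
      if_neg (hJJ j j).2]
    rfl
  · rw [Finset.sum_coe_sort B' (fun χ => w χ (J j) * w χ (J k)), hiso _ _ (hJ0 j) (hJ0 k),
      if_neg fun e => hjk ((hJJ j k).1 e), if_neg (hJJ j k).2]
    rfl
  · rw [Finset.sum_coe_sort B' (fun χ => w χ (J j) * w χ hh), hiso _ _ (hJ0 j) hh0, if_neg (hJh j).1,
      if_neg (hJh j).2]
    rfl
  · rw [Finset.sum_coe_sort B' (fun χ => w χ hh * (charDegree (χ : G → ℂ) : ℤ))]
    exact hdeg hh
  · rw [Finset.sum_coe_sort B' (fun χ => w χ (J j) * (charDegree (χ : G → ℂ) : ℤ))]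
    exact hdeg (J j)
  · intro h0
    refine F.gv_ne_zero S θ₀ hθ (Finset.mem_filter.1 i.2).2 ?_
    rw [hgJ]
    exact_mod_cast h0
  · have h1 : (1 : ZMod (2 * h)) ≠ 0 := by
      rw [← Nat.cast_one, Ne, ZMod.natCast_eq_zero_iff]
      exact fun hd => by have := Nat.le_of_dvd one_pos hd; omega
    have e := hexpand (i : IrrCharacter G) 1 h1
    have hv1 : (1 : ZMod (2 * h)).val = 1 := by
      rw [← Nat.cast_one, ZMod.val_natCast, Nat.mod_eq_of_lt (by omega)]
    simp only [hgdef, hv1, mul_one] at e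
    rw [e, hhh, hψv, hζh, mul_neg_one]
    congr 1
    refine Finset.sum_congr rfl fun j _ => ?_
    rw [AddChar.map_neg_eq_inv, hJ, hψv]

end DFrame

end CfsgLib.Block.Tame
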