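import Cfsg.Agent.Lib.Block.PSolvableOne
import Cfsg.Agent.Lib.Coprime.Solvable
import Cfsg.Agent.Lib.PGroup.MaxPNilpotent
import Cfsg.Agent.Lib.PGroup.PSolvable

/-!
# Sylow 2-subgroups with one class of involutions and centre of order two

When only `1` and the central involution `J` commute with all involutions of a Sylow 2-subgroup, and
all of them are conjugate to `J`, the group is not solvable: the involutions lie in `O_2` of the
quotient by the odd core, whose centre is then generated by the image of `J`.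
-/

set_option autoImplicit false

namespace CfsgLib.Block.Tame

open Cfsg

universe u

variable {G : Type u} [Group G]

/-- The hypotheses on the involutions of `D`. -/
structure FusedInvol (D : Subgroup G) (J : G) : Prop where
  mem : J ∈ D
  sq : J * J = 1
  ne_one : J ≠ 1
  central : ∀ x ∈ D, Commute x J
  fused : ∀ x ∈ D, x * x = 1 → x ≠ 1 → ∃ g : G, g * J * g⁻¹ = x
  other : ∃ x ∈ D, x * x = 1 ∧ x ≠ 1 ∧ x ≠ J
  cen : ∀ x ∈ D, (∀ y ∈ D, y * y = 1 → Commute x y) → x = 1 ∨ x = J

theorem FusedInvol.not_isSolvable [Finite G] {J : G} {S : Sylow 2 G}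
    (H : FusedInvol (S : Subgroup G) J) : ¬ Group.IsSolvable G := by
  classical
  intro hsolv
  set D : Subgroup G := (S : Subgroup G) with hD
  haveI : Fact (Nat.Prime 2) := ⟨Nat.prime_two⟩
  set N := Cfsg.pPrimeCore 2 G with hN
  haveI : N.Normal := Subgroup.sSup_normal _ fun _ h => h.1
  set q := QuotientGroup.mk' N with hq
  set W := Cfsg.pCore 2 (G ⧸ N) with hW
  haveI hWn : W.Normal := CfsgLib.Coprime.pCore_normal' 2
  have hinj : ∀ x ∈ D, q x = 1 → x = 1 := by
    intro x hx h1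
    have hxN : x ∈ N := (QuotientGroup.eq_one_iff x).1 h1
    obtain ⟨k, hk⟩ := IsPGroup.iff_orderOf.mp S.2 ⟨x, hx⟩
    rw [Subgroup.orderOf_mk] at hk
    refine orderOf_eq_one_iff.1 (Nat.eq_one_of_dvd_coprimes (a := orderOf x) (b := 2 ^ k) ?_ dvd_rfl
      (by rw [hk]))
    refine Nat.Coprime.pow_right _ ?_
    have h2 : ¬ 2 ∣ orderOf x := fun h3 => CfsgLib.Coprime.pPrimeCore_not_dvd (G := G) Nat.prime_two
      (h3.trans (Subgroup.orderOf_mk x hxN ▸ orderOf_dvd_natCard _))
    exact (Nat.prime_two.coprime_iff_not_dvd.2 h2).symm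
  -- `W` comes from `D`
  have hWD : ∀ w ∈ W, ∃ x ∈ D, q x = w := fun w hw => by
    have h1 := CfsgLib.Coprime.pCore_le_sylow (S.mapSurjective (QuotientGroup.mk'_surjective N)) hw
    rw [Sylow.coe_mapSurjective] at h1
    exact h1
  have hWne : W ≠ ⊥ := by
    intro hW0
    have hS : IsPSolvable 2 (G ⧸ N) := CfsgLib.PGroup.isPSolvable_quotient Nat.prime_two
      (CfsgLib.PGroup.MaxPNilpotent.isPSolvable_of_solvable Nat.prime_two _ G rfl hsolv) N
    have hcen := CfsgLib.Block.centralizer_pCore_le_of_isPSolvable hS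
      (CfsgLib.Coprime.pPrimeCore_quotient_eq_bot Nat.prime_two)
    have h1 : q J ∈ Subgroup.centralizer (W : Set (G ⧸ N)) := Subgroup.mem_centralizer_iff.2 fun w hw => by
      rw [hW0] at hw
      rw [Subgroup.mem_bot.1 hw, one_mul, mul_one]
    have h2 := hcen h1
    rw [← hW, hW0, Subgroup.mem_bot] at h2
    exact H.ne_one (hinj J H.mem h2)
  -- all involutions lie in `W`
  have hinv : ∀ x ∈ D, x * x = 1 → q x ∈ W := by
    obtain ⟨w, hw, hw1⟩ := (Subgroup.bot_or_exists_ne_one W).resolve_left hWne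
    obtain ⟨y, hy, rfl⟩ := hWD w hw
    obtain ⟨k, hk⟩ := IsPGroup.iff_orderOf.mp S.2 ⟨y, hy⟩
    rw [Subgroup.orderOf_mk] at hk
    obtain ⟨j, hj⟩ : ∃ j, k = j + 1 := Nat.exists_eq_succ_of_ne_zero (by
      rintro rfl
      rw [pow_zero, orderOf_eq_one_iff] at hk
      exact hw1 (by rw [hk, map_one]))
    have hz1 : y ^ 2 ^ j ≠ 1 := fun e => by
      have h1 := orderOf_dvd_of_pow_eq_one e
      rw [hk, hj, Nat.pow_dvd_pow_iff_le_right (by norm_num)] at h1
      omega
    have hz2 : y ^ 2 ^ j * y ^ 2 ^ j = 1 := by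
      rw [← pow_add, ← two_mul, ← pow_succ', ← hj, ← hk, pow_orderOf_eq_one]
    obtain ⟨g, hg⟩ := H.fused _ (pow_mem hy _) hz2 hz1
    have hJW : q J ∈ W := by
      have h3 : q (y ^ 2 ^ j) ∈ W := by rw [map_pow]; exact pow_mem hw _
      rw [← hg, map_mul, map_mul, map_inv] at h3
      have h4 := hWn.conj_mem _ h3 (q g)⁻¹
      rwa [show (q g)⁻¹ * (q g * q J * (q g)⁻¹) * (q g)⁻¹⁻¹ = q J by group] at h4
    intro x hx hx2
    by_cases hx1 : x = 1
    · rw [hx1, map_one]; exact W.one_mem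
    obtain ⟨g, rfl⟩ := H.fused x hx hx2 hx1
    rw [map_mul, map_mul, map_inv]
    exact hWn.conj_mem _ hJW _
  -- the image of `J` is central
  have hJc : ∀ g : G, q (g * J * g⁻¹) = q J := by
    intro g
    have hmem : q (g * J * g⁻¹) ∈ W := by
      rw [map_mul, map_mul, map_inv]
      exact hWn.conj_mem _ (hinv J H.mem H.sq) _
    obtain ⟨x, hx, hxe⟩ := hWD _ hmem
    have hxc : ∀ y ∈ D, y * y = 1 → Commute x y := by
      intro y hy hy2
      have h1 := hWn.conj_mem _ (hinv y hy hy2) (q g)⁻¹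
      obtain ⟨v, hv, hve⟩ := hWD _ h1
      have h2 : Commute (q J) (q v) := ((H.central v hv).symm).map q
      rw [hve] at h2
      have h3 : Commute (q x) (q y) := by
        have h4 := h2.map (MulAut.conj (q g)).toMonoidHom
        simp only [MulEquiv.coe_toMonoidHom, MulAut.conj_apply] at h4
        rw [hxe, map_mul, map_mul, map_inv]
        rwa [show q g * ((q g)⁻¹ * q y * (q g)⁻¹⁻¹) * (q g)⁻¹ = q y by group] at h4
      refine mul_inv_eq_iff_eq_mul.1 (mul_inv_eq_one.1 (hinj (x * y * x⁻¹ * y⁻¹)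
        (mul_mem (mul_mem (mul_mem hx hy) (inv_mem hx)) (inv_mem hy)) ?_))
      simp only [map_mul, map_inv]
      rw [h3.eq, mul_inv_cancel_right, mul_inv_cancel]
    rcases H.cen x hx hxc with rfl | rfl
    · exfalso
      refine H.ne_one (hinj J H.mem ?_)
      rw [map_one, map_mul, map_mul, map_inv] at hxe
      exact conj_eq_one_iff.1 hxe.symm
    · exact hxe.symm
  obtain ⟨u, hu, hu2, hu1, huJ⟩ := H.other
  obtain ⟨g, hg⟩ := H.fused u hu hu2 hu1
  refine huJ (mul_inv_eq_one.1 (hinj (u * J⁻¹) (mul_mem hu (inv_mem H.mem)) ?_))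
  rw [map_mul, map_inv, ← hg, hJc, mul_inv_cancel]

/-- No involution is central in the group. -/
theorem FusedInvol.not_mem_center {D : Subgroup G} {J : G} (H : FusedInvol D J) {z : G} (hz : z ∈ D)
    (hz1 : z ≠ 1) : z ∉ Subgroup.center G := by
  intro hc
  rcases H.cen z hz fun y _ _ => (Subgroup.mem_center_iff.1 hc y).symm with rfl | rfl
  · exact hz1 rfl
  · obtain ⟨u, hu, hu2, hu1, huJ⟩ := H.other
    obtain ⟨g, hg⟩ := H.fused u hu hu2 hu1
    refine huJ ?_
    rw [← hg, Subgroup.mem_center_iff.1 hc g, mul_inv_cancel_right]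

end CfsgLib.Block.Tame
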