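import Cfsg.Agent.Lib.Block.Tame.TamePres
import Cfsg.Agent.Lib.Block.Tame.Fusion
import Cfsg.Agent.Lib.Block.Tame.LocalFun
import Cfsg.Agent.Lib.Block.Tame.NilpotentBelow

/-!
# 2-blocks with quaternion or semidihedral defect group: subsections and fusion

Away from the classes of `1` and of the central involution the subsections are nilpotent
(`TFrame.nilpotent_low`), the rotations of order at least four are fused only with their images under
`τ` (`TFrame.fus_rot`), and the classes avoiding the rotations are at most two (`TFrame.outCls`).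
-/

open Finset MonoidAlgebra
open scoped ComplexConjugate

set_option autoImplicit false
set_option linter.unusedSectionVars false

namespace CfsgLib.Block.Tame

open Cfsg CfsgLib CfsgLib.Block
open scoped Pair

universe u

variable {M : Ideal AlgInt} [M.IsMaximal] {G : Type u} [Group G] [Fintype G] [DecidableEq G]

/-- A block with a maximal pair on a quaternion or semidihedral group. -/
structure TFrame (M : Ideal AlgInt) [M.IsMaximal] (B : Set (IrrCharacter G)) (P : Subgroup G)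
    (e : Set (IrrCharacter (CQ P))) (σ τ : G) (h t : ℕ) : Prop where
  hM : IsPModular 2 M
  hmax : IsMaximalBrauerPair 2 M B P e
  pres : TPres P σ τ h t

/-- The centralizer in `P` of one of its elements. -/
abbrev cenIn {P : Subgroup G} (y : P) : Subgroup G := P ⊓ CQ (Subgroup.zpowers (y : G))

namespace TFrame

variable {B : Set (IrrCharacter G)} {P : Subgroup G} {e : Set (IrrCharacter (CQ P))} {σ τ : G}
  {h t : ℕ} (F : TFrame M B P e σ τ h t)
include F

/-- The rotations in `P`. -/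
def rot (l : ℕ) : P := ⟨σ ^ l, pow_mem F.pres.memσ l⟩

/-- The outer elements in `P`. -/
def out (j : ℕ) : P := ⟨τ * σ ^ j, mul_mem F.pres.memτ (pow_mem F.pres.memσ j)⟩

theorem rot_coe (l : ℕ) : ((F.rot l : P) : G) = σ ^ l := rfl

theorem out_coe (j : ℕ) : ((F.out j : P) : G) = τ * σ ^ j := rfl

/-- The fused elements. -/
noncomputable def cls (y : P) : Finset P := fusClass F.hM F.hmax.1.1 y

theorem cases_P (y : P) : ∃ l : ℕ, y = F.rot l ∨ y = F.out l := by
  obtain ⟨l, e | e⟩ := F.pres.cases y.2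
  · exact ⟨l, Or.inl (Subtype.ext e)⟩
  · exact ⟨l, Or.inr (Subtype.ext e)⟩

theorem J_center : F.rot h ∈ Subgroup.center P :=
  Subgroup.mem_center_iff.mpr fun v => Subtype.ext (F.pres.J_comm v.2).eq

theorem self_mem_cls (y : P) : y ∈ F.cls y := self_mem_fusClass F.hM F.hmax.1.1 y

theorem cls_eq {y z : P} (hz : z ∈ F.cls y) : F.cls z = F.cls y :=
  fusClass_eq_of_mem F.hM F.hmax.1.1 hz

theorem mem_cls_symm {y z : P} (hz : z ∈ F.cls y) : y ∈ F.cls z := by
  rw [F.cls_eq hz]
  exact F.self_mem_cls y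

theorem conj_mem_cls (u : P) (y : P) : u * y * u⁻¹ ∈ F.cls y := by
  classical
  simp only [cls, fusClass, Finset.mem_filter, Finset.mem_univ, true_and]
  exact ⟨(u : G), by simp, below_conj F.hM (lowPair_below F.hM F.hmax.1.1 y)
    (cjP_top_of_mem F.hM F.hmax.1.1 u.2)⟩

theorem exists_conj_of_mem {y z : P} (hz : z ∈ F.cls y) : ∃ g : G, g * (y : G) * g⁻¹ = (z : G) := by
  obtain ⟨g, hg, -⟩ := (mem_fusClass F.hM F.hmax.1.1).mp hz
  exact ⟨g, hg⟩

theorem order_eq_of_mem {y z : P} (hz : z ∈ F.cls y) : orderOf (z : G) = orderOf (y : G) := by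
  obtain ⟨g, hg⟩ := F.exists_conj_of_mem hz
  rw [← hg, orderOf_conj_eq]

theorem sq_of_mem {y z : P} (hz : z ∈ F.cls y) :
    (z : G) * (z : G) = 1 ↔ (y : G) * (y : G) = 1 := by
  rw [← pow_two, ← pow_two, ← orderOf_dvd_iff_pow_eq_one, ← orderOf_dvd_iff_pow_eq_one,
    F.order_eq_of_mem hz]

theorem eq_one_of_mem {y z : P} (hz : z ∈ F.cls y) : z = 1 ↔ y = 1 := by
  have h1 := F.order_eq_of_mem hz
  rw [Subgroup.orderOf_coe, Subgroup.orderOf_coe] at h1
  rw [← orderOf_eq_one_iff, ← orderOf_eq_one_iff (x := y), h1]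

theorem rot_mod (l : ℕ) : F.rot (l % (2 * h)) = F.rot l := Subtype.ext (F.pres.pow_mod l)

theorem rot_zero : F.rot 0 = 1 := Subtype.ext (pow_zero σ)

theorem rot_ne_one {l : ℕ} (hl : ¬ h ∣ l) : F.rot l ≠ 1 := fun e => (F.pres.sq_ne_iff l).2 hl (by
  rw [show σ ^ l = 1 from congrArg Subtype.val e, mul_one])

theorem rot_h_ne_one : F.rot h ≠ 1 := fun e => F.pres.sigma_h_ne (congrArg Subtype.val e)

theorem J_not_mem_cls_rot {l : ℕ} (hl : ¬ h ∣ l) : F.rot h ∉ F.cls (F.rot l) := fun hm =>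
  (F.pres.sq_ne_iff l).2 hl ((F.sq_of_mem hm).1 F.pres.sigma_h_sq)

variable [Fintype (IrrCharacter G)]

/-- Nilpotence away from `1` and the class of the central involution. -/
theorem nilpotent_low {y : P} (hy : y ≠ 1) (hJ : F.rot h ∉ F.cls y) :
    IsNilpotentBlock 2 M (lowPair F.hM F.hmax.1.1 y).2 := by
  refine isNilpotentBlock_low_fused F.hM F.hmax y fun S hS u hu hfus g hg hgu hodd => ?_
  refine F.pres.odd_fix hS hu (fun e => hy ((F.eq_one_of_mem hfus).1 (Subtype.ext e))) (fun e => hJ ?_)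
    hg hgu hodd
  rwa [show F.rot h = u from Subtype.ext e.symm]

theorem rank_low {y : P} (hy : y ≠ 1) (hJ : F.rot h ∉ F.cls y) :
    blockRank 2 (lowPair F.hM F.hmax.1.1 y).2 = 1 := by
  have := Fintype.ofFinite (IrrCharacter (CQ (lowPair F.hM F.hmax.1.1 y).1))
  exact (blockRank_eq_one_of_unitRow (by norm_num)
    (isNilpotentBlock_unitRow F.hM (F.nilpotent_low hy hJ))).1

omit [Fintype (IrrCharacter G)] in
theorem mem_cP {y : P} {x : G} : x ∈ cenIn y ↔ x ∈ P ∧ Commute x (y : G) := by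
  rw [cenIn, Subgroup.mem_inf, mem_cq_zpowers_iff]

omit [Fintype (IrrCharacter G)] in
theorem cP_rot {l : ℕ} (hl : ¬ h ∣ l) : cenIn (F.rot l) = Subgroup.zpowers σ := by
  rw [← F.pres.inf_centralizer hl]
  ext x
  rw [F.mem_cP, Subgroup.mem_inf, Subgroup.mem_centralizer_singleton_iff]
  exact Iff.rfl

omit [Fintype (IrrCharacter G)] in
theorem card_cP_rot {l : ℕ} (hl : ¬ h ∣ l) : Nat.card (cenIn (F.rot l)) = 2 * h := by
  rw [F.cP_rot hl, Nat.card_zpowers, F.pres.orderσ]

omit [Fintype (IrrCharacter G)] in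
theorem mem_cP_out {j : ℕ} {x : G} : x ∈ cenIn (F.out j) ↔
    x = 1 ∨ x = σ ^ h ∨ x = τ * σ ^ j ∨ x = τ * σ ^ j * σ ^ h := by
  have hz : τ * σ ^ j ∈ P := mul_mem F.pres.memτ (pow_mem F.pres.memσ j)
  rw [F.mem_cP]
  constructor
  · rintro ⟨hx, hc⟩
    exact F.pres.commute_outer hx hc
  · have hJ : Commute (σ ^ h) (τ * σ ^ j) := (F.pres.J_comm hz).symm
    rintro (rfl | rfl | rfl | rfl)
    · exact ⟨one_mem _, Commute.one_left _⟩
    · exact ⟨pow_mem F.pres.memσ h, hJ⟩
    · exact ⟨hz, Commute.refl _⟩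
    · exact ⟨mul_mem hz (pow_mem F.pres.memσ h), (Commute.refl _).mul_left hJ⟩

omit [Fintype (IrrCharacter G)] in
theorem card_cP_out (j : ℕ) : Nat.card (cenIn (F.out j)) = 4 := by
  classical
  rw [Nat.card_eq_fintype_card, Fintype.card_subtype]
  have h1 : Finset.univ.filter (fun x => x ∈ cenIn (F.out j)) =
      {1, σ ^ h, τ * σ ^ j, τ * σ ^ j * σ ^ h} := by
    ext x
    simp [F.mem_cP_out]
  have n1 : (1 : G) ≠ σ ^ h := F.pres.sigma_h_ne.symm
  have n2 : (1 : G) ≠ τ * σ ^ j := fun e => F.pres.refl_not_rot j 0 (by rw [pow_zero, ← e])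
  have n3 : (1 : G) ≠ τ * σ ^ j * σ ^ h := fun e => F.pres.refl_not_rot (j + h) 0 (by
    rw [pow_zero, pow_add, ← mul_assoc, ← e])
  have n4 : σ ^ h ≠ τ * σ ^ j := fun e => F.pres.refl_not_rot j h e.symm
  have n5 : σ ^ h ≠ τ * σ ^ j * σ ^ h := fun e => n2 (mul_right_cancel (by rw [one_mul]; exact e))
  have n6 : τ * σ ^ j ≠ τ * σ ^ j * σ ^ h := fun e => n1 (mul_left_cancel (by rw [mul_one]; exact e))
  rw [h1, Finset.card_insert_of_notMem (by simp [n1, n2, n3]),
    Finset.card_insert_of_notMem (by simp [n4, n5]), Finset.card_pair n6]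

omit [Fintype (IrrCharacter G)] in
theorem card_cP_le {u : P} (hu : u ≠ 1) (huJ : u ≠ F.rot h) : Nat.card (cenIn u) ≤ 2 * h := by
  obtain ⟨l, rfl | rfl⟩ := F.cases_P u
  · refine (F.card_cP_rot fun hd => huJ ?_).le
    exact Subtype.ext (F.pres.eq_J (fun e => hu (Subtype.ext e)) hd)
  · rw [F.card_cP_out]
    have := F.pres.two_le
    omega

/-- A fully centralized element carries the defect group of its subsection. -/
theorem defect_low {y : P} (hfull : ∀ u ∈ F.cls y, Nat.card (cenIn u) ≤ Nat.card (cenIn y)) :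
    IsDefectGroup 2 M (lowPair F.hM F.hmax.1.1 y).2
      ((P ⊓ CQ (lowPair F.hM F.hmax.1.1 y).1).subgroupOf (CQ (lowPair F.hM F.hmax.1.1 y).1)) := by
  classical
  obtain ⟨b, hb⟩ := exists_eq_pairMk (a := lowPair F.hM F.hmax.1.1 y)
    (Q := Subgroup.zpowers (y : G)) rfl
  have hle := lowPair_below F.hM F.hmax.1.1 y
  rw [hb] at hle ⊢
  dsimp only
  have := Fintype.ofFinite (IrrCharacter (CQ (Subgroup.zpowers (y : G))))
  have hpair := isBrauerPair_of_below F.hM F.hmax.1.1 hle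
  have hLC := isLocalBlock_self (M := M) (Q := Subgroup.zpowers (y : G)) hpair.2
  obtain ⟨D, hD⟩ := exists_defectGroup F.hM hLC.block
  refine isDefectGroup_of_conjLE_card F.hM hpair.2 hD (hLC.inf_conjLE F.hM hpair F.hmax.1.1 hle hD) ?_
  obtain ⟨x, hx, hDx⟩ := hLC.exists_conj_le F.hM hpair F.hmax hle hD
  have hxmem : x * (y : G) * x⁻¹ ∈ P :=
    SubpairLE.le hx (conj_mem_cjS.mpr (Subgroup.mem_zpowers _))
  have hfus : (⟨_, hxmem⟩ : P) ∈ F.cls y := by
    simp only [cls, fusClass, Finset.mem_filter, Finset.mem_univ, true_and]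
    exact ⟨x, rfl, by rw [hb]; exact hx⟩
  have hle2 : cjS x (D.map (CQ (Subgroup.zpowers (y : G))).subtype) ≤ cenIn (⟨_, hxmem⟩ : P) := by
    intro v hv
    refine F.mem_cP.2 ⟨hDx hv, ?_⟩
    obtain ⟨d, hd, rfl⟩ := hv
    have hc : Commute d (y : G) := mem_cq_zpowers_iff.mp (Subgroup.map_subtype_le D hd)
    exact hc.map (MulAut.conj x).toMonoidHom
  have h2 := (Subgroup.card_le_of_le hle2).trans (hfull _ hfus)
  rw [card_cjS, Subgroup.card_map_of_injective Subtype.val_injective] at h2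
  refine h2.trans ?_
  rw [card_subgroupOf_inf]

theorem defect_rot {l : ℕ} (hl : ¬ h ∣ l) :
    IsDefectGroup 2 M (lowPair F.hM F.hmax.1.1 (F.rot l)).2
      ((P ⊓ CQ (lowPair F.hM F.hmax.1.1 (F.rot l)).1).subgroupOf
        (CQ (lowPair F.hM F.hmax.1.1 (F.rot l)).1)) := by
  refine F.defect_low fun u hu => ?_
  rw [F.card_cP_rot hl]
  refine F.card_cP_le (fun e => F.rot_ne_one hl ((F.eq_one_of_mem hu).1 e)) fun e => ?_
  exact F.J_not_mem_cls_rot hl (e ▸ hu)

/-- The rotations fused to a rotation of order at least four. -/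
theorem fus_rot {l m : ℕ} (hl : ¬ h ∣ l) (hm : F.rot m ∈ F.cls (F.rot l)) :
    σ ^ m = σ ^ l ∨ σ ^ m = σ ^ (t * l) := by
  have hmh : ¬ h ∣ m := by
    refine (F.pres.sq_ne_iff m).1 fun e => ?_
    exact (F.pres.sq_ne_iff l).2 hl ((F.sq_of_mem hm).1 e)
  by_cases h4 : 4 ≤ h
  · obtain ⟨u, hu, hu'⟩ := exists_conj_of_fused F.hM F.hmax
      (fun v hv _ hodd => F.pres.odd_normalizer h4 hv hodd) hm (F.defect_rot hmh) fun v hv => by
        obtain ⟨j, rfl | rfl⟩ := F.pres.cases hv
        · exact ⟨1, one_mem _, 1, by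
            simp [rot_coe, (Commute.pow_pow_self σ j l).eq, mul_assoc],
            by simp⟩
        · exact ⟨τ, F.pres.memτ, (t : ℤ), by
            rw [rot_coe, F.pres.conjτσ, zpow_natCast, ← pow_mul, mul_comm],
            by rw [rot_coe, F.pres.conjτ, zpow_natCast, ← pow_mul, mul_comm]⟩
    obtain ⟨j, rfl | rfl⟩ := F.pres.cases hu
    · left
      rw [← F.rot_coe m, ← hu', rot_coe, (Commute.pow_pow_self σ j l).eq, mul_inv_cancel_right]
    · right
      rw [← F.rot_coe m, ← hu', rot_coe, F.pres.conjτσ]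
  · obtain ⟨k, hk, hkh⟩ := F.pres.pow2
    have hh : h = 2 := by
      have := F.pres.two_le
      rcases Nat.lt_or_ge k 2 with hk2 | hk2
      · rw [hkh, show k = 1 by omega, pow_one]
      · have := Nat.pow_le_pow_right two_pos hk2
        omega
    have h3 : ∀ a : ℕ, ¬ h ∣ a → σ ^ a = σ ^ 1 ∨ σ ^ a = σ ^ 3 := fun a ha => by
      have h1 := F.pres.pow_mod a
      rw [hh] at ha h1
      rcases (show a % (2 * 2) = 1 ∨ a % (2 * 2) = 3 by omega) with e | e <;> rw [e] at h1
      · exact Or.inl h1.symm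
      · exact Or.inr h1.symm
    have htl : ¬ h ∣ t * l := F.pres.not_dvd_mul hl
    have hne : σ ^ (t * l) ≠ σ ^ l := fun e => hl (F.pres.dvd_of_mul (by
      have := F.pres.pow_congr.1 e
      rwa [Nat.cast_mul] at this))
    rcases h3 m hmh with e | e <;> rcases h3 l hl with e' | e' <;> rcases h3 _ htl with e'' | e'' <;>
      first
      | exact Or.inl (e.trans e'.symm)
      | exact Or.inr (e.trans e''.symm)
      | exact absurd (e''.trans e'.symm) hne

omit [Fintype (IrrCharacter G)] in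
theorem tau_conj_rot (l : ℕ) : F.rot (t * l) ∈ F.cls (F.rot l) := by
  have h1 := F.conj_mem_cls (F.out 0) (F.rot l)
  convert h1 using 1
  refine Subtype.ext ?_
  show σ ^ (t * l) = τ * σ ^ 0 * σ ^ l * (τ * σ ^ 0)⁻¹
  rw [F.pres.conjτσ]

/-- A nilpotent local setup at a fully centralized element away from `1` and the class of the
central involution. -/
theorem exists_setup {y : P} (hy : y ≠ 1) (hJ : F.rot h ∉ F.cls y)
    (hfull : ∀ u ∈ F.cls y, Nat.card (cenIn u) ≤ Nat.card (cenIn y)) {R : Subgroup G} (hR : cenIn y = R) :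
    ∃ (f : Set (IrrCharacter (CQ (Subgroup.zpowers (y : G))))) (eR : Set (IrrCharacter (CQ R))),
      lowPair F.hM F.hmax.1.1 y = ⟨Subgroup.zpowers (y : G), f⟩ ∧
        Setup 2 M B P e (Subgroup.zpowers (y : G)) R f eR := by
  classical
  obtain ⟨f, hf⟩ := exists_eq_pairMk (a := lowPair F.hM F.hmax.1.1 y)
    (Q := Subgroup.zpowers (y : G)) rfl
  have hle := lowPair_below F.hM F.hmax.1.1 y
  have hnil := F.nilpotent_low hy hJ
  have hdef := F.defect_low hfull
  rw [hf] at hle hnil hdef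
  dsimp only at hnil hdef
  subst hR
  have hQR : Subgroup.zpowers (y : G) ≤ cenIn y :=
    le_inf (Subgroup.zpowers_le.2 y.2) (Subgroup.zpowers_le.2 (mem_cq_zpowers_iff.2 (Commute.refl _)))
  obtain ⟨g, hg, hgP⟩ := SubpairLE.exists_nSub_mid F.hM F.hmax.1.1
    (hle : SubpairLE 2 M _ f P e) hQR inf_le_left
    (inf_le_right.trans (centralizer_le_normalizer' _))
  exact ⟨f, g, hf, F.hM, F.hmax, hgP, hg, inf_le_right, hdef, hnil⟩

open scoped Classical in
/-- The elements whose classes avoid `1`, the central involution and the other rotations. -/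
noncomputable def free : Finset P :=
  Finset.univ.filter fun y => y ≠ 1 ∧ F.rot h ∉ F.cls y ∧ ∀ l : ℕ, ¬ h ∣ l → F.rot l ∉ F.cls y

/-- The classes avoiding `1`, the central involution and the other rotations. -/
noncomputable def outCls : Finset (Finset P) := by
  classical
  exact F.free.image F.cls

omit [Fintype (IrrCharacter G)] in
theorem mem_free {y : P} : y ∈ F.free ↔
    y ≠ 1 ∧ F.rot h ∉ F.cls y ∧ ∀ l : ℕ, ¬ h ∣ l → F.rot l ∉ F.cls y := by
  simp [free]

omit [Fintype (IrrCharacter G)] in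
theorem free_out {y : P} (hy : y ∈ F.free) : ∃ j, y = F.out j := by
  obtain ⟨h1, h2, h3⟩ := F.mem_free.1 hy
  obtain ⟨l, rfl | rfl⟩ := F.cases_P y
  · exfalso
    by_cases hd : h ∣ l
    · exact h2 ((Subtype.ext (F.pres.eq_J (fun e => h1 (Subtype.ext e)) hd).symm : F.rot h = F.rot l) ▸
        F.self_mem_cls _)
    · exact h3 l hd (F.self_mem_cls _)
  · exact ⟨l, rfl⟩

omit [Fintype (IrrCharacter G)] in
theorem free_closed {y z : P} (hy : y ∈ F.free) (hz : z ∈ F.cls y) : z ∈ F.free := by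
  obtain ⟨h1, h2, h3⟩ := F.mem_free.1 hy
  rw [F.mem_free, F.cls_eq hz]
  exact ⟨fun e => h1 ((F.eq_one_of_mem hz).1 e), h2, h3⟩

omit [Fintype (IrrCharacter G)] in
/-- The outer elements of equal parity are conjugate in `P`. -/
theorem out_parity {i j : ℕ} (hij : i % 2 = j % 2) : F.cls (F.out i) = F.cls (F.out j) := by
  classical
  obtain ⟨m, hm, hmo⟩ := F.pres.exists_half
  obtain ⟨q, hq⟩ : ∃ q : ℕ, ((j : ZMod (2 * h)) + 2 * m * q) = i := by
    obtain ⟨k, -, hk⟩ := F.pres.pow2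
    have hu : IsUnit ((m : ZMod (2 * h))) := by
      rw [ZMod.isUnit_iff_coprime, hk, ← pow_succ']
      exact Nat.Coprime.pow_right _ (Nat.coprime_two_right.2 hmo)
    obtain ⟨d, hd⟩ : ∃ d : ZMod (2 * h), (i : ZMod (2 * h)) - j = 2 * d := by
      rcases Nat.even_or_odd' i with ⟨a, rfl | rfl⟩ <;> rcases Nat.even_or_odd' j with ⟨b, rfl | rfl⟩ <;>
        first
        | omega
        | exact ⟨(a : ZMod (2 * h)) - b, by push_cast; ring⟩
    haveI : NeZero (2 * h) := ⟨by have := F.pres.two_le; omega⟩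
    refine ⟨((↑hu.unit⁻¹ : ZMod (2 * h)) * d).val, ?_⟩
    rw [ZMod.natCast_zmod_val]
    have h1 := hu.mul_val_inv
    linear_combination (-1 : ZMod (2 * h)) * hd + 2 * d * h1
  refine F.cls_eq ?_
  have h1 := F.conj_mem_cls (F.rot q) (F.out j)
  convert h1 using 1
  refine Subtype.ext ?_
  show τ * σ ^ i = σ ^ q * (τ * σ ^ j) * (σ ^ q)⁻¹
  refine eq_mul_inv_iff_mul_eq.2 ?_
  have h2 : σ ^ q * τ = τ * σ ^ (t * q) := by
    have e : τ * σ ^ (t * q) * τ⁻¹ = σ ^ (t * (t * q)) := F.pres.conjτ _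
    have e2 : σ ^ (t * (t * q)) = σ ^ q := F.pres.pow_congr.2 (by
      push_cast
      rw [← mul_assoc, F.pres.t_mul_self, one_mul])
    rw [e2] at e
    rw [← e, inv_mul_cancel_right]
  rw [← mul_assoc (σ ^ q), h2, mul_assoc, mul_assoc, ← pow_add, ← pow_add]
  congr 1
  refine F.pres.pow_congr.2 ?_
  rw [hm]
  push_cast
  linear_combination (-1 : ZMod (2 * h)) * hq

omit [Fintype (IrrCharacter G)] in
theorem outCls_subset : F.outCls ⊆ {F.cls (F.out 0), F.cls (F.out 1)} := by
  classical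
  intro K hK
  simp only [outCls, Finset.mem_image] at hK
  obtain ⟨y, hy, rfl⟩ := hK
  obtain ⟨j, rfl⟩ := F.free_out hy
  simp only [Finset.mem_insert, Finset.mem_singleton]
  rcases Nat.mod_two_eq_zero_or_one j with e | e
  · exact Or.inl (F.out_parity (by omega))
  · exact Or.inr (F.out_parity (by omega))

omit [Fintype (IrrCharacter G)] in
theorem card_outCls_le : F.outCls.card ≤ 2 :=
  (Finset.card_le_card F.outCls_subset).trans Finset.card_le_two

omit [Fintype (IrrCharacter G)] in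
theorem mem_outCls {y : P} (hy : y ∈ F.free) : F.cls y ∈ F.outCls := by
  classical
  simp only [outCls, Finset.mem_image]
  exact ⟨y, hy, rfl⟩

end TFrame

end CfsgLib.Block.Tame
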