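import Cfsg.Agent.Lib.Block.Tame.TameBlock

/-!
# 2-blocks with quaternion or semidihedral defect group: counting the outer classes

The number of the classes avoiding the rotations depends only on the two representatives `τ` and
`τ * σ` (`TFrame.card_outCls`); in the semidihedral case these two are not fused.
-/

open Finset

set_option autoImplicit false
set_option linter.unusedSectionVars false

namespace CfsgLib.Block.Tame

open Cfsg CfsgLib CfsgLib.Block
open scoped Pair

universe u

variable {M : Ideal AlgInt} [M.IsMaximal] {G : Type u} [Group G] [Fintype G] [DecidableEq G]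
  {B : Set (IrrCharacter G)} {P : Subgroup G} {e : Set (IrrCharacter (CQ P))}

namespace TFrame

variable {σ τ : G} {h t : ℕ} (F : TFrame M B P e σ τ h t)
include F

open scoped Classical in
theorem card_outCls : F.outCls.card =
    if F.out 0 ∈ F.free then (if F.out 1 ∈ F.free ∧ F.out 1 ∉ F.cls (F.out 0) then 2 else 1)
    else (if F.out 1 ∈ F.free then 1 else 0) := by
  have hset : F.outCls = ((({0, 1} : Finset ℕ)).filter fun j => F.out j ∈ F.free).image
      fun j => F.cls (F.out j) := by
    ext K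
    simp only [Finset.mem_image, Finset.mem_filter, Finset.mem_insert, Finset.mem_singleton]
    constructor
    · intro hK
      simp only [outCls, Finset.mem_image] at hK
      obtain ⟨y, hy, rfl⟩ := hK
      obtain ⟨j, rfl⟩ := F.free_out hy
      have hp : F.cls (F.out (j % 2)) = F.cls (F.out j) := F.out_parity (Nat.mod_mod _ _)
      exact ⟨j % 2, ⟨by omega, F.free_closed hy (hp ▸ F.self_mem_cls _)⟩, hp⟩
    · rintro ⟨j, ⟨-, hj⟩, rfl⟩
      exact F.mem_outCls hj
  have hne : F.out 1 ∉ F.cls (F.out 0) ↔ F.cls (F.out 0) ≠ F.cls (F.out 1) :=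
    ⟨fun hn e0 => hn (e0 ▸ F.self_mem_cls _), fun hn hm => hn (F.cls_eq hm).symm⟩
  rw [hset, Finset.filter_insert, Finset.filter_singleton]
  split_ifs with h0 h1 h2 h2 h1 <;> simp_all

/-- The squares of the representatives: both `J` for a quaternion group. -/
theorem out_sq_quaternion (hq : τ * τ = σ ^ h) (j : ℕ) :
    ((F.out j : P) : G) * (F.out j : P) = σ ^ h := by
  rcases F.pres.outer_sq j with e0 | e0
  · exfalso
    have e1 : τ * σ ^ j * (τ * σ ^ j) = σ ^ (t * j) * (τ * τ) * σ ^ j := by
      rw [← F.pres.conjτ]; group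
    rcases F.pres.kind with ⟨-, e2⟩ | ⟨e2, -, -⟩
    · rw [e1, hq, ← pow_add, ← pow_add, show t * j + h + j = h + (t + 1) * j by ring, e2, pow_add,
        F.pres.pow_eq_one.2 (dvd_mul_right _ j), mul_one] at e0
      exact F.pres.sigma_h_ne e0
    · exact F.pres.sigma_h_ne (hq.symm.trans e2)
  · exact e0

theorem out_zero_sq (hsd : τ * τ = 1) : ((F.out 0 : P) : G) * (F.out 0 : P) = 1 := by
  rw [out_coe, pow_zero, mul_one, hsd]

theorem out_one_sq (hsd : τ * τ = 1) : ((F.out 1 : P) : G) * (F.out 1 : P) = σ ^ h := by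
  rw [out_coe, pow_one, show τ * σ * (τ * σ) = τ * σ * τ⁻¹ * (τ * τ) * σ by group, F.pres.rel, hsd,
    mul_one, ← pow_succ]
  rcases F.pres.kind with ⟨e2, -⟩ | ⟨-, e2, -⟩
  · exact absurd (e2.symm.trans hsd) F.pres.sigma_h_ne
  · rw [e2]

theorem out_one_not_mem (hsd : τ * τ = 1) : F.out 1 ∉ F.cls (F.out 0) := fun hm => by
  have h1 := (F.sq_of_mem hm).2 (F.out_zero_sq hsd)
  rw [F.out_one_sq hsd] at h1
  exact F.pres.sigma_h_ne h1

/-- An involution outside the rotations is fused with no rotation of order at least four. -/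
theorem out_zero_free_iff (hsd : τ * τ = 1) : F.out 0 ∈ F.free ↔ F.rot h ∉ F.cls (F.out 0) := by
  rw [F.mem_free]
  refine ⟨fun hy => hy.2.1, fun hy => ⟨fun e0 => ?_, hy, fun l hl hm => ?_⟩⟩
  · have e1 : τ * σ ^ 0 = σ ^ 0 := by rw [← F.out_coe, e0, pow_zero, OneMemClass.coe_one]
    exact F.pres.refl_not_rot 0 0 e1
  · exact (F.pres.sq_ne_iff l).2 hl ((F.sq_of_mem hm).2 (F.out_zero_sq hsd))

end TFrame

end CfsgLib.Block.Tame
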