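import Cfsg.Agent.Lib.Block.Tame.TameRows
import Cfsg.Agent.Lib.Block.Tame.TameClasses

/-!
# 2-blocks with quaternion or semidihedral defect group: a central involution

With `J` central in the group the contributions at `1` and at `J` differ by signs only, so the
2-rank and the number of outer classes add up to three (`TFrame.rank_of_central`).
-/

open Finset MonoidAlgebra
open scoped ComplexConjugate

set_option autoImplicit false
set_option linter.unusedSectionVars false

namespace CfsgLib.Block.Tame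

open Cfsg CfsgLib CfsgLib.Block CfsgLib.Block.CyclicDefect
open scoped Pair

universe u

variable {M : Ideal AlgInt} [M.IsMaximal] {G : Type u} [Group G] [Fintype G] [DecidableEq G]
  [Fintype (IrrCharacter G)] {B : Set (IrrCharacter G)} {P : Subgroup G}
  {e : Set (IrrCharacter (CQ P))}

namespace TFrame

variable {σ τ : G} {h t : ℕ} (F : TFrame M B P e σ τ h t)
include F

open scoped Classical in
theorem rank_of_central (hc : ∀ g : G, Commute g (σ ^ h)) :
    blockRank 2 B + F.outCls.card = 3 := by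
  obtain ⟨k, hk0, hk⟩ := F.pres.pow2
  obtain ⟨r, R, A, A', S, Ue, Uo, V, hA, hA', -, -, -⟩ := F.exists_rows hk
  have hmem : ∀ i : ↥(Finset.univ.filter fun χ : IrrCharacter G => χ ∈ B), (i : IrrCharacter G) ∈ B :=
    fun i => (Finset.mem_filter.mp i.2).2
  have hlow : ∀ y : P, (lowPair F.hM F.hmax.1.1 y).1 = Subgroup.zpowers (y : G) ∧
      Below 2 M P e (lowPair F.hM F.hmax.1.1 y) :=
    fun y => ⟨lowPair_fst F.hM F.hmax.1.1 y, lowPair_below F.hM F.hmax.1.1 y⟩
  have hJ2 : (σ ^ h) ^ 2 = 1 := by rw [pow_two]; exact F.pres.sigma_h_sq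
  have hsgn : ∀ χ : IrrCharacter G, ∃ s : ℤ, (s = 1 ∨ s = -1) ∧
      ∀ u : G, (χ : G → ℂ) (σ ^ h * u) = (s : ℂ) * (χ : G → ℂ) u := by
    intro χ
    obtain ⟨l, hl, hlu⟩ := exists_central_scalar χ (z := σ ^ h) (fun u => (hc u).symm) hJ2
    rcases mul_self_eq_one_iff.1 ((pow_two l).symm.trans hl) with e0 | e0
    · exact ⟨1, Or.inl rfl, fun u => by rw [hlu, e0, Int.cast_one]⟩
    · exact ⟨-1, Or.inr rfl, fun u => by rw [hlu, e0]; simp⟩
  have hprod : ∀ i j, ∃ s : ℤ, (s = 1 ∨ s = -1) ∧ A' i j = s * A i j ∧ (i = j → s = 1) := by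
    intro i j
    obtain ⟨a, ha, hau⟩ := hsgn (i : IrrCharacter G)
    obtain ⟨b, hb, hbu⟩ := hsgn (j : IrrCharacter G)
    have h1 := contrib_central F.hM F.hmax (lowPair F.hM F.hmax.1.1) hlow 1
      (fun u => by rw [OneMemClass.coe_one]; exact Commute.one_right u) (hmem i) (hmem j)
      (l := 1) (l' := 1) (fun u => by rw [OneMemClass.coe_one, one_mul, one_mul])
      (fun u => by rw [OneMemClass.coe_one, one_mul, one_mul])
    have h2 := contrib_central F.hM F.hmax (lowPair F.hM F.hmax.1.1) hlow (F.rot h)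
      (fun u => hc u) (hmem i) (hmem j) hau hbu
    rw [hA i j] at h1
    rw [hA' i j] at h2
    refine ⟨a * b, ?_, ?_, ?_⟩
    · rcases ha with rfl | rfl <;> rcases hb with rfl | rfl <;> simp
    · refine Int.cast_injective (α := ℂ) ?_
      push_cast
      rw [h1, h2, map_intCast, map_one]
      ring
    · rintro rfl
      obtain ⟨x, hx⟩ : ∃ x : G, ((i : IrrCharacter G) : G → ℂ) x ≠ 0 := ⟨1, Char.irr_one_ne_zero _⟩
      have hab : (a : ℂ) = b := mul_right_cancel₀ hx ((hau x).symm.trans (hbu x))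
      obtain rfl : a = b := Int.cast_injective hab
      rcases ha with rfl | rfl <;> rfl
  have heq : ∀ a ∈ S, A' a a = A a a := fun a _ => by
    obtain ⟨s, -, hs, hs1⟩ := hprod a a
    rw [hs, hs1 rfl, one_mul]
  have hsq : ∀ a ∈ S, ∀ i ∈ S.erase a ∪ Ue, A' a i * A' a i = A a i * A a i := fun a _ i _ => by
    obtain ⟨s, hs0, hs, -⟩ := hprod a i
    rw [hs]
    rcases hs0 with rfl | rfl <;> ring
  have hll := V.rank_eq heq
  have hm := F.card_outCls_le
  rcases (show F.outCls.card = 0 ∨ F.outCls.card = 1 ∨ F.outCls.card = 2 by omega) with e0 | e0 | e0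
  · have := V.local_zero heq e0 hsq
    omega
  · have := (V.local_one heq e0).1
    omega
  · have := V.local_two heq e0
    omega

end TFrame

end CfsgLib.Block.Tame
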