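import Cfsg.Agent.Lib.Block.Tame.DihedralConfig

/-!
# The vectors of a block with quaternion or semidihedral defect group

For `h = 2 * n + 2` the block has even vectors `wh`, `w j` with the products of the dihedral case and
odd vectors `u j` of square length two with mutual products one, orthogonal to the even ones.
The even vectors have the common shape or one of two special shapes with `n = 3` (`even_cases`), the
odd ones a common entry (`odd_cases`).
-/

open Finset

set_option autoImplicit false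
set_option linter.unusedSectionVars false

namespace CfsgLib.Block.Tame.TameConfig

open Config

variable {ι : Type*} [Fintype ι] [DecidableEq ι]

/-- The equations of the two special shapes. -/
def IsExc (wh : ι → ℤ) (w : Fin 3 → ι → ℤ) (d : ι → ℤ) : Prop :=
  ∃ i₀ : ι, wh i₀ ≠ 0 ∧ (fJ wh w i₀ = 1 ∨ fJ wh w i₀ = -1) ∧
    ∑ i, (fJ wh w i : ℚ) * (w 0 i - w 2 i) * wh i / d i = 0 ∧
    ((3 * d i₀ : ℚ) * ∑ i, (fJ wh w i : ℚ) * (2 * (w 0 i - w 2 i) ^ 2 + (wh i : ℚ) ^ 2) / d i = 8 ∨
      (3 * d i₀ : ℚ) * ∑ i, (fJ wh w i : ℚ) * (2 * (w 0 i - w 2 i) ^ 2 + (wh i : ℚ) ^ 2) / d i = -8)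

/-- The special equations on a support. -/
theorem isExc_of_support (wh : ι → ℤ) (w : Fin 3 → ι → ℤ) (d : ι → ℤ) (T : Finset ι)
    (hh : ∀ i ∉ T, wh i = 0) (hw : ∀ i ∉ T, ∀ j, w j i = 0)
    (h : IsSpecial (fun i : T => wh i) (fun j (i : T) => w j i) fun i : T => d i) : IsExc wh w d := by
  obtain ⟨i₀, h1, -, h2, h3⟩ := h
  have hfJ : ∀ i : T, fJ (fun i : T => wh i) (fun j (i : T) => w j i) i = fJ wh w i := fun i => rfl
  have hf0 : ∀ i ∉ T, fJ wh w i = 0 := fun i hi => by simp [fJ, hh i hi, hw i hi]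
  have hsum : ∀ F : ι → ℚ, (∀ i ∉ T, F i = 0) → ∑ i, F i = ∑ i : T, F i := fun F hF => by
    rw [Finset.sum_coe_sort T F]
    exact (Finset.sum_subset (Finset.subset_univ _) fun i _ hi => hF i hi).symm
  refine ⟨i₀, fun e => ?_, h1, ?_, ?_⟩
  · rw [hfJ, fJ, e] at h1
    omega
  · rw [hsum _ fun i hi => by simp [hf0 i hi]]
    simpa only [hfJ] using h2
  · rw [hsum _ fun i hi => by simp [hf0 i hi]]
    simpa only [hfJ] using h3

/-- A vector of square length two. -/
theorem exists_duo (v : ι → ℤ) (h : ∑ i, v i * v i = 2) :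
    ∃ T : Finset ι, T.card = 2 ∧ (∀ i ∈ T, v i = 1 ∨ v i = -1) ∧ ∀ i ∉ T, v i = 0 := by
  have hs : ∀ i, v i = 1 ∨ v i = -1 ∨ v i = 0 := fun i => small_of_sq
    ((Finset.single_le_sum (fun j _ => mul_self_nonneg (v j)) (Finset.mem_univ i)).trans h.le)
      (by norm_num)
  refine ⟨Finset.univ.filter (v · ≠ 0), ?_, fun i hi => ?_, fun i hi => by simpa using hi⟩
  · have hterm : ∀ i, v i * v i = if v i ≠ 0 then 1 else 0 := fun i => by
      rcases hs i with e | e | e <;> simp [e]
    rw [Finset.sum_congr rfl fun i _ => hterm i, Finset.sum_boole] at h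
    exact_mod_cast h
  · have := hs i
    have h3 : v i ≠ 0 := by simpa using hi
    tauto

/-- Two vectors of square length two with product one share one entry. -/
theorem meet_one (v v' : ι → ℤ) (T U : Finset ι) (hTc : T.card = 2)
    (hT : ∀ i ∈ T, v i = 1 ∨ v i = -1) (hT0 : ∀ i ∉ T, v i = 0)
    (hU : ∀ i ∈ U, v' i = 1 ∨ v' i = -1) (hU0 : ∀ i ∉ U, v' i = 0) (h : ∑ i, v i * v' i = 1) :
    ∃ a b, a ≠ b ∧ T = {a, b} ∧ a ∈ U ∧ b ∉ U ∧ v' a = v a := by
  obtain ⟨x, y, hxy, rfl⟩ := Finset.card_eq_two.1 hTc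
  rw [sum_on hT0, Finset.sum_pair hxy] at h
  have key : ∀ i ∈ ({x, y} : Finset ι),
      (i ∈ U ∧ v' i = v i ∧ v i * v' i = 1) ∨ (i ∈ U ∧ v i * v' i = -1) ∨
        (i ∉ U ∧ v i * v' i = 0) := by
    intro i hi
    by_cases hiU : i ∈ U
    · rcases hT i hi with e | e <;> rcases hU i hiU with e' | e' <;> simp [e, e', hiU]
    · exact Or.inr (Or.inr ⟨hiU, by rw [hU0 i hiU, mul_zero]⟩)
  rcases key x (by simp) with ⟨a1, a2, a3⟩ | ⟨a1, a3⟩ | ⟨a1, a3⟩ <;>
    rcases key y (by simp) with ⟨b1, b2, b3⟩ | ⟨b1, b3⟩ | ⟨b1, b3⟩ <;>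
      first
      | omega
      | exact ⟨x, y, hxy, rfl, a1, b1, a2⟩
      | exact ⟨y, x, hxy.symm, Finset.pair_comm x y, b1, a1, b2⟩

theorem eq_pair_of_mem {T : Finset ι} (h : T.card = 2) {a b : ι} (ha : a ∈ T) (hb : b ∈ T)
    (hab : a ≠ b) : T = {a, b} := by
  refine (Finset.eq_of_subset_of_card_le ?_ ?_).symm
  · simp [Finset.insert_subset_iff, ha, hb]
  · rw [h, Finset.card_pair hab]

/-- Pairwise meeting two-element sets: a common element, or a triangle. -/
theorem pairs_cases {n : ℕ} (hn : 1 < n) (T : Fin n → Finset ι) (hTc : ∀ j, (T j).card = 2)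
    (hone : ∀ j k, j ≠ k → (T j ∩ T k).card = 1) :
    (∃ r, ∀ j, r ∈ T j) ∨ (n = 3 ∧ ∀ j₀ j₁ j₂ : Fin n, j₀ ≠ j₁ → j₀ ≠ j₂ → j₁ ≠ j₂ →
      ∃ a b c, a ≠ b ∧ a ≠ c ∧ b ≠ c ∧ T j₀ = {a, b} ∧ T j₁ = {a, c} ∧ T j₂ = {b, c}) := by
  by_cases hcom : ∃ r, ∀ j, r ∈ T j
  · exact Or.inl hcom
  refine Or.inr ?_
  push Not at hcom
  have htri : ∀ j₀ j₁ : Fin n, j₀ ≠ j₁ → ∀ r, r ∈ T j₀ → r ∈ T j₁ → ∀ m, r ∉ T m →
      ∃ b c, r ≠ b ∧ r ≠ c ∧ b ≠ c ∧ T j₀ = {r, b} ∧ T j₁ = {r, c} ∧ T m = {b, c} := by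
    intro j₀ j₁ h01 r h0 h1 m hm
    obtain ⟨b, hb⟩ := Finset.card_eq_one.1 (hone j₀ m fun e => hm (e ▸ h0))
    obtain ⟨c, hc⟩ := Finset.card_eq_one.1 (hone j₁ m fun e => hm (e ▸ h1))
    have hbm : b ∈ T j₀ ∩ T m := by simp [hb]
    have hcm : c ∈ T j₁ ∩ T m := by simp [hc]
    rw [Finset.mem_inter] at hbm hcm
    have hrb : r ≠ b := fun e => hm (e ▸ hbm.2)
    have hrc : r ≠ c := fun e => hm (e ▸ hcm.2)
    have hbc : b ≠ c := by
      rintro rfl
      have h2 : ({r, b} : Finset ι) ⊆ T j₀ ∩ T j₁ := by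
        simp [Finset.insert_subset_iff, h0, h1, hbm.1, hcm.1]
      have := Finset.card_le_card h2
      rw [hone j₀ j₁ h01, Finset.card_pair hrb] at this
      omega
    exact ⟨b, c, hrb, hrc, hbc, eq_pair_of_mem (hTc _) h0 hbm.1 hrb,
      eq_pair_of_mem (hTc _) h1 hcm.1 hrc, eq_pair_of_mem (hTc _) hbm.2 hcm.2 hbc⟩
  let i₀ : Fin n := ⟨0, by omega⟩
  let i₁ : Fin n := ⟨1, hn⟩
  have h01 : i₀ ≠ i₁ := fun e => by have := congrArg Fin.val e; simp [i₀, i₁] at this
  obtain ⟨r, hr⟩ := Finset.card_eq_one.1 (hone i₀ i₁ h01)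
  have hrm : r ∈ T i₀ ∩ T i₁ := by simp [hr]
  rw [Finset.mem_inter] at hrm
  obtain ⟨m, hm⟩ := hcom r
  obtain ⟨b, c, hrb, hrc, hbc, e0, e1, em⟩ := htri i₀ i₁ h01 r hrm.1 hrm.2 m hm
  have hall : ∀ k, k = i₀ ∨ k = i₁ ∨ k = m := by
    intro k
    have hinj : ∀ j j', T j = T j' → j = j' := fun j j' e => by
      by_contra hne
      have := hone j j' hne
      rw [e, Finset.inter_self, hTc] at this
      omega
    by_cases hk : r ∈ T k
    · by_cases hk0 : k = i₀
      · exact Or.inl hk0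
      by_cases hk1 : k = i₁
      · exact Or.inr (Or.inl hk1)
      exfalso
      obtain ⟨b', c', -, -, -, f0, f1, fm⟩ := htri i₀ k (Ne.symm hk0) r hrm.1 hk m hm
      have hb' : b' = b := by
        have : b' ∈ T i₀ := by simp [f0]
        rw [e0] at this
        simp only [Finset.mem_insert, Finset.mem_singleton] at this
        exact this.resolve_left fun e => hm (by rw [← e, fm]; simp)
      have hc' : c' = c := by
        have h1 : c' ∈ T m := by simp [fm]
        rw [em] at h1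
        simp only [Finset.mem_insert, Finset.mem_singleton] at h1
        refine h1.resolve_left fun e => ?_
        have h2 : (T i₀ ∩ T k) = T i₀ := by
          rw [f0, f1, hb', e, Finset.inter_self]
        have := hone i₀ k (Ne.symm hk0)
        rw [h2, hTc] at this
        omega
      exact hk1 (hinj k i₁ (by rw [f1, e1, hc']))
    · obtain ⟨b', c', -, -, -, f0, f1, fm⟩ := htri i₀ i₁ h01 r hrm.1 hrm.2 k hk
      refine Or.inr (Or.inr (hinj k m ?_))
      have hb' : b' = b := by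
        have : b' ∈ T i₀ := by simp [f0]
        rw [e0] at this
        simp only [Finset.mem_insert, Finset.mem_singleton] at this
        exact this.resolve_left fun e => hk (by rw [← e, fm]; simp)
      have hc' : c' = c := by
        have : c' ∈ T i₁ := by simp [f1]
        rw [e1] at this
        simp only [Finset.mem_insert, Finset.mem_singleton] at this
        exact this.resolve_left fun e => hk (by rw [← e, fm]; simp)
      rw [fm, em, hb', hc']
  have hn3 : n = 3 := by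
    have hle := Finset.card_le_card (show (Finset.univ : Finset (Fin n)) ⊆ {i₀, i₁, m} from
      fun k _ => by simpa using hall k)
    rw [Finset.card_univ, Fintype.card_fin] at hle
    have h3 : ({i₀, i₁, m} : Finset (Fin n)).card = 3 := by
      have m0 : i₀ ≠ m := fun e => hm (e ▸ hrm.1)
      have m1 : i₁ ≠ m := fun e => hm (e ▸ hrm.2)
      rw [Finset.card_insert_of_notMem (by simp [h01, m0]), Finset.card_pair m1]
    have := Finset.card_le_univ ({i₀, i₁, m} : Finset (Fin n))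
    rw [h3, Fintype.card_fin] at this
    omega
  refine ⟨hn3, fun j₀ j₁ j₂ a1 a2 a3 => ?_⟩
  obtain ⟨r', hr'⟩ := Finset.card_eq_one.1 (hone j₀ j₁ a1)
  have hrm' : r' ∈ T j₀ ∩ T j₁ := by simp [hr']
  rw [Finset.mem_inter] at hrm'
  obtain ⟨m', hm'⟩ := hcom r'
  have hm2 : m' = j₂ := by
    have b0 : m' ≠ j₀ := fun e => hm' (e ▸ hrm'.1)
    have b1 : m' ≠ j₁ := fun e => hm' (e ▸ hrm'.2)
    subst hn3
    have key : ∀ p q r s : Fin 3, p ≠ q → p ≠ r → q ≠ r → s ≠ p → s ≠ q → s = r := by intro p q r s; omega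
    exact key j₀ j₁ j₂ m' a1 a2 a3 b0 b1
  subst hm2
  obtain ⟨b', c', q1, q2, q3, f0, f1, fm⟩ := htri j₀ j₁ a1 r' hrm'.1 hrm'.2 m' hm'
  exact ⟨r', b', c', q1, q2, q3, f0, f1, fm⟩

/-- The odd vectors have a common entry. -/
theorem odd_cases {n : ℕ} (hn : 0 < n) (u : Fin n → ι → ℤ) (d : ι → ℤ) (hd : ∀ i, d i ≠ 0)
    (hjj : ∀ j, ∑ i, u j i * u j i = 2) (hjk : ∀ j k, j ≠ k → ∑ i, u j i * u k i = 1)
    (hdj : ∀ j, ∑ i, u j i * d i = 0) :
    ∃ (r₀ : ι) (s₀ : ℤ) (r : Fin n → ι) (s : Fin n → ℤ), (s₀ = 1 ∨ s₀ = -1) ∧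
      (∀ j, s j = 1 ∨ s j = -1) ∧ Function.Injective r ∧ (∀ j, r j ≠ r₀) ∧
      ∀ j i, u j i = if i = r₀ then s₀ else if i = r j then s j else 0 := by
  choose T hTc hT hT0 using fun j => exists_duo (u j) (hjj j)
  have hmeet := fun j k (h : j ≠ k) =>
    meet_one (u j) (u k) (T j) (T k) (hTc j) (hT j) (hT0 j) (hT k) (hT0 k) (hjk j k h)
  have hone : ∀ j k, j ≠ k → (T j ∩ T k).card = 1 := by
    intro j k h
    obtain ⟨a, b, hab, hTe, ha, hb, -⟩ := hmeet j k h
    rw [show T j ∩ T k = {a} from ?_, Finset.card_singleton]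
    ext i
    simp only [hTe, Finset.mem_inter, Finset.mem_insert, Finset.mem_singleton]
    refine ⟨?_, ?_⟩
    · rintro ⟨rfl | rfl, hk⟩
      exacts [rfl, absurd hk hb]
    · rintro rfl
      exact ⟨Or.inl rfl, ha⟩
  have hagree : ∀ j k i, i ∈ T j → i ∈ T k → u k i = u j i := by
    intro j k i hi hk
    by_cases h : j = k
    · rw [h]
    obtain ⟨a, b, -, hTe, -, hb, ea⟩ := hmeet j k h
    rw [hTe] at hi
    simp only [Finset.mem_insert, Finset.mem_singleton] at hi
    rcases hi with rfl | rfl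
    exacts [ea, absurd hk hb]
  let j₀ : Fin n := ⟨0, hn⟩
  obtain ⟨r₀, hr₀⟩ : ∃ r, ∀ j, r ∈ T j := by
    by_cases h1 : n = 1
    · subst h1
      obtain ⟨r, hr⟩ := Finset.card_pos.1 (by rw [hTc j₀]; omega : 0 < (T j₀).card)
      exact ⟨r, fun j => by rw [Subsingleton.elim j j₀]; exact hr⟩
    rcases pairs_cases (by omega) T hTc hone with h | ⟨hn3, htri⟩
    · exact h
    exfalso
    subst hn3
    obtain ⟨a, b, c, hab, hac, hbc, e0, e1, e2⟩ := htri 0 1 2 (by decide) (by decide) (by decide)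
    have h0 := hdj 0
    have h1' := hdj 1
    have h2 := hdj 2
    rw [sum_on (hT0 _), e0, Finset.sum_pair hab] at h0
    rw [sum_on (hT0 _), e1, Finset.sum_pair hac] at h1'
    rw [sum_on (hT0 _), e2, Finset.sum_pair hbc] at h2
    rw [hagree 0 1 a (by simp [e0]) (by simp [e1])] at h1'
    rw [hagree 0 2 b (by simp [e0]) (by simp [e2]), hagree 1 2 c (by simp [e1]) (by simp [e2])] at h2
    have ha : u 0 a * d a = 0 := by linarith
    exact (mul_ne_zero (by rcases hT 0 a (by simp [e0]) with e | e <;> omega) (hd a)) ha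
  have hx : ∀ j, ∃ y, y ≠ r₀ ∧ T j = {r₀, y} := by
    intro j
    obtain ⟨a, b, hab, e⟩ := Finset.card_eq_two.1 (hTc j)
    have := hr₀ j
    rw [e] at this
    simp only [Finset.mem_insert, Finset.mem_singleton] at this
    rcases this with h | h
    · exact ⟨b, h ▸ hab.symm, h ▸ e⟩
    · exact ⟨a, h ▸ hab, by rw [e, h, Finset.pair_comm]⟩
  choose r hrne hTr using hx
  refine ⟨r₀, u j₀ r₀, r, fun j => u j (r j), hT _ _ (hr₀ _), fun j => hT _ _ (by simp [hTr]),
    fun j k e => ?_, hrne, fun j i => ?_⟩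
  · by_contra hne
    have h2 := hone j k hne
    rw [hTr, hTr, e, Finset.inter_self, Finset.card_pair (hrne k).symm] at h2
    omega
  · split_ifs with p1 p2
    · subst p1; exact hagree j₀ j i (hr₀ _) (hr₀ _)
    · rw [p2]
    · exact hT0 j i (by simp [hTr, p1, p2])

/-- The even vectors: the common shape, or the special equations. -/
theorem even_cases {n : ℕ} (hodd : Odd n) (wh : ι → ℤ) (w : Fin n → ι → ℤ) (d : ι → ℤ)
    (hd : ∀ i, d i ≠ 0) {S : Finset ι} (hSc : S.card = 4) (hS : ∀ i ∈ S, wh i = 1 ∨ wh i = -1)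
    (hS0 : ∀ i ∉ S, wh i = 0) (hjj : ∀ j, ∑ i, w j i * w j i = 3)
    (hjk : ∀ j k, j ≠ k → ∑ i, w j i * w k i = 2) (hjh : ∀ j, ∑ i, w j i * wh i = 2)
    (hdh : ∑ i, wh i * d i = 0) (hdj : ∀ j, ∑ i, w j i * d i = 0) :
    (∃ (a b c e : ι) (x : Fin n → ι) (sx : Fin n → ℤ), a ≠ b ∧ a ≠ c ∧ a ≠ e ∧ b ≠ c ∧ b ≠ e ∧ c ≠ e ∧
      S = {a, b, c, e} ∧ Function.Injective x ∧ (∀ j, x j ∉ S) ∧ (∀ j, sx j = 1 ∨ sx j = -1) ∧
      ∀ j i, w j i = if i = a then wh a else if i = b then wh b else if i = x j then sx j else 0) ∨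
    ∃ e : n = 3, IsExc wh (fun j => w (Fin.cast e.symm j)) d := by
  choose T hTc hT hT0 using fun j => exists_triple (w j) (hjj j)
  have hm : ∀ j, ∃ (P : Finset ι) (x : ι), P.card = 2 ∧ P ⊆ S ∧ x ∉ S ∧ (w j x = 1 ∨ w j x = -1) ∧
      (∀ i ∈ P, w j i = wh i) ∧ ∀ i ∉ P, i ≠ x → w j i = 0 := by
    intro j
    obtain ⟨a, b, c, hab, hac, hbc, hTe, ha, hb, hc, ea, eb⟩ :=
      meet_two (w j) wh (T j) S (hTc j) (hT j) (hT0 j) hS hS0 (hjh j)
    refine ⟨{a, b}, c, Finset.card_pair hab, by simp [Finset.insert_subset_iff, ha, hb], hc,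
      hT j c (by simp [hTe]), fun i hi => ?_, fun i hi hic => hT0 j i ?_⟩
    · simp only [Finset.mem_insert, Finset.mem_singleton] at hi
      rcases hi with rfl | rfl
      exacts [ea.symm, eb.symm]
    · simp only [Finset.mem_insert, Finset.mem_singleton, not_or] at hi
      simp [hTe, hi.1, hi.2, hic]
  choose P x hPc hPS hxS hsx hwP hw0 using hm
  have hw : ∀ j i, w j i = if i ∈ P j then wh i else if i = x j then w j (x j) else 0 := by
    intro j i
    split_ifs with p1 p2
    · exact hwP j i p1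
    · rw [p2]
    · exact hw0 j i p1 p2
  have hsq : ∀ i ∈ S, wh i * wh i = 1 := fun i hi => by rcases hS i hi with e | e <;> simp [e]
  have hprod : ∀ j k, ∑ i, w j i * w k i =
      ((P j ∩ P k).card : ℤ) + if x j = x k then w j (x j) * w k (x k) else 0 := by
    intro j k
    have hxj : x j ∉ P j := fun h => hxS j (hPS j h)
    rw [sum_on (T := insert (x j) (P j)) fun i hi => by
        simp only [Finset.mem_insert, not_or] at hi
        exact hw0 j i hi.2 hi.1,
      Finset.sum_insert hxj, add_comm]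
    congr 1
    · rw [Finset.sum_congr rfl (g := fun i => if i ∈ P k then 1 else 0) fun i hi => ?_,
        Finset.sum_boole, Finset.filter_mem_eq_inter]
      rw [hwP j i hi]
      split_ifs with p
      · rw [hwP k i p, hsq i (hPS j hi)]
      · rw [hw0 k i p fun e => hxS k (e ▸ hPS j hi), mul_zero]
    · split_ifs with p
      · rw [p]
      · rw [hw0 k _ (fun h => hxS j (hPS k h)) p, mul_zero]
  have hdich : ∀ j k, j ≠ k →
      (P j = P k ∧ x j ≠ x k) ∨ ((P j ∩ P k).card = 1 ∧ x j = x k ∧ w k (x k) = w j (x j)) := by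
    intro j k h
    have e := hjk j k h
    rw [hprod] at e
    have hle : (P j ∩ P k).card ≤ 2 :=
      (Finset.card_le_card Finset.inter_subset_left).trans (hPc j).le
    have h1 := hsx j
    have h2 := hsx k
    by_cases p : x j = x k
    · rw [if_pos p] at e
      refine Or.inr ?_
      rcases h1 with q | q <;> rcases h2 with q' | q' <;> rw [q, q'] at e ⊢ <;>
        refine ⟨?_, p, ?_⟩ <;> omega
    · rw [if_neg p] at e
      refine Or.inl ⟨?_, p⟩
      have h3 : (P j ∩ P k).card = 2 := by omega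
      have e1 := Finset.eq_of_subset_of_card_le Finset.inter_subset_left (by rw [hPc j, h3] : (P j).card ≤ _)
      have e2 := Finset.eq_of_subset_of_card_le Finset.inter_subset_right (by rw [hPc k, h3] : (P k).card ≤ _)
      exact e1.symm.trans e2
  have hn0 : 0 < n := hodd.pos
  let j₀ : Fin n := ⟨0, hn0⟩
  by_cases hall : ∀ j, P j = P j₀
  · left
    obtain ⟨a, b, hab, hP⟩ := Finset.card_eq_two.1 (hPc j₀)
    obtain ⟨c, e, hce, hSe⟩ := Finset.card_eq_two.1 (show (S \ P j₀).card = 2 by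
      rw [Finset.card_sdiff_of_subset (hPS j₀), hSc, hPc])
    have hc : c ∈ S \ P j₀ := by simp [hSe]
    have he : e ∈ S \ P j₀ := by simp [hSe]
    simp only [Finset.mem_sdiff, hP, Finset.mem_insert, Finset.mem_singleton, not_or] at hc he
    refine ⟨a, b, c, e, x, fun j => w j (x j), hab, Ne.symm hc.2.1, Ne.symm he.2.1, Ne.symm hc.2.2,
      Ne.symm he.2.2, hce, ?_, fun j k p => ?_, hxS, hsx, fun j i => ?_⟩
    · rw [← Finset.union_sdiff_of_subset (hPS j₀), hSe, hP]
      ext i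
      simp; tauto
    · by_contra hne
      rcases hdich j k hne with ⟨-, q⟩ | ⟨q, -, -⟩
      · exact q p
      · rw [hall j, hall k, Finset.inter_self, hPc] at q
        omega
    · rw [hw, hall j, hP]
      simp only [Finset.mem_insert, Finset.mem_singleton]
      by_cases p : i = a
      · subst p; simp
      by_cases q : i = b
      · subst q; simp [p]
      simp [p, q]
  right
  push Not at hall
  obtain ⟨k₀, hk₀⟩ := hall
  have hk₀0 : j₀ ≠ k₀ := fun e => hk₀ (e ▸ rfl)
  have hxeq : ∀ j, x j = x j₀ := by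
    have h0 : x j₀ = x k₀ := by
      rcases hdich j₀ k₀ hk₀0 with ⟨q, -⟩ | ⟨-, q, -⟩
      · exact absurd q.symm hk₀
      · exact q
    intro j
    by_contra hne
    have hj0 : j ≠ j₀ := fun e => hne (e ▸ rfl)
    rcases hdich j j₀ hj0 with ⟨q, -⟩ | ⟨-, q, -⟩
    · rcases hdich j k₀ (fun e => hne (e ▸ h0.symm)) with ⟨q', -⟩ | ⟨-, q', -⟩
      · exact hk₀ (q'.symm.trans q)
      · exact hne (q'.trans h0.symm)
    · exact hne q
  have hone : ∀ j k, j ≠ k → (P j ∩ P k).card = 1 ∧ w k (x k) = w j (x j) := fun j k h => by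
    rcases hdich j k h with ⟨-, q⟩ | ⟨q1, -, q2⟩
    · exact absurd ((hxeq j).trans (hxeq k).symm) q
    · exact ⟨q1, q2⟩
  have hn1 : 1 < n := by
    by_contra hlt
    obtain rfl : n = 1 := by omega
    exact hk₀0 (Subsingleton.elim _ _)
  set x₀ := x j₀ with hx₀
  set s := w j₀ (x j₀) with hs
  have hws : ∀ j, w j (x₀) = s := fun j => by
    by_cases hj : j = j₀
    · rw [hj]
    · have := (hone j₀ j (Ne.symm hj)).2
      rw [hxeq j] at this
      exact this
  have hwi : ∀ j i, w j i = if i ∈ P j then wh i else if i = x₀ then s else 0 := fun j i => by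
    rw [hw, hxeq, hws]
  have hx₀S : x₀ ∉ S := hxS j₀
  have hsv : s = 1 ∨ s = -1 := hsx j₀
  set U := insert x₀ S with hU
  have hU0 : ∀ i ∉ U, wh i = 0 := fun i hi => hS0 i fun h => hi (Finset.mem_insert_of_mem h)
  have hUw : ∀ i ∉ U, ∀ j, w j i = 0 := fun i hi j => by
    rw [hwi, if_neg fun h => hi (Finset.mem_insert_of_mem (hPS j h)),
      if_neg fun (h : i = x₀) => hi (h ▸ Finset.mem_insert_self _ _)]
  have hsumU : ∀ v : ι → ℤ, (∀ i ∉ U, v i = 0) → ∀ v' : ι → ℤ,
      ∑ i : U, v i * v' i = ∑ i, v i * v' i := fun v hv v' => by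
    rw [Finset.sum_coe_sort U fun i => v i * v' i]
    exact (sum_on hv).symm
  have hsub : ∀ {a b : ι} (ha : a ∈ U) (hb : b ∈ U), a ≠ b → (⟨a, ha⟩ : U) ≠ ⟨b, hb⟩ :=
    fun _ _ h e => h (congrArg Subtype.val e)
  rcases pairs_cases hn1 P hPc (fun j k h => (hone j k h).1) with ⟨r, hr⟩ | ⟨hn3, htri⟩
  · -- a common entry
    have hy : ∀ j, ∃ y, y ≠ r ∧ P j = {r, y} := by
      intro j
      obtain ⟨a, b, hab, e⟩ := Finset.card_eq_two.1 (hPc j)
      have := hr j
      rw [e] at this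
      simp only [Finset.mem_insert, Finset.mem_singleton] at this
      rcases this with h | h
      · exact ⟨b, h ▸ hab.symm, h ▸ e⟩
      · exact ⟨a, h ▸ hab, by rw [e, h, Finset.pair_comm]⟩
    choose y hyr hPy using hy
    have hyinj : Function.Injective y := fun j k e => by
      by_contra hne
      have := (hone j k hne).1
      rw [hPy, hPy, e, Finset.inter_self, Finset.card_pair (hyr k).symm] at this
      omega
    have hyS : ∀ j, y j ∈ S := fun j => hPS j (by simp [hPy])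
    have hrS : r ∈ S := hPS j₀ (hr j₀)
    have himg : Finset.univ.image y ⊆ S.erase r := fun i hi => by
      obtain ⟨j, -, rfl⟩ := Finset.mem_image.1 hi
      exact Finset.mem_erase.2 ⟨hyr j, hyS j⟩
    have hle := Finset.card_le_card himg
    rw [Finset.card_image_of_injective _ hyinj, Finset.card_univ, Fintype.card_fin,
      Finset.card_erase_of_mem hrS, hSc] at hle
    have hn3 : n = 3 := by obtain ⟨q, rfl⟩ := hodd; omega
    subst hn3
    refine ⟨rfl, isExc_of_support wh w d U hU0 hUw ?_⟩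
    have heq : Finset.univ.image y = S.erase r := Finset.eq_of_subset_of_card_le himg (by
      rw [Finset.card_image_of_injective _ hyinj, Finset.card_univ, Fintype.card_fin,
        Finset.card_erase_of_mem hrS, hSc])
    have hy' : ∀ i ∈ S, i ≠ r → i = y 0 ∨ i = y 1 ∨ i = y 2 := fun i hi hir => by
      have : i ∈ Finset.univ.image y := heq ▸ Finset.mem_erase.2 ⟨hir, hi⟩
      obtain ⟨j, -, rfl⟩ := Finset.mem_image.1 this
      fin_cases j <;> simp
    have hxr : x₀ ≠ r := fun e => hx₀S (e ▸ hrS)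
    have hxy : ∀ j, y j ≠ x₀ := fun j e => hx₀S (e ▸ hyS j)
    refine special_star (a := ⟨r, Finset.mem_insert_of_mem hrS⟩) (b := ⟨x₀, Finset.mem_insert_self _ _⟩)
      (fun i : U => wh i) (fun j (i : U) => w j i) (fun i : U => d i) (fun i => hd i) ?_
      (fun j => ⟨y j, Finset.mem_insert_of_mem (hyS j)⟩) (hsub _ _ hxr.symm)
      (fun j k e => hyinj (congrArg Subtype.val e)) (fun j => ⟨hsub _ _ (hyr j), hsub _ _ (hxy j)⟩)
      (sa := wh r) (sb := s) (sx := fun j => wh (y j)) (hS r hrS) hsv (fun j => hS _ (hyS j)) ?_ ?_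
      (by rw [hsumU wh hU0]; exact hdh) (fun j => by rw [hsumU (w j) (fun i hi => hUw i hi j)]; exact hdj j)
    · intro i
      have hi := Finset.mem_insert.1 i.2
      simp only [fJ, Fin.sum_univ_three, hwi, hPy, Finset.mem_insert, Finset.mem_singleton]
      rcases hi with h | h
      · rw [h, hS0 _ hx₀S]
        simp [hxr, (hxy 0).symm, (hxy 1).symm, (hxy 2).symm]
        omega
      · have hne : (i : ι) ≠ x₀ := fun e => hx₀S (e ▸ h)
        rcases hS _ h with q | q <;> rw [q] <;> simp [hne] <;> split_ifs <;> omega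
    · intro j i
      simp only [hwi, hPy, Finset.mem_insert, Finset.mem_singleton, Subtype.ext_iff]
      by_cases p : (i : ι) = r
      · simp [p]
      by_cases q : (i : ι) = x₀
      · simp [q, hxr, (hxy j).symm]
      by_cases q' : (i : ι) = y j
      · simp [q', hyr j, hxy j]
      simp [p, q, q']
    · intro i
      simp only [Subtype.ext_iff]
      split_ifs with p1 p2 p3 p4
      · rw [p1]
      · rw [p2]
      · rw [p3]
      · rw [p4]
      · refine hS0 _ fun h => ?_
        rcases hy' _ h p1 with e | e | e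
        exacts [p2 e, p3 e, p4 e]
  · -- a triangle
    subst hn3
    refine ⟨rfl, isExc_of_support wh w d U hU0 hUw ?_⟩
    obtain ⟨b, c, e, hbc, hbe, hce, e0, e1, e2⟩ := htri 0 1 2 (by decide) (by decide) (by decide)
    have hbS : b ∈ S := hPS 0 (by simp [e0])
    have hcS : c ∈ S := hPS 0 (by simp [e0])
    have heS : e ∈ S := hPS 1 (by simp [e1])
    have nb : x₀ ≠ b := fun h => hx₀S (h ▸ hbS)
    have nc : x₀ ≠ c := fun h => hx₀S (h ▸ hcS)
    have ne' : x₀ ≠ e := fun h => hx₀S (h ▸ heS)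
    refine special_four (fun i : U => wh i) (fun j (i : U) => w j i) (fun i : U => d i) (fun i => hd i) ?_
      (a := ⟨x₀, Finset.mem_insert_self _ _⟩) (b := ⟨b, Finset.mem_insert_of_mem hbS⟩)
      (c := ⟨c, Finset.mem_insert_of_mem hcS⟩) (e := ⟨e, Finset.mem_insert_of_mem heS⟩)
      (hsub _ _ nb) (hsub _ _ nc) (hsub _ _ ne') (hsub _ _ hbc) (hsub _ _ hbe) (hsub _ _ hce)
      hsv (hS b hbS) (hS c hcS) (hS e heS) ?_ ?_ ?_
      (S := S.subtype (· ∈ U)) ?_ (fun i hi => hS _ (by simpa using hi))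
      (fun i hi => hS0 _ (by simpa using hi))
      (fun j => by rw [hsumU (w j) (fun i hi => hUw i hi j)]; exact hjh j)
      (by rw [hsumU wh hU0]; exact hdh) (fun j => by rw [hsumU (w j) (fun i hi => hUw i hi j)]; exact hdj j)
    · intro i
      have hi := Finset.mem_insert.1 i.2
      simp only [fJ, Fin.sum_univ_three, hwi, e0, e1, e2, Finset.mem_insert, Finset.mem_singleton]
      rcases hi with h | h
      · rw [h, hS0 _ hx₀S]
        simp [nb, nc, ne']
        omega
      · have hne : (i : ι) ≠ x₀ := fun q => hx₀S (q ▸ h)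
        rcases hS _ h with q | q <;> rw [q] <;> simp [hne] <;> split_ifs <;> omega
    · intro i
      simp only [hwi, e0, Finset.mem_insert, Finset.mem_singleton, Subtype.ext_iff]
      by_cases p : (i : ι) = x₀
      · simp [p, nb, nc]
      by_cases q : (i : ι) = b
      · simp [q, nb.symm]
      by_cases q' : (i : ι) = c
      · simp [q', nc.symm, hbc.symm]
      simp [p, q, q']
    · intro i
      simp only [hwi, e1, Finset.mem_insert, Finset.mem_singleton, Subtype.ext_iff]
      by_cases p : (i : ι) = x₀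
      · simp [p, nb, ne']
      by_cases q : (i : ι) = b
      · simp [q, nb.symm]
      by_cases q' : (i : ι) = e
      · simp [q', ne'.symm, hbe.symm]
      simp [p, q, q']
    · intro i
      simp only [hwi, e2, Finset.mem_insert, Finset.mem_singleton, Subtype.ext_iff]
      by_cases p : (i : ι) = x₀
      · simp [p, nc, ne']
      by_cases q : (i : ι) = c
      · simp [q, nc.symm]
      by_cases q' : (i : ι) = e
      · simp [q', ne'.symm, hce.symm]
      simp [p, q, q']
    · rw [Finset.card_subtype, Finset.filter_true_of_mem fun i hi => Finset.mem_insert_of_mem hi, hSc]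

end CfsgLib.Block.Tame.TameConfig
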