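import Cfsg.Agent.Lib.Block.Tame.TameBlock
import Cfsg.Agent.Lib.Block.HeightCenter

/-!
# The contributions of the central subsections of exponent two, and the identity of contributions

For a central `y` with `y * y = 1` the contributions form an integral matrix with the divisibilities
by the heights (`exists_central_matrix`); `TFrame.contrib_identity` is the decomposition of the inner
product of two members over the classes of the elements of the defect group.
-/

open Finset MonoidAlgebra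
open scoped ComplexConjugate

set_option autoImplicit false
set_option linter.unusedSectionVars false

namespace CfsgLib.Block.Tame

open Cfsg CfsgLib CfsgLib.Block CfsgLib.Block.CyclicDefect
open scoped Pair

universe u

variable {M : Ideal AlgInt} [M.IsMaximal] {G : Type u} [Group G] [Fintype G] [DecidableEq G]
  [Fintype (IrrCharacter G)]

open scoped Classical in
/-- The scaled contribution through the sums of products of the parts. -/
theorem secContrib_eq_secSum {p : ℕ} (hM : IsPModular p M) {Q : Subgroup G}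
    [Fintype (IrrCharacter (CQ Q))] {b : Set (IrrCharacter (CQ Q))} (hb : IsPBlock M b) {u : G}
    (hu : ∀ t : CQ Q, Commute (t : G) u) (χ ψ : IrrCharacter G) :
    secContrib p u (CQ Q) b χ ψ =
      (p : ℂ) ^ blockDefect p b * ((Nat.card (CQ Q) : ℂ)⁻¹ * secSum p χ ψ u ⟨Q, b⟩) := by
  have hS := IsBlockUnion.of_isPBlock hb
  set c : IrrCharacter G → IrrCharacter (CQ Q) → ℂ := fun θ η =>
    classInner (secFun u (CQ Q) θ) (η : CQ Q → ℂ) with hc
  have hexp : ∀ θ t, secFun u (CQ Q) θ t = ∑ η : IrrCharacter (CQ Q), c θ η * (η : CQ Q → ℂ) t := by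
    intro θ t
    have h := congrFun (Char.classFun_expand (isClassFunction_secFun hu θ)) t
    simpa only [Finset.sum_apply, Pi.smul_apply, smul_eq_mul] using h
  have hbp : ∀ θ t, blockPart b (secFun u (CQ Q) θ) t =
      ∑ η ∈ Finset.univ.filter (· ∈ b), c θ η * (η : CQ Q → ℂ) t :=
    fun θ => blockPart_secFun_eq hu (hexp θ)
  rw [secContrib]
  congr 2
  refine Eq.trans ?_ (Finset.sum_bij (fun (w : CQ Q) _ => (w : G)) (fun w hw => ?_)
    (fun w _ w' _ h => Subtype.ext h) (fun s hs => ?_) fun w hw => ?_)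
    (b := ∑ y ∈ Finset.univ.filter (fun y : CQ Q => ¬ p ∣ orderOf y),
      blockPart b (secFun u (CQ Q) χ) y * conj (blockPart b (secFun u (CQ Q) ψ) y))
  · -- the other blocks are orthogonal on the regular elements
    rw [← sub_eq_zero, ← Finset.sum_sub_distrib]
    have hd : ∀ y, secFun u (CQ Q) χ y - blockPart b (secFun u (CQ Q) χ) y =
        ∑ η ∈ Finset.univ.filter (fun η => η ∉ b), c χ η * (η : CQ Q → ℂ) y := fun y => by
      rw [hexp, hbp, ← Finset.sum_filter_add_sum_filter_not Finset.univ (· ∈ b), add_sub_cancel_left]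
    rw [Finset.sum_congr rfl fun y _ => by rw [← sub_mul, hd]]
    simp only [hbp, map_sum, map_mul, Finset.sum_mul_sum]
    rw [Finset.sum_comm]
    refine Finset.sum_eq_zero fun η hη => ?_
    rw [Finset.sum_comm]
    refine Finset.sum_eq_zero fun ζ hζ => ?_
    have h0 : ∑ y ∈ Finset.univ.filter (fun y : CQ Q => ¬ p ∣ orderOf y),
        (η : CQ Q → ℂ) y * conj ((ζ : CQ Q → ℂ) y) = 0 := by
      simp only [← Char.irr_inv ζ]
      rw [← card_mul_regInner, regInner_comm hM, regInner_eq_zero_of_not_mem hM hS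
        (Finset.mem_filter.mp hζ).2 (Finset.mem_filter.mp hη).2, mul_zero]
    calc ∑ y ∈ Finset.univ.filter (fun y : CQ Q => ¬ p ∣ orderOf y),
          c χ η * (η : CQ Q → ℂ) y * (conj (c ψ ζ) * conj ((ζ : CQ Q → ℂ) y))
        = c χ η * conj (c ψ ζ) * ∑ y ∈ Finset.univ.filter (fun y : CQ Q => ¬ p ∣ orderOf y),
            (η : CQ Q → ℂ) y * conj ((ζ : CQ Q → ℂ) y) := by
          rw [Finset.mul_sum]
          exact Finset.sum_congr rfl fun y _ => by ring
      _ = 0 := by rw [h0, mul_zero]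
  · exact Finset.mem_filter.mpr ⟨Finset.mem_univ _, w.2, by
      rw [Subgroup.orderOf_coe]; exact (Finset.mem_filter.mp hw).2⟩
  · obtain ⟨-, hs1, hs2⟩ := Finset.mem_filter.mp hs
    exact ⟨⟨s, hs1⟩, Finset.mem_filter.mpr ⟨Finset.mem_univ _, by
      rwa [← Subgroup.orderOf_coe]⟩, rfl⟩
  · rw [secPart_eq_blockPart b hu, secPart_eq_blockPart b hu]

variable {B : Set (IrrCharacter G)} {P : Subgroup G} {e : Set (IrrCharacter (CQ P))}

/-- An element of the local ring with a rational integral multiple. -/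
theorem exists_int_of_mul_eq (hM : IsPModular 2 M) {a : ℕ} {z : ℤ} {L : locRing M}
    (h : (z : ℂ) = (2 : ℂ) ^ a * (L : ℂ)) :
    ∃ w : ℤ, z = 2 ^ a * w ∧ (L : ℂ) = (w : ℂ) ∧ (res M L = 0 ↔ (2 : ℤ) ∣ w) := by
  have := charP_resField hM
  induction a generalizing z L with
  | zero =>
    refine ⟨z, by simp, by simpa using h.symm, ?_⟩
    rw [show L = (z : locRing M) from Subtype.ext (by simpa using h.symm), map_intCast,
      CharP.intCast_eq_zero_iff (ResField M) 2]
    rfl
  | succ a ih =>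
    obtain ⟨w, hw, hwe, hwr⟩ := ih (z := z) (L := ((2 : ℕ) : locRing M) * L) (by
      rw [h, pow_succ, Subring.coe_mul, Subring.coe_natCast, Nat.cast_ofNat, mul_assoc])
    rw [Subring.coe_mul, Subring.coe_natCast, Nat.cast_ofNat] at hwe
    obtain ⟨v, rfl⟩ := hwr.1 (by
      rw [map_mul, map_natCast,
        (CharP.cast_eq_zero_iff (ResField M) 2 2).2 dvd_rfl, zero_mul])
    have hL : (L : ℂ) = (v : ℂ) := mul_left_cancel₀ (two_ne_zero (α := ℂ)) (by
      rw [hwe]; push_cast; ring)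
    refine ⟨v, by rw [hw, pow_succ]; ring, hL, ?_⟩
    rw [show L = (v : locRing M) from Subtype.ext (by simpa using hL), map_intCast,
      CharP.intCast_eq_zero_iff (ResField M) 2]
    rfl

theorem exists_int_of_mem_cycInt {k : ℕ} (hk : k ≤ 1) {z : ℂ} (hz : z ∈ cycInt (2 ^ k)) :
    ∃ n : ℤ, (n : ℂ) = z := by
  induction hz using Subring.closure_induction with
  | mem x hx =>
    have h2 : x ^ 2 = 1 := by
      rcases (show k = 0 ∨ k = 1 by omega) with rfl | rfl
      · simp_all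
      · simpa using hx
    rcases sq_eq_one_iff.1 h2 with e | e
    · exact ⟨1, by simp [e]⟩
    · exact ⟨-1, by simp [e]⟩
  | zero => exact ⟨0, by simp⟩
  | one => exact ⟨1, by simp⟩
  | add x y _ _ hx hy =>
    obtain ⟨n, rfl⟩ := hx
    obtain ⟨m, rfl⟩ := hy
    exact ⟨n + m, by push_cast; ring⟩
  | neg x _ hx =>
    obtain ⟨n, rfl⟩ := hx
    exact ⟨-n, by push_cast; ring⟩
  | mul x y _ _ hx hy =>
    obtain ⟨n, rfl⟩ := hx
    obtain ⟨m, rfl⟩ := hy
    exact ⟨n * m, by push_cast; ring⟩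

/-- The properties of an integral matrix of contributions. -/
structure CentralMatrix (p : ℕ) (B : Set (IrrCharacter G)) (c : ℕ) (r : ℕ)
    (A : IrrCharacter G → IrrCharacter G → ℤ) : Prop where
  symm : ∀ χ ψ, A χ ψ = A ψ χ
  sq : ∀ χ ∈ B, ∀ [DecidablePred (· ∈ B)],
    ∑ ψ ∈ Finset.univ.filter (· ∈ B), A χ ψ * A χ ψ = c * A χ χ
  trace : ∀ [DecidablePred (· ∈ B)], ∑ χ ∈ Finset.univ.filter (· ∈ B), A χ χ = c * r
  pos : ∀ χ ∈ B, 0 < A χ χ
  dvd : ∀ χ ∈ B, ∀ ψ ∈ B, (2 : ℤ) ^ blockHeight p B (χ : G → ℂ) ∣ A χ ψ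
  dvd_succ : ∀ χ ∈ B, ∀ ψ ∈ B, ((2 : ℤ) ^ (blockHeight p B (χ : G → ℂ) + 1) ∣ A χ ψ ↔
    0 < blockHeight p B (ψ : G → ℂ))

/-- The matrix of a central element of exponent two. -/
theorem exists_central_matrix (hM : IsPModular 2 M) (hmax : IsMaximalBrauerPair 2 M B P e) {y : P}
    (hy : y ∈ Subgroup.center P) (hy2 : (y : G) * (y : G) = 1) :
    ∃ A, CentralMatrix 2 B (Nat.card P) (blockRank 2 (lowPair hM hmax.1.1 y).2) A ∧
      ∀ χ ψ, contrib 2 (lowPair hM hmax.1.1) χ ψ y = (A χ ψ : ℂ) := by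
  classical
  obtain ⟨b, hb, hind, hbd, hPC, -⟩ := exists_major_lowPair hM hmax hy
  have := Fintype.ofFinite (IrrCharacter (CQ (Subgroup.zpowers (y : G))))
  obtain ⟨k, hk⟩ := exists_pElement_orderOf hmax.1.1 y hM.1
  have hk1 : k ≤ 1 := by
    have h1 : orderOf (y : G) ∣ 2 ^ 1 := orderOf_dvd_of_pow_eq_one (by rw [pow_one, pow_two, hy2])
    rw [hk] at h1
    exact (Nat.pow_dvd_pow_iff_le_right Nat.one_lt_two).mp h1
  have hC : ∀ t : G, t ∈ CQ (Subgroup.zpowers (y : G)) ↔ Commute t (y : G) := fun t => mem_cq_zpowers_iff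
  have hC' : ∀ t : CQ (Subgroup.zpowers (y : G)), Commute (t : G) (y : G) := fun t => (hC t).mp t.2
  have hcard : Nat.card P = 2 ^ blockDefect 2 B :=
    defectGroup_card hM hmax.1.2.1 (isDefectGroup_of_maximal hM hmax)
  have hcon : ∀ χ ψ, contrib 2 (lowPair hM hmax.1.1) χ ψ y =
      secContrib 2 (y : G) (CQ (Subgroup.zpowers (y : G))) b χ ψ := by
    intro χ ψ
    rw [secContrib_eq_secSum hM hind.1 hC', contrib, card_centralizer_eq_inf,
      inf_eq_left.mpr (show P ≤ CQ (Subgroup.zpowers (y : G)) from hPC), hb, hbd, hcard]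
    push_cast
    ring
  choose A hA using fun χ ψ => exists_int_of_mem_cycInt hk1 (secContrib_mem_cycInt hM hk hC hind χ ψ)
  have hsymm : ∀ χ ψ, A χ ψ = A ψ χ := fun χ ψ => by
    have h := conj_secContrib (p := 2) (x := (y : G)) hM hind.1 hC' χ ψ
    rw [← hA, ← hA, map_intCast, Int.cast_inj] at h
    exact h
  have hrows : ∀ χ, ∑ ψ ∈ Finset.univ.filter (· ∈ B), A χ ψ * A χ ψ = Nat.card P * A χ χ := by
    intro χ
    have h := (sum_secContrib_mul_conj hM hk hC hind χ).1
    simp only [← hA, map_intCast, hbd] at h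
    refine Int.cast_injective (α := ℂ) ?_
    push_cast [hcard]
    exact h
  have hdiv : ∀ χ ∈ B, ∀ ψ ∈ B, (2 : ℤ) ^ blockHeight 2 B (χ : G → ℂ) ∣ A χ ψ ∧
      ((2 : ℤ) ^ (blockHeight 2 B (χ : G → ℂ) + 1) ∣ A χ ψ ↔ 0 < blockHeight 2 B (ψ : G → ℂ)) := by
    intro χ hχ ψ hψ
    obtain ⟨L, hL, h0, hpos⟩ := exists_major_lift hM hk hC hind hbd hχ hψ
    obtain ⟨w, hw, -, hwr⟩ := exists_int_of_mul_eq hM (a := blockHeight 2 B (χ : G → ℂ)) (z := A χ ψ) (L := L) (by rw [hA, hL]; norm_num)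
    refine ⟨⟨w, hw⟩, ?_⟩
    rw [hw, pow_succ, mul_dvd_mul_iff_left (pow_ne_zero _ two_ne_zero), ← hwr]
    exact ⟨fun hr => Nat.pos_of_ne_zero fun e => h0 e hr, hpos⟩
  refine ⟨A, ⟨hsymm, fun χ _ inst => by convert hrows χ, fun {inst} => ?_, fun χ hχ => ?_,
    fun χ hχ ψ hψ => (hdiv χ hχ ψ hψ).1, fun χ hχ ψ hψ => (hdiv χ hχ ψ hψ).2⟩,
    fun χ ψ => (hcon χ ψ).trans (hA χ ψ).symm⟩
  · obtain ⟨ψ₀, hψ₀, -⟩ := exists_height_zero hM hmax.1.2.1
    have h := (sum_secContrib_mul_conj hM hk hC hind ψ₀).2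
    rw [hb]
    simp only [← hA, hbd] at h
    refine Int.cast_injective (α := ℂ) ?_
    push_cast [hcard]
    convert h using 3
    all_goals first | rfl | norm_num | congr 1
  · obtain ⟨ψ₀, hψ₀, hψ0⟩ := exists_height_zero hM hmax.1.2.1
    have hne : A χ ψ₀ ≠ 0 := fun h0 => by
      have := ((hdiv χ hχ ψ₀ hψ₀).2).1 (by rw [h0]; exact dvd_zero _)
      omega
    have h1 : 0 < ∑ ψ ∈ Finset.univ.filter (· ∈ B), A χ ψ * A χ ψ :=
      Finset.sum_pos' (fun ψ _ => mul_self_nonneg _)
        ⟨ψ₀, by simpa using hψ₀, mul_self_pos.2 hne⟩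
    rw [hrows] at h1
    exact pos_of_mul_pos_right h1 (Int.natCast_nonneg _)

namespace TFrame

variable {σ τ : G} {h t : ℕ} (F : TFrame M B P e σ τ h t)
include F

theorem one_center : (1 : P) ∈ Subgroup.center P := one_mem _

theorem card_cent (y : P) :
    Nat.card (Subgroup.centralizer ({y} : Set P)) = Nat.card (cenIn y) :=
  card_centralizer_eq_inf y

theorem card_cP_center {y : P} (hy : y ∈ Subgroup.center P) : Nat.card (cenIn y) = 4 * h := by
  rw [cenIn, inf_eq_left.mpr, F.pres.card]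
  exact fun v hv =>
    mem_cq_zpowers_iff.mpr (congrArg Subtype.val (Subgroup.mem_center_iff.mp hy ⟨v, hv⟩))

/-- The contributions at fused elements of equal centralizers agree. -/
theorem nrm_eq {y z : P} (hz : z ∈ F.cls y) (χ ψ : IrrCharacter G) :
    secSum 2 χ ψ (z : G) (lowPair F.hM F.hmax.1.1 z) /
        (Nat.card (CQ (Subgroup.zpowers (z : G))) : ℂ) =
      secSum 2 χ ψ (y : G) (lowPair F.hM F.hmax.1.1 y) /
        (Nat.card (CQ (Subgroup.zpowers (y : G))) : ℂ) := by
  obtain ⟨g, hg, hgl⟩ := (mem_fusClass F.hM F.hmax.1.1).mp hz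
  rw [← hgl, ← hg, secSum_cjP]
  congr 2
  refine Nat.card_congr ?_
  rw [← cjS_zpowers]
  exact ((MulAut.conj g).toEquiv.subtypeEquiv fun x => cq_cjS_iff g _ x).symm

/-- The rotations of order at least four. -/
def rotIdx (h : ℕ) : Finset ℕ := (Finset.range (2 * h)).filter fun l => ¬ h ∣ l

open scoped Classical in
/-- The inner product over the classes. -/
theorem contrib_identity {χ ψ : IrrCharacter G} (hχ : χ ∈ B) (hψ : ψ ∈ B) (c : Finset P → ℂ)
    (hc : ∀ y ∈ F.free, contrib 2 (lowPair F.hM F.hmax.1.1) χ ψ y = c (F.cls y)) :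
    contrib 2 (lowPair F.hM F.hmax.1.1) χ ψ 1 +
        contrib 2 (lowPair F.hM F.hmax.1.1) χ ψ (F.rot h) +
        ∑ l ∈ rotIdx h, contrib 2 (lowPair F.hM F.hmax.1.1) χ ψ (F.rot l) +
        (h : ℂ) * ∑ K ∈ F.outCls, c K =
      (4 * h : ℂ) * if χ = ψ then 1 else 0 := by
  letI := Fintype.ofFinite P
  set he := F.hmax.1.1
  set nrm : P → ℂ := fun y => secSum 2 χ ψ (y : G) (lowPair F.hM he y) /
    (Nat.card (CQ (Subgroup.zpowers (y : G))) : ℂ) with hnrm
  have hcon : ∀ y, contrib 2 (lowPair F.hM he) χ ψ y = (Nat.card (cenIn y) : ℂ) * nrm y := fun y => by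
    rw [contrib, F.card_cent, hnrm]
    ring
  set Rs := (rotIdx h).image F.rot with hRs
  have hinjR : Set.InjOn F.rot (rotIdx h : Set ℕ) := by
    intro a ha b hb hab
    have h1 : σ ^ a = σ ^ b := congrArg Subtype.val hab
    simp only [rotIdx, Finset.coe_filter, Finset.mem_range] at ha hb
    rw [pow_inj_mod, F.pres.orderσ, Nat.mod_eq_of_lt ha.1, Nat.mod_eq_of_lt hb.1] at h1
    exact h1
  have hrotRs : ∀ {l : ℕ}, ¬ h ∣ l → F.rot l ∈ Rs := fun {l} hl => by
    refine Finset.mem_image.2 ⟨l % (2 * h), ?_, F.rot_mod l⟩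
    have h2 := F.pres.two_le
    refine Finset.mem_filter.2 ⟨Finset.mem_range.2 (Nat.mod_lt _ (by omega)), fun hd => hl ?_⟩
    exact (Nat.dvd_mod_iff (dvd_mul_left h 2)).1 hd
  have hRsrot : ∀ {z : P}, z ∈ Rs → ∃ l, ¬ h ∣ l ∧ z = F.rot l := fun {z} hz => by
    obtain ⟨l, hl, rfl⟩ := Finset.mem_image.1 hz
    exact ⟨l, (Finset.mem_filter.1 hl).2, rfl⟩
  -- weights with total one in every class
  set w : P → ℂ := fun z => (if z = 1 then 1 else 0) + (if z = F.rot h then 1 else 0) +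
    (if z ∈ Rs then 1 / 2 else 0) + if z ∈ F.free then ((F.cls z).card : ℂ)⁻¹ else 0 with hw
  have hRs1 : (1 : P) ∉ Rs := fun hm => by
    obtain ⟨l, hl, e⟩ := hRsrot hm
    exact F.rot_ne_one hl e.symm
  have hRsJ : ∀ {z : P}, z ∈ Rs → F.rot h ∉ F.cls z := fun {z} hm => by
    obtain ⟨l, hl, rfl⟩ := hRsrot hm
    exact F.J_not_mem_cls_rot hl
  have htot : ∀ y : P, ∑ z ∈ F.cls y, w z = 1 := by
    intro y
    simp only [hw, Finset.sum_add_distrib, Finset.sum_ite_eq', ← Finset.sum_filter]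
    by_cases h1 : y = 1
    · subst h1
      have hc1 : ∀ z ∈ F.cls 1, z = 1 := fun z hz => (F.eq_one_of_mem hz).2 rfl
      rw [Finset.filter_false_of_mem fun z hz => by rw [hc1 z hz]; exact hRs1,
        Finset.filter_false_of_mem fun z hz => by
          rw [hc1 z hz, F.mem_free]; exact fun h' => h'.1 rfl,
        if_pos (F.self_mem_cls 1), if_neg fun hm => F.rot_h_ne_one (hc1 _ hm)]
      simp
    have n1 : (1 : P) ∉ F.cls y := fun hm => h1 ((F.eq_one_of_mem hm).1 rfl)
    rw [if_neg n1]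
    by_cases hJ : F.rot h ∈ F.cls y
    · rw [if_pos hJ, Finset.filter_false_of_mem fun z hz hm => hRsJ hm (by rw [F.cls_eq hz]; exact hJ),
        Finset.filter_false_of_mem fun z hz => by
          rw [F.mem_free, F.cls_eq hz]; exact fun h' => h'.2.1 hJ]
      simp
    rw [if_neg hJ]
    by_cases hR : ∃ l : ℕ, ¬ h ∣ l ∧ F.rot l ∈ F.cls y
    · obtain ⟨l, hl, hly⟩ := hR
      have h2 : (F.cls y).filter (· ∈ Rs) = {F.rot l, F.rot (t * l)} := by
        ext z
        simp only [Finset.mem_filter, Finset.mem_insert, Finset.mem_singleton]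
        constructor
        · rintro ⟨hz, hzR⟩
          obtain ⟨m, hm, rfl⟩ := hRsrot hzR
          rw [← F.cls_eq hly] at hz
          rcases F.fus_rot hl hz with e1 | e1
          · exact Or.inl (Subtype.ext e1)
          · exact Or.inr (Subtype.ext e1)
        · rintro (rfl | rfl)
          · exact ⟨hly, hrotRs hl⟩
          · exact ⟨by rw [← F.cls_eq hly]; exact F.tau_conj_rot l, hrotRs (F.pres.not_dvd_mul hl)⟩
      rw [h2, Finset.filter_false_of_mem fun z hz => by
          rw [F.mem_free, F.cls_eq hz]; exact fun h' => h'.2.2 l hl hly,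
        Finset.sum_pair fun e1 => hl (F.pres.dvd_of_mul (by
          have := F.pres.pow_congr.1 (congrArg Subtype.val e1.symm)
          rwa [Nat.cast_mul] at this))]
      norm_num
    · push Not at hR
      have hfree : ∀ z ∈ F.cls y, z ∈ F.free := fun z hz =>
        F.free_closed (F.mem_free.2 ⟨h1, hJ, hR⟩) hz
      rw [Finset.filter_false_of_mem fun z hz hm => by
          obtain ⟨l, hl, rfl⟩ := hRsrot hm
          exact hR l hl hz,
        Finset.filter_true_of_mem hfree, Finset.sum_congr (s₁ := F.cls y) rfl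
          (g := fun _ => ((F.cls y).card : ℂ)⁻¹) fun z hz => by rw [F.cls_eq hz],
        ]
      simp [Finset.card_ne_zero.2 ⟨y, F.self_mem_cls y⟩]
  have key : ∑ y : P, nrm y / ((F.cls y).card : ℂ) = ∑ z : P, w z * nrm z := by
    calc ∑ y : P, nrm y / ((F.cls y).card : ℂ)
        = ∑ y : P, ∑ z ∈ F.cls y, w z * (nrm z / ((F.cls z).card : ℂ)) := by
          refine Finset.sum_congr rfl fun y _ => ?_
          rw [Finset.sum_congr rfl (g := fun z => w z * (nrm y / ((F.cls y).card : ℂ))) fun z hz => by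
            rw [F.cls_eq hz]; simp only [hnrm, F.nrm_eq hz], ← Finset.sum_mul, htot, one_mul]
      _ = ∑ z : P, ∑ y ∈ F.cls z, w z * (nrm z / ((F.cls z).card : ℂ)) :=
          Finset.sum_comm' fun y z => by
            simp only [Finset.mem_univ, true_and, and_true]
            exact ⟨fun h' => F.mem_cls_symm h', fun h' => F.mem_cls_symm h'⟩
      _ = _ := Finset.sum_congr rfl fun z _ => by
          have : ((F.cls z).card : ℂ) ≠ 0 :=
            Nat.cast_ne_zero.2 (Finset.card_pos.2 ⟨z, F.self_mem_cls z⟩).ne'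
          rw [Finset.sum_const, nsmul_eq_mul]
          field_simp
  have hfus := sum_secSum_fused F.hM F.hmax hχ hψ
  rw [Finset.sum_congr rfl (g := fun y => nrm y / ((F.cls y).card : ℂ)) fun y _ => by
    rw [hnrm, cls, div_div], key] at hfus
  simp only [hw, add_mul, ite_mul, zero_mul, one_mul, Finset.sum_add_distrib, Finset.sum_ite_eq',
    Finset.sum_ite_mem, Finset.univ_inter, Finset.mem_univ, if_true] at hfus
  rw [hRs, Finset.sum_image hinjR] at hfus
  have hfree : ∑ z ∈ F.free, ((F.cls z).card : ℂ)⁻¹ * (4 * nrm z) = ∑ K ∈ F.outCls, c K := by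
    rw [outCls, ← Finset.sum_fiberwise_of_maps_to (t := F.free.image F.cls)
      fun z hz => Finset.mem_image_of_mem _ hz]
    refine Finset.sum_congr rfl fun K hK => ?_
    obtain ⟨y, hy, rfl⟩ := Finset.mem_image.mp hK
    have hfib : F.free.filter (fun z => F.cls z = F.cls y) = F.cls y := by
      ext z
      simp only [Finset.mem_filter]
      exact ⟨fun hz => hz.2 ▸ F.self_mem_cls z, fun hz => ⟨F.free_closed hy hz, F.cls_eq hz⟩⟩
    rw [hfib, Finset.sum_congr rfl (g := fun _ => ((F.cls y).card : ℂ)⁻¹ * c (F.cls y)) fun z hz => ?_,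
      Finset.sum_const, nsmul_eq_mul, ← mul_assoc,
      mul_inv_cancel₀ (Nat.cast_ne_zero.2 (Finset.card_pos.2 ⟨y, F.self_mem_cls y⟩).ne'), one_mul]
    have hzf := F.free_closed hy hz
    obtain ⟨j, rfl⟩ := F.free_out hzf
    rw [F.cls_eq hz, ← F.cls_eq hz, ← hc _ hzf, hcon, F.card_cP_out, F.cls_eq hz]
    push_cast
    rfl
  rw [hcon, hcon, F.card_cP_center (F.one_center), F.card_cP_center F.J_center,
    Finset.sum_congr rfl (g := fun l => (2 * h : ℂ) * nrm (F.rot l)) (fun l hl => by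
      rw [hcon, F.card_cP_rot (Finset.mem_filter.1 hl).2]; push_cast; ring), ← hfree, ← hfus]
  push_cast
  simp only [mul_add, Finset.mul_sum]
  congr 1
  · congr 1
    refine Finset.sum_congr rfl fun l _ => ?_
    ring
  · refine Finset.sum_congr rfl fun z _ => ?_
    ring

end TFrame

end CfsgLib.Block.Tame
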