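import Cfsg.Agent.Lib.Block.Tame.TameShape

/-!
# The arithmetic of the two matrices of contributions

`Edge` : an integral matrix `A` with `A * A = 4 * h * A`, odd on the four, with entries at least two
from the four to `U` and at least `h` to the others.  `Rows` : two of them with the sum fixed by the
rotations and by the number `m` of the outer classes, with traces `4 * h * l`, `4 * h * l'`.
-/

open Finset

set_option autoImplicit false
set_option linter.unusedSectionVars false

namespace CfsgLib.Block.Tame.TameConfig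

variable {ι : Type*} [Fintype ι] [DecidableEq ι]

/-- The properties of one matrix. -/
structure Edge (h : ℕ) (A : ι → ι → ℤ) (S U : Finset ι) : Prop where
  symm : ∀ i j, A i j = A j i
  sq : ∀ i, ∑ k, A i k * A i k = 4 * h * A i i
  pos : ∀ i, 0 < A i i
  oddS : ∀ a ∈ S, ∀ i ∈ S, A a i % 2 = 1
  toU : ∀ a ∈ S, ∀ i ∈ U, 4 ≤ A a i * A a i
  toX : ∀ a ∈ S, ∀ i ∉ S ∪ U, (h : ℤ) * h ≤ A a i * A a i
  diagU : ∀ i ∈ U, A i i = 4
  diagX : ∀ i ∉ S ∪ U, A i i = 2 * h

/-- The two matrices. -/
structure Rows (h l l' m e : ℕ) (R A A' : ι → ι → ℤ) (S Ue Uo : Finset ι) : Prop where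
  shape : Shape h R S Ue Uo
  edge : Edge h A S (Ue ∪ Uo)
  edge' : Edge h A' S (Ue ∪ Uo)
  tr : ∑ i, A i i = 4 * h * l
  tr' : ∑ i, A' i i = 4 * h * l'
  four : ∀ a ∈ S, A a a + A' a a = (2 - (m : ℤ)) * h + 2
  off : ∀ a ∈ S, ∀ i ∈ S.erase a ∪ Ue, (m = 0 ∨ i ∉ S) → A a i + A' a i + R a i = 0
  card : Fintype.card ι = 4 + (h - 1) + e

namespace Rows

variable {h l l' m e : ℕ} {R A A' : ι → ι → ℤ} {S Ue Uo : Finset ι}
  (V : Rows h l l' m e R A A' S Ue Uo)
include V

theorem one_le : 2 ≤ h := by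
  have := V.shape.cardE
  omega

theorem card_U : ((Ue ∪ Uo).card : ℤ) = (h : ℤ) - 1 := by
  have h1 := V.shape.cardE
  have h2 := V.shape.cardO
  rw [Finset.card_union_of_disjoint V.shape.disjU]
  omega

theorem card_rest : (S ∪ (Ue ∪ Uo))ᶜ.card = e := by
  have h1 := V.shape.cardE
  have h2 := V.shape.cardO
  rw [Finset.card_compl, Finset.card_union_of_disjoint V.shape.disjS,
    Finset.card_union_of_disjoint V.shape.disjU, V.shape.four, V.card]
  omega

theorem split (F : ι → ℤ) :
    ∑ i, F i = ∑ i ∈ S, F i + ∑ i ∈ Ue ∪ Uo, F i + ∑ i ∈ (S ∪ (Ue ∪ Uo))ᶜ, F i := by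
  rw [← Finset.sum_union V.shape.disjS, Finset.sum_add_sum_compl]

theorem trace_four {B : ι → ι → ℤ} (hB : Edge h B S (Ue ∪ Uo)) {r : ℕ}
    (hr : ∑ i, B i i = 4 * h * r) :
    ∑ a ∈ S, B a a + 4 * ((h : ℤ) - 1) + 2 * h * e = 4 * h * r := by
  rw [← hr, V.split, Finset.sum_congr rfl hB.diagU,
    Finset.sum_congr rfl fun i hi => hB.diagX i (Finset.mem_compl.1 hi)]
  simp only [Finset.sum_const, nsmul_eq_mul, V.card_U, V.card_rest]
  ring

theorem ranks : l + l' + m = 4 + e := by
  have h1 := V.trace_four V.edge V.tr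
  have h2 := V.trace_four V.edge' V.tr'
  have h3 : ∑ a ∈ S, A a a + ∑ a ∈ S, A' a a = 4 * ((2 - (m : ℤ)) * h + 2) := by
    rw [← Finset.sum_add_distrib, Finset.sum_congr rfl V.four, Finset.sum_const, V.shape.four]
    simp
  have h4 : ((l : ℤ) + l' + m) * (4 * h) = (4 + e) * (4 * h) := by linear_combination h3 - h1 - h2
  have h5 := V.one_le
  have := mul_right_cancel₀ (show (4 * (h : ℤ)) ≠ 0 by omega) h4
  omega

/-- The bound for a row of the four. -/
theorem row_bound {B : ι → ι → ℤ} (hB : Edge h B S (Ue ∪ Uo)) {a : ι} (ha : a ∈ S) :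
    B a a * B a a + 3 + 4 * ((h : ℤ) - 1) + e * ((h : ℤ) * h) ≤ 4 * h * B a a := by
  rw [← hB.sq a, V.split, ← Finset.add_sum_erase S _ ha]
  have h1 : (3 : ℤ) ≤ ∑ i ∈ S.erase a, B a i * B a i := by
    have h0 : ∀ i ∈ S.erase a, (1 : ℤ) ≤ B a i * B a i := fun i hi => by
      have := hB.oddS a ha i (Finset.mem_of_mem_erase hi)
      have h2 : B a i ≠ 0 := fun e0 => by rw [e0] at this; omega
      have := mul_self_pos.2 h2
      omega
    have h2 := Finset.sum_le_sum h0
    rw [Finset.sum_const, Finset.card_erase_of_mem ha, V.shape.four] at h2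
    simpa using h2
  have h2 : 4 * ((h : ℤ) - 1) ≤ ∑ i ∈ Ue ∪ Uo, B a i * B a i := by
    have h3 := Finset.sum_le_sum (hB.toU a ha)
    rw [Finset.sum_const, nsmul_eq_mul, V.card_U] at h3
    linarith
  have h3 : (e : ℤ) * ((h : ℤ) * h) ≤ ∑ i ∈ (S ∪ (Ue ∪ Uo))ᶜ, B a i * B a i := by
    have h4 := Finset.sum_le_sum fun i hi => hB.toX a ha i (Finset.mem_compl.1 hi)
    rw [Finset.sum_const, nsmul_eq_mul, V.card_rest] at h4
    exact h4
  linarith

/-- An entry of at most one allows no further member. -/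
theorem no_rest_of_one {B : ι → ι → ℤ} (hB : Edge h B S (Ue ∪ Uo)) {a : ι} (ha : a ∈ S)
    (h1 : B a a = 1) : e = 0 := by
  have h2 := V.row_bound hB ha
  rw [h1] at h2
  by_contra he
  have h3 := V.one_le
  have h4 : (h : ℤ) * h ≤ (e : ℤ) * ((h : ℤ) * h) :=
    le_mul_of_one_le_left (mul_nonneg (by omega) (by omega)) (by omega)
  nlinarith

/-- A small entry allows at most two further members. -/
theorem rest_le_two {B : ι → ι → ℤ} (hB : Edge h B S (Ue ∪ Uo)) {a : ι} (ha : a ∈ S)
    (h1 : 2 * B a a ≤ h + 2) : e ≤ 2 := by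
  have h2 := V.row_bound hB ha
  by_contra he
  have h3 := V.one_le
  have h4 : 3 * ((h : ℤ) * h) ≤ (e : ℤ) * ((h : ℤ) * h) :=
    mul_le_mul_of_nonneg_right (by omega) (mul_nonneg (by omega) (by omega))
  have hp := hB.pos a
  nlinarith

section Local

variable (heq : ∀ a ∈ S, A' a a = A a a)
include heq

theorem rank_eq : l = l' := by
  have h1 := V.trace_four V.edge V.tr
  have h2 := V.trace_four V.edge' V.tr'
  rw [Finset.sum_congr rfl heq] at h2
  have h5 := V.one_le
  have := mul_left_cancel₀ (show (4 * (h : ℤ)) ≠ 0 by omega) (h1.symm.trans h2)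
  exact_mod_cast this

theorem local_two (hm : m = 2) : l' = 1 := by
  obtain ⟨a, ha⟩ := Finset.card_pos.1 (show 0 < S.card by rw [V.shape.four]; norm_num)
  have h1 := V.four a ha
  rw [heq a ha, hm] at h1
  have he := V.no_rest_of_one V.edge ha (by push_cast at h1; omega)
  have := V.ranks
  have := V.rank_eq heq
  omega

theorem local_one (hm : m = 1) : l' = 2 ∧ 4 ∣ h := by
  obtain ⟨a, ha⟩ := Finset.card_pos.1 (show 0 < S.card by rw [V.shape.four]; norm_num)
  have h1 := V.four a ha
  rw [heq a ha, hm] at h1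
  have h2 := V.edge.oddS a ha a ha
  have h3 := V.row_bound V.edge ha
  have he : e ≤ 1 := by
    by_contra he
    have h5 := V.one_le
    have h4 : 2 * ((h : ℤ) * h) ≤ (e : ℤ) * ((h : ℤ) * h) :=
      mul_le_mul_of_nonneg_right (by omega) (mul_nonneg (by omega) (by omega))
    push_cast at h1
    nlinarith
  have := V.ranks
  have := V.rank_eq heq
  push_cast at h1
  constructor <;> omega

theorem local_zero (hm : m = 0) (hsq : ∀ a ∈ S, ∀ i ∈ S.erase a ∪ Ue, A' a i * A' a i = A a i * A a i) :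
    l' = 3 := by
  have h5 := V.one_le
  have hdiag : ∀ a ∈ S, A a a = h + 1 := fun a ha => by
    have h1 := V.four a ha
    rw [heq a ha, hm] at h1
    push_cast at h1
    omega
  obtain ⟨a₀, ha₀⟩ := Finset.card_pos.1 (show 0 < S.card by rw [V.shape.four]; norm_num)
  have he : e ≤ 2 := by
    have h1 := V.row_bound V.edge ha₀
    rw [hdiag a₀ ha₀] at h1
    by_contra he
    have h4 : 3 * ((h : ℤ) * h) ≤ (e : ℤ) * ((h : ℤ) * h) :=
      mul_le_mul_of_nonneg_right (by omega) (mul_nonneg (by omega) (by omega))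
    nlinarith
  have hr := V.ranks
  have hl := V.rank_eq heq
  by_contra hne
  obtain rfl : e = 0 := by omega
  -- no further members is impossible
  have hrest : (S ∪ (Ue ∪ Uo))ᶜ = ∅ := Finset.card_eq_zero.1 V.card_rest
  have hsum : ∀ a ∈ S, ∑ i ∈ Uo, A a i * A a i = 2 * (h : ℤ) * h + 2 * h := by
    intro a ha
    have hhalf : ∀ i ∈ S.erase a ∪ Ue, 4 * (A a i * A a i) = R a i * R a i := by
      intro i hi
      have h1 := V.off a ha i hi (Or.inl hm)
      have h2 := hsq a ha i hi
      rcases mul_self_eq_mul_self_iff.1 h2 with e1 | e1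
      · rw [e1] at h1
        linear_combination (2 * A a i - R a i) * h1
      · rw [e1] at h1
        exact absurd (by linarith) (V.shape.pair_ne a ha i hi)
    have h1 := V.edge.sq a
    rw [V.split, hrest, Finset.sum_empty, add_zero, Finset.sum_union V.shape.disjU,
      ← Finset.add_sum_erase S _ ha, hdiag a ha] at h1
    have h2 := V.shape.pair_sum a ha
    rw [← Finset.sum_congr rfl hhalf, ← Finset.mul_sum,
      Finset.sum_union (Finset.disjoint_left.2 fun i hi hi' =>
        Finset.disjoint_left.1 V.shape.disjS (Finset.mem_of_mem_erase hi) (Finset.mem_union_left _ hi'))]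
      at h2
    linarith
  have hcol : ∀ r ∈ Uo, ∑ a ∈ S, A a r * A a r ≤ 16 * (h : ℤ) - 16 := by
    intro r hr'
    have h1 := V.edge.sq r
    rw [V.edge.diagU r (Finset.mem_union_right _ hr')] at h1
    have hrS : r ∉ S := Finset.disjoint_right.1 V.shape.disjS (Finset.mem_union_right _ hr')
    have h2 := Finset.sum_le_sum_of_subset_of_nonneg (Finset.subset_univ (insert r S))
      fun k _ _ => mul_self_nonneg (A r k)
    rw [Finset.sum_insert hrS, V.edge.diagU r (Finset.mem_union_right _ hr'), h1] at h2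
    rw [Finset.sum_congr rfl fun a _ => by rw [V.edge.symm a r]]
    linarith
  have h1 : 4 * (2 * (h : ℤ) * h + 2 * h) ≤ (Uo.card : ℤ) * (16 * (h : ℤ) - 16) := by
    have h2 := Finset.sum_le_sum hcol
    rw [Finset.sum_const, nsmul_eq_mul, Finset.sum_comm, Finset.sum_congr rfl hsum, Finset.sum_const,
      V.shape.four, nsmul_eq_mul] at h2
    simpa using h2
  have hUo : 2 * (Uo.card : ℤ) = h := by exact_mod_cast V.shape.cardO
  nlinarith

end Local

theorem four_le_sum : (4 : ℤ) ≤ ∑ a ∈ S, A' a a := by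
  have h3 := Finset.sum_le_sum fun a (_ : a ∈ S) => (show (1 : ℤ) ≤ A' a a from V.edge'.pos a)
  simpa [V.shape.four] using h3

/-- The further members when `m = 2`. -/
theorem global_two (hl' : l' = 1) : e = 0 := by
  by_contra he
  have h1 := V.trace_four V.edge' V.tr'
  have h5 := V.one_le
  have h2 := V.four_le_sum
  rw [hl'] at h1
  have h4 : (h : ℤ) * 1 ≤ (h : ℤ) * e := mul_le_mul_of_nonneg_left (by omega) (by omega)
  push_cast at h1
  linarith

theorem exists_le_of_sum {c : ℤ} (hc : ∑ a ∈ S, A' a a ≤ 4 * c) : ∃ a ∈ S, A' a a ≤ c := by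
  by_contra hne
  push Not at hne
  have h3 := Finset.sum_le_sum fun a ha => (show c + 1 ≤ A' a a from hne a ha)
  rw [Finset.sum_const, V.shape.four, nsmul_eq_mul] at h3
  push_cast at h3
  linarith

/-- The further members when `m = 1`: at most one. -/
theorem global_one (hl' : l' = 2) : e ≤ 1 := by
  by_contra he
  have h1 := V.trace_four V.edge' V.tr'
  have h5 := V.one_le
  have h2 := V.four_le_sum
  rw [hl'] at h1
  have h4 : (h : ℤ) * 2 ≤ (h : ℤ) * e := mul_le_mul_of_nonneg_left (by omega) (by omega)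
  push_cast at h1
  obtain ⟨a, ha, hle⟩ := V.exists_le_of_sum (c := 1) (by linarith)
  have := V.edge'.pos a
  have := V.no_rest_of_one V.edge' ha (by omega)
  omega

/-- The further members when `m = 0`: at most two. -/
theorem global_zero (hl' : l' = 3) : e ≤ 2 := by
  by_contra he
  have h1 := V.trace_four V.edge' V.tr'
  have h5 := V.one_le
  rw [hl'] at h1
  have h4 : (h : ℤ) * 3 ≤ (h : ℤ) * e := mul_le_mul_of_nonneg_left (by omega) (by omega)
  push_cast at h1
  have hne := V.shape.cardO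
  have h6 : ∑ a ∈ S, A' a a ≤ 2 * (h : ℤ) + 4 := by linarith
  obtain ⟨a, ha, hle⟩ := V.exists_le_of_sum (c := ((h : ℤ) + 2) / 2) (by omega)
  have := V.rest_le_two V.edge' ha (by omega)
  omega

end Rows

end CfsgLib.Block.Tame.TameConfig
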