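import Cfsg.Agent.Lib.Block.Tame.TameRot

/-!
# 2-blocks with quaternion or semidihedral defect group: the outer classes

At an element whose class avoids the rotations the diagonal contributions are one on the four members
of height zero and zero on the others (`TFrame.contrib_free`).
-/

open Finset MonoidAlgebra
open scoped ComplexConjugate

set_option autoImplicit false
set_option linter.unusedSectionVars false

namespace CfsgLib.Block.Tame

open Cfsg CfsgLib CfsgLib.Block CfsgLib.Block.CyclicDefect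
open scoped Pair

universe u

theorem exists_gauss_of_mem_cycInt {k : ℕ} (hk : k ≤ 2) {z : ℂ} (hz : z ∈ cycInt (2 ^ k)) :
    ∃ A B : ℤ, z = A + B * Complex.I := by
  induction hz using Subring.closure_induction with
  | mem x hx =>
    have h4 : x ^ 4 = 1 := by
      obtain ⟨c, hc⟩ : (2 ^ k) ∣ 4 := pow_dvd_pow 2 hk
      rw [hc, pow_mul, show x ^ 2 ^ k = 1 from by simpa using hx, one_pow]
    rcases sq_eq_one_iff.1 (show (x ^ 2) ^ 2 = 1 by rw [← pow_mul, h4]) with e | e
    · rcases sq_eq_one_iff.1 e with e | e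
      · exact ⟨1, 0, by simp [e]⟩
      · exact ⟨-1, 0, by simp [e]⟩
    · rcases sq_eq_sq_iff_eq_or_eq_neg.1 (show x ^ 2 = Complex.I ^ 2 by rw [e, Complex.I_sq]) with e | e
      · exact ⟨0, 1, by simp [e]⟩
      · exact ⟨0, -1, by simp [e]⟩
  | zero => exact ⟨0, 0, by simp⟩
  | one => exact ⟨1, 0, by simp⟩
  | add x y _ _ hx hy =>
    obtain ⟨A, B, rfl⟩ := hx
    obtain ⟨A', B', rfl⟩ := hy
    exact ⟨A + A', B + B', by push_cast; ring⟩
  | neg x _ hx =>
    obtain ⟨A, B, rfl⟩ := hx
    exact ⟨-A, -B, by push_cast; ring⟩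
  | mul x y _ _ hx hy =>
    obtain ⟨A, B, rfl⟩ := hx
    obtain ⟨A', B', rfl⟩ := hy
    exact ⟨A * A' - B * B', A * B' + B * A', by
      push_cast
      linear_combination (B : ℂ) * B' * Complex.I_sq⟩

variable {M : Ideal AlgInt} [M.IsMaximal] {G : Type u} [Group G] [Fintype G] [DecidableEq G]
  [Fintype (IrrCharacter G)] {B : Set (IrrCharacter G)} {P : Subgroup G}
  {e : Set (IrrCharacter (CQ P))}

namespace TFrame

variable {σ τ : G} {h t : ℕ} (F : TFrame M B P e σ τ h t)
include F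

theorem full_free {y : P} (hy : y ∈ F.free) :
    ∀ u ∈ F.cls y, Nat.card (cenIn u) ≤ Nat.card (cenIn y) := fun u hu => by
  obtain ⟨j, rfl⟩ := F.free_out hy
  obtain ⟨i, rfl⟩ := F.free_out (F.free_closed hy hu)
  rw [F.card_cP_out, F.card_cP_out]

open scoped Classical in
/-- The contributions at an element whose class avoids the rotations. -/
theorem contrib_free {y : P} (hy : y ∈ F.free) {χ ψ : IrrCharacter G} (hχ : χ ∈ B) :
    contrib 2 (lowPair F.hM F.hmax.1.1) χ χ y =
        (if blockHeight 2 B (χ : G → ℂ) = 0 then 1 else 0) ∧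
      (blockHeight 2 B (χ : G → ℂ) ≠ 0 → contrib 2 (lowPair F.hM F.hmax.1.1) χ ψ y = 0 ∧
        contrib 2 (lowPair F.hM F.hmax.1.1) ψ χ y = 0) := by
  set cn := fun χ ψ => contrib 2 (lowPair F.hM F.hmax.1.1) χ ψ y with hcn
  obtain ⟨hy1, hyJ, -⟩ := F.mem_free.1 hy
  have hcard : Nat.card (cenIn y) = 4 := by
    obtain ⟨j, rfl⟩ := F.free_out hy
    exact F.card_cP_out j
  have hfull := F.full_free hy
  obtain ⟨b, hb⟩ := exists_eq_pairMk (a := lowPair F.hM F.hmax.1.1 y)
    (Q := Subgroup.zpowers (y : G)) rfl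
  have hof := lowPair_pairOf F.hM F.hmax y
  have hdef := F.defect_low hfull
  rw [hb] at hof hdef
  dsimp only at hof hdef
  have := Fintype.ofFinite (IrrCharacter (CQ (Subgroup.zpowers (y : G))))
  obtain ⟨k, hk⟩ : ∃ k : ℕ, orderOf (y : G) = 2 ^ k := exists_pElement_orderOf F.hmax.1.1 y F.hM.1
  have hk2 : k ≤ 2 := by
    obtain ⟨j, rfl⟩ := F.free_out hy
    have h1 : orderOf (τ * σ ^ j) ∣ 2 ^ 2 := orderOf_dvd_of_pow_eq_one (F.pres.outer_pow_four j)
    rw [show orderOf (τ * σ ^ j) = 2 ^ k from hk] at h1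
    exact (Nat.pow_dvd_pow_iff_le_right Nat.one_lt_two).mp h1
  have hC : ∀ x : G, x ∈ CQ (Subgroup.zpowers (y : G)) ↔ Commute x (y : G) := fun _ => mem_cq_zpowers_iff
  have hind : IsInducedBlock M (CQ (Subgroup.zpowers (y : G))) b B :=
    (isBrauerPairOf_zpowers_iff F.hM F.hmax.1.2.1 ⟨k, hk⟩).mp hof
  have hbd : 2 ^ blockDefect 2 b = Nat.card (cenIn y) := by
    rw [← defectGroup_card F.hM hof.1.2 hdef, card_subgroupOf_inf]
  have hconj : ∀ χ, conj (cn χ χ) = cn χ χ := fun χ => by
    simp only [hcn, contrib, map_div₀, map_mul, map_natCast, conj_secSum]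
  have hint : ∀ χ, ∃ z : ℤ, cn χ χ = (z : ℂ) ∧ 0 ≤ z := by
    intro χ
    have hmem : cn χ χ ∈ cycInt (2 ^ k) := by
      have h1 := secContrib_mem_cycInt F.hM hk hC hind χ χ
      convert h1 using 1
      rw [secContrib_eq_secSum F.hM hof.1.2 (fun x => (hC x).mp x.2)]
      simp only [hcn, contrib, F.card_cent, hb, ← hbd]
      push_cast
      ring
    obtain ⟨A, B', e⟩ := exists_gauss_of_mem_cycInt hk2 hmem
    have hB : B' = 0 := by
      have h1 := congrArg Complex.im (hconj χ)
      rw [Complex.conj_im, e] at h1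
      simp at h1
      exact_mod_cast (show (B' : ℝ) = 0 by linarith)
    refine ⟨A, by rw [e, hB]; simp, ?_⟩
    have h1 : 0 ≤ (cn χ χ).re := by
      simp only [hcn, contrib, Complex.div_natCast_re]
      refine div_nonneg ?_ (Nat.cast_nonneg _)
      rw [Complex.mul_re, Complex.natCast_im, zero_mul, sub_zero, Complex.natCast_re]
      refine mul_nonneg (Nat.cast_nonneg _) ?_
      rw [secSum, Complex.re_sum]
      exact Finset.sum_nonneg fun s _ => by rw [Complex.mul_conj, Complex.ofReal_re]; exact Complex.normSq_nonneg _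
    rw [e, hB] at h1
    simpa using h1
  choose z hz hz0 using hint
  set s := Finset.univ.filter (fun χ : IrrCharacter G => χ ∈ B) with hs
  have hsum : ∑ χ ∈ s, z χ = 4 := by
    refine Int.cast_injective (α := ℂ) ?_
    push_cast
    simp only [← hz, hcn, contrib, F.card_cent, hcard]
    rw [← Finset.sum_div, ← Finset.mul_sum, sum_secSum_eq_rank F.hM ⟨k, hk⟩
      (lowPair_fst F.hM F.hmax.1.1 _) (lowPair_pairOf F.hM F.hmax _), F.rank_low hy1 hyJ,
      Nat.cast_one, mul_one, lowPair_fst, mul_div_cancel_right₀ _ (Nat.cast_ne_zero.2 Nat.card_pos.ne')]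
    norm_num
  set T : Finset (IrrCharacter G) := s.filter fun χ : IrrCharacter G => blockHeight 2 B (χ : G → ℂ) = 0 with hT
  have hT4 : 4 ≤ T.card := by
    refine F.four_le_heightZero.trans (le_of_eq (congrArg Finset.card ?_))
    rw [hT, hs, Finset.filter_filter]
  have hTone : ∀ χ ∈ T, 1 ≤ z χ := fun χ hχ' => by
    obtain ⟨h1, h2⟩ := Finset.mem_filter.1 hχ'
    have := F.contrib_odd hfull (Finset.mem_filter.1 h1).2 h2 (hz χ)
    have := hz0 χ
    omega
  have hsplit := Finset.sum_sdiff (f := z) (show T ⊆ s from Finset.filter_subset _ _)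
  have hTle : (T.card : ℤ) ≤ ∑ χ ∈ T, z χ := by simpa using Finset.sum_le_sum hTone
  have hrest : 0 ≤ ∑ χ ∈ s \ T, z χ := Finset.sum_nonneg fun χ _ => hz0 χ
  have hχs : χ ∈ s := by simp [hs, hχ]
  have hval : z χ = if blockHeight 2 B (χ : G → ℂ) = 0 then 1 else 0 := by
    split_ifs with h0
    · have hχT : χ ∈ T := Finset.mem_filter.2 ⟨hχs, h0⟩
      by_contra hne
      have h2 := Finset.sum_lt_sum hTone ⟨χ, hχT, lt_of_le_of_ne (hTone χ hχT) (Ne.symm hne)⟩
      simp only [Finset.sum_const, nsmul_eq_mul, mul_one] at h2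
      omega
    · have h2 := Finset.single_le_sum (fun x _ => hz0 x)
        (Finset.mem_sdiff.2 ⟨hχs, fun h' => h0 (Finset.mem_filter.1 h').2⟩ : χ ∈ s \ T)
      have := hz0 χ
      omega
  refine ⟨by rw [show contrib 2 (lowPair F.hM F.hmax.1.1) χ χ y = (z χ : ℂ) from hz χ, hval]; split_ifs <;> simp,
    fun h0 => ?_⟩
  rw [if_neg h0] at hval
  have h1 : contrib 2 (lowPair F.hM F.hmax.1.1) χ χ y = 0 := (hz χ).trans (by rw [hval, Int.cast_zero])
  have hsec : secSum 2 χ χ (y : G) (lowPair F.hM F.hmax.1.1 y) = 0 := by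
    rw [contrib] at h1
    rcases div_eq_zero_iff.1 h1 with e | e
    · exact (mul_eq_zero.1 e).resolve_left (Nat.cast_ne_zero.2 Nat.card_pos.ne')
    · exact absurd e (Nat.cast_ne_zero.2 Nat.card_pos.ne')
  have hzero : secSum 2 χ ψ (y : G) (lowPair F.hM F.hmax.1.1 y) = 0 :=
    Finset.sum_eq_zero fun x hx => by rw [eq_zero_of_sum_mul_conj hsec hx, zero_mul]
  constructor
  · rw [contrib, hzero, mul_zero, zero_div]
  · rw [contrib, ← conj_secSum χ ψ, hzero, map_zero, mul_zero, zero_div]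

end TFrame

end CfsgLib.Block.Tame
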