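import Cfsg.Agent.Lib.Block.Tame.TameProduct
import Cfsg.Agent.Lib.Block.Tame.TameOuter

/-!
# 2-blocks with quaternion or semidihedral defect group: the exceptional shapes do not occur

For the shape with `h = 8` the product of the sections at `σ` and `σ ^ 4`, for that with `h = 4` the
product of those at `σ` and `σ`, has the valuation forbidden by `TFrame.no_product`
(`TFrame.not_excEight`, `TFrame.not_excFour`).
-/

open Finset MonoidAlgebra
open scoped ComplexConjugate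

set_option autoImplicit false
set_option linter.unusedSectionVars false

namespace CfsgLib.Block.Tame

open Cfsg CfsgLib CfsgLib.Block CfsgLib.Block.CyclicDefect
open scoped Pair

universe u

/-- A root of unity of order dividing sixteen: exponents modulo sixteen. -/
theorem rotVal_eight {ι : Type*} {ζ : ℂ} (hζ : IsPrimitiveRoot ζ 16) {t : ℕ} (ht : t = 15 ∨ t = 7)
    (wh : ι → ℤ) (w u : Fin 3 → ι → ℤ) (i : ι) :
    TameConfig.rotVal ζ 8 t wh w u i 4 = (Config.fJ wh w i : ℂ) ∧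
    ((∀ c, u c i = 0) → TameConfig.rotVal ζ 8 t wh w u i 1 =
      -(wh i : ℂ) + (ζ ^ 2 + ζ ^ 14) * ((w 0 i : ℂ) - w 2 i)) ∧
    (ζ ^ 2 + ζ ^ 14) * (ζ ^ 2 + ζ ^ 14) = 2 ∧ conj (ζ ^ 2 + ζ ^ 14) = ζ ^ 2 + ζ ^ 14 := by
  have h8 : ζ ^ 8 = -1 := (hζ.pow (by norm_num) (by norm_num)).eq_neg_one_of_two_right
  have h16 : ζ ^ 16 = 1 := hζ.pow_eq_one
  have hn : ‖ζ‖ = 1 := Complex.norm_eq_one_of_pow_eq_one hζ.pow_eq_one (by norm_num)
  have hc : conj ζ = ζ⁻¹ := (Complex.inv_eq_conj hn).symm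
  have hp : ∀ m, ζ ^ m = ζ ^ (m % 16) := fun m => pow_eq_pow_mod m h16
  refine ⟨?_, fun hu => ?_, ?_, ?_⟩
  · rcases ht with rfl | rfl <;>
    · simp only [TameConfig.rotVal, Fin.sum_univ_three, Config.fJ, Fin.val_zero, Fin.val_one, Fin.val_two]
      norm_num
      simp only [hp 32, hp 120, hp 240, hp 180, hp 360, hp 96, hp 56, hp 20, hp 36, hp 52, hp 300, hp 540,
        hp 780, hp 140, hp 252, hp 364, hp 8, hp 16, hp 24, hp 168, hp 112]
      norm_num [h8]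
      linear_combination ((u 0 i : ℂ) * ζ ^ 4 + (u 1 i : ℂ) * ζ ^ 4 + (u 2 i : ℂ) * ζ ^ 4) * h8
  · rcases ht with rfl | rfl <;>
    · simp only [TameConfig.rotVal, Fin.sum_univ_three, hu, Fin.val_zero, Fin.val_one, Fin.val_two]
      norm_num
      simp only [hp 30, hp 60, hp 90, hp 14, hp 28, hp 42]
      norm_num
      linear_combination ((wh i : ℂ) + (w 1 i : ℂ) * ζ ^ 4 + (w 2 i : ℂ) * (ζ ^ 2 + ζ ^ 6)) * h8
  · linear_combination (ζ ^ 20 - ζ ^ 12 + ζ ^ 4) * h8 + (2 : ℂ) * h16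
  · have e2 : (ζ⁻¹) ^ 2 = ζ ^ 14 := by
      rw [inv_pow]; exact inv_eq_of_mul_eq_one_right (by rw [← pow_add]; exact h16)
    have e14 : (ζ⁻¹) ^ 14 = ζ ^ 2 := by
      rw [inv_pow]; exact inv_eq_of_mul_eq_one_right (by rw [← pow_add]; exact h16)
    rw [map_add, map_pow, map_pow, hc, e2, e14, add_comm]

/-- The value at `σ` for `h = 4`. -/
theorem rotVal_four {ι : Type*} {ζ : ℂ} (hζ : IsPrimitiveRoot ζ 8) {t : ℕ} (ht : t = 7 ∨ t = 3)
    (wh : ι → ℤ) (w u : Fin 1 → ι → ℤ) (i : ι) :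
    TameConfig.rotVal ζ 4 t wh w u i 1 = -((wh i : ℂ) + (u 0 i : ℂ) * (ζ + ζ ^ t)) ∧
    (ζ + ζ ^ t) * (ζ + ζ ^ t) = 2 * (if t = 7 then 1 else -1) ∧
    conj (ζ + ζ ^ t) = (if t = 7 then 1 else -1) * (ζ + ζ ^ t) := by
  have h4 : ζ ^ 4 = -1 := (hζ.pow (by norm_num) (by norm_num)).eq_neg_one_of_two_right
  have h8 : ζ ^ 8 = 1 := hζ.pow_eq_one
  have hn : ‖ζ‖ = 1 := Complex.norm_eq_one_of_pow_eq_one hζ.pow_eq_one (by norm_num)
  have hc : conj ζ = ζ⁻¹ := (Complex.inv_eq_conj hn).symm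
  have hp : ∀ m, ζ ^ m = ζ ^ (m % 8) := fun m => pow_eq_pow_mod m h8
  have hinv : ζ⁻¹ = ζ ^ 7 := inv_eq_of_mul_eq_one_right (by rw [← pow_succ']; exact h8)
  refine ⟨?_, ?_, ?_⟩
  · rcases ht with rfl | rfl <;>
    · simp only [TameConfig.rotVal, Fin.sum_univ_one, Fin.val_zero]
      norm_num
      simp only [hp 14, hp 35, hp 15]
      norm_num
      first
      | linear_combination ((wh i : ℂ) + (w 0 i : ℂ) * ζ ^ 2 + (u 0 i : ℂ) * (ζ + ζ ^ 3)) * h4
      | linear_combination ((wh i : ℂ) + (w 0 i : ℂ) * ζ ^ 2 + (u 0 i : ℂ) * (ζ ^ 3 + ζ)) * h4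
  · rcases ht with rfl | rfl <;> norm_num
    · linear_combination (ζ ^ 10 - ζ ^ 6 + ζ ^ 2) * h4 + (2 : ℂ) * h8
    · linear_combination (ζ ^ 2 + 2) * h4
  · rw [map_add, map_pow, hc, hinv]
    rcases ht with rfl | rfl <;> norm_num
    · rw [← pow_mul, hp (7 * 7)]
      norm_num
      ring
    · rw [← pow_mul, hp (7 * 3)]
      norm_num
      linear_combination (ζ ^ 3 + ζ) * h4

/-- The arithmetic of the degrees for the shape with `h = 4`. -/
theorem exc_four_arith {x y z k : ℤ} (hx : x % 2 = 1) (hy : y % 2 = 1) (hz : z % 2 = 1)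
    (hsum : 2 * x + y + z = 0) (hk : k = 14 ∨ k = 6) :
    ∃ m : ℤ, m % 2 = 1 ∧ k * (y * z) - 2 * (x * x) = 4 * m := by
  obtain ⟨a, rfl⟩ : ∃ a, x = 2 * a + 1 := ⟨x / 2, by omega⟩
  obtain ⟨b, rfl⟩ : ∃ b, y = 2 * b + 1 := ⟨y / 2, by omega⟩
  obtain rfl : z = -(4 * a + 2 * b + 3) := by omega
  rcases hk with rfl | rfl
  · exact ⟨2 * (-14 * a * b - 7 * (b * b) - 14 * b - 8 * a - a * a - 6) + 1,
      by rw [Int.add_emod, Int.mul_emod_right]; rfl, by ring⟩
  · exact ⟨2 * (-6 * a * b - 3 * (b * b) - 6 * b - 4 * a - a * a - 3) + 1,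
      by rw [Int.add_emod, Int.mul_emod_right]; rfl, by ring⟩

variable {M : Ideal AlgInt} [M.IsMaximal] {G : Type u} [Group G] [Fintype G] [DecidableEq G]
  [Fintype (IrrCharacter G)] {B : Set (IrrCharacter G)} {P : Subgroup G}
  {e : Set (IrrCharacter (CQ P))}

namespace TFrame

variable {σ τ : G} {h t : ℕ} (F : TFrame M B P e σ τ h t)
include F

theorem t_cases : t = 2 * h - 1 ∨ t = h - 1 := by
  rcases F.pres.kind with ⟨-, e⟩ | ⟨-, e, -⟩
  · exact Or.inl (by omega)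
  · exact Or.inr (by omega)

open scoped Classical in
/-- The shape with `h = 8` does not occur. -/
theorem not_excEight {n : ℕ} (hn : h = 2 * n + 2) {ζ : ℂ} (hζ : IsPrimitiveRoot ζ (2 * h))
    (wh : ↥(Finset.univ.filter fun χ : IrrCharacter G => χ ∈ B) → ℤ)
    (w u : Fin n → ↥(Finset.univ.filter fun χ : IrrCharacter G => χ ∈ B) → ℤ)
    (hS : ∀ i, wh i ≠ 0 → blockHeight 2 B ((i : IrrCharacter G) : G → ℂ) = 0)
    (hcon : ∀ i k : ↥(Finset.univ.filter fun χ : IrrCharacter G => χ ∈ B), ∀ l : ℕ, ¬ h ∣ l →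
      contrib 2 (lowPair F.hM F.hmax.1.1) (i : IrrCharacter G) (k : IrrCharacter G) (F.rot l) =
        TameConfig.rotVal ζ h t wh w u i l * conj (TameConfig.rotVal ζ h t wh w u k l))
    (hexc : TameConfig.IsExcEight wh w u
      (fun i => (charDegree ((i : IrrCharacter G) : G → ℂ) : ℤ))) : False := by
  obtain ⟨rfl, ⟨i₀, hi₀, -, hcross, hsum⟩, hu⟩ := hexc
  obtain rfl : h = 8 := by omega
  have ht : t = 15 ∨ t = 7 := F.t_cases
  simp only [Fin.cast_refl, id] at hcross hsum hu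
  refine F.no_product (k := 3) (by norm_num) (j := 4) (by decide) (by norm_num) ?_
    (TameConfig.rotVal ζ 8 t wh w u) hcon (Finset.mem_filter.mp i₀.2).2 (hS i₀ hi₀)
    (A := 1) (C := 9) one_ne_zero (by norm_num) ?_ ?_
  · intro j' hj' m hm
    rcases ht with rfl | rfl <;> rcases hj' with rfl | rfl <;> interval_cases m <;> decide
  · rw [Nat.factorization_one, Nat.factorization_eq_zero_of_not_dvd (by decide : ¬ 2 ∣ 9)]
    rfl
  set r : ℂ := ζ ^ 2 + ζ ^ 14 with hr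
  obtain ⟨-, -, hr2, hrc⟩ := rotVal_eight hζ ht wh w u i₀
  set T := ∑ i : ↥(Finset.univ.filter fun χ : IrrCharacter G => χ ∈ B),
    TameConfig.rotVal ζ 8 t wh w u i 1 * conj (TameConfig.rotVal ζ 8 t wh w u i 1) *
      TameConfig.rotVal ζ 8 t wh w u i 4 / ((i : IrrCharacter G) : G → ℂ) 1 with hT
  have eT : T = ((∑ i, (Config.fJ wh w i : ℚ) * (2 * (w 0 i - w 2 i) ^ 2 + (wh i : ℚ) ^ 2) /
      ((charDegree ((i : IrrCharacter G) : G → ℂ) : ℤ) : ℚ) : ℚ) : ℂ) -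
      2 * r * ((∑ i, (Config.fJ wh w i : ℚ) * (w 0 i - w 2 i) * wh i /
        ((charDegree ((i : IrrCharacter G) : G → ℂ) : ℤ) : ℚ) : ℚ) : ℂ) := by
    rw [hT, Rat.cast_sum, Rat.cast_sum, Finset.mul_sum, ← Finset.sum_sub_distrib]
    refine Finset.sum_congr rfl fun i _ => ?_
    obtain ⟨h4, h1, -, -⟩ := rotVal_eight hζ ht wh w u i
    rw [h4, (charDegree_eq (i : IrrCharacter G)).1]
    by_cases hf : Config.fJ wh w i = 0
    · simp [hf]
    rw [h1 (hu i hf), map_add, map_mul, map_sub, map_neg, map_intCast, map_intCast, map_intCast, ← hr, hrc]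
    push_cast
    linear_combination ((Config.fJ wh w i : ℂ) /
      (charDegree ((i : IrrCharacter G) : G → ℂ) : ℂ) * ((w 0 i : ℂ) - w 2 i) ^ 2) * hr2
  rw [hcross, Rat.cast_zero, mul_zero, sub_zero] at eT
  have hTc : conj T = T := by rw [eT, map_ratCast]
  rw [hTc]
  rcases hsum with e0 | e0
  · have e1 : ((3 * (charDegree ((i₀ : IrrCharacter G) : G → ℂ) : ℤ) : ℚ) : ℂ) * T = 8 := by
      rw [eT, ← Rat.cast_mul, e0]; norm_num
    push_cast at e1 ⊢
    linear_combination (3 * (charDegree ((i₀ : IrrCharacter G) : G → ℂ) : ℂ) * T + 8) * e1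
  · have e1 : ((3 * (charDegree ((i₀ : IrrCharacter G) : G → ℂ) : ℤ) : ℚ) : ℂ) * T = -8 := by
      rw [eT, ← Rat.cast_mul, e0]; norm_num
    push_cast at e1 ⊢
    linear_combination (3 * (charDegree ((i₀ : IrrCharacter G) : G → ℂ) : ℂ) * T - 8) * e1

open scoped Classical in
/-- The shape with `h = 4` does not occur. -/
theorem not_excFour {n : ℕ} (hn : h = 2 * n + 2) {ζ : ℂ} (hζ : IsPrimitiveRoot ζ (2 * h))
    (wh : ↥(Finset.univ.filter fun χ : IrrCharacter G => χ ∈ B) → ℤ)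
    (w u : Fin n → ↥(Finset.univ.filter fun χ : IrrCharacter G => χ ∈ B) → ℤ)
    (S : Finset ↥(Finset.univ.filter fun χ : IrrCharacter G => χ ∈ B))
    (hS : ∀ i ∈ S, blockHeight 2 B ((i : IrrCharacter G) : G → ℂ) = 0)
    (hunit : ∀ i ∈ S, wh i = 1 ∨ wh i = -1) (hzero : ∀ i ∉ S, wh i = 0)
    (hcon : ∀ i k : ↥(Finset.univ.filter fun χ : IrrCharacter G => χ ∈ B), ∀ l : ℕ, ¬ h ∣ l →
      contrib 2 (lowPair F.hM F.hmax.1.1) (i : IrrCharacter G) (k : IrrCharacter G) (F.rot l) =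
        TameConfig.rotVal ζ h t wh w u i l * conj (TameConfig.rotVal ζ h t wh w u k l))
    (hexc : TameConfig.IsExcFour wh u (fun i => (charDegree ((i : IrrCharacter G) : G → ℂ) : ℤ)) S) :
    False := by
  obtain ⟨rfl, r₀, r₁, c, e', s, h01, h0c, h0e, h1c, h1e, hce, hS4, hw1, hd1, hdeg, hs, hu⟩ := hexc
  obtain rfl : h = 4 := by omega
  have ht : t = 7 ∨ t = 3 := F.t_cases
  have hr0S : r₀ ∈ S := by simp [hS4]
  have hcS : c ∈ S := by simp [hS4]
  have heS : e' ∈ S := by simp [hS4]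
  -- the odd parts of the degrees
  set x := wh r₀ * (redDeg 2 B (r₀ : IrrCharacter G) : ℤ) with hx
  set y := wh c * (redDeg 2 B (c : IrrCharacter G) : ℤ) with hy
  set z := wh e' * (redDeg 2 B (e' : IrrCharacter G) : ℤ) with hz
  have hred : ∀ i ∈ S, (wh i * (redDeg 2 B (i : IrrCharacter G) : ℤ)) % 2 = 1 ∧
      (wh i * (charDegree ((i : IrrCharacter G) : G → ℂ) : ℤ)) =
        2 ^ minDeg 2 B * (wh i * (redDeg 2 B (i : IrrCharacter G) : ℤ)) := by
    intro i hi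
    have hiB := (Finset.mem_filter.mp i.2).2
    have h1 := not_dvd_redDeg F.hM hiB (hS i hi)
    refine ⟨?_, ?_⟩
    · rcases hunit i hi with e | e <;> rw [e] <;> omega
    · rw [← pow_minDeg_mul_redDeg F.hM hiB]; push_cast; ring
  have hsum : 2 * x + y + z = 0 := by
    refine (mul_eq_zero.1 ?_).resolve_left (pow_ne_zero (minDeg 2 B) (two_ne_zero (α := ℤ)))
    linear_combination hdeg - 2 * (hred r₀ hr0S).2 - (hred c hcS).2 - (hred e' heS).2
  set k : ℤ := if t = 7 then 14 else 6 with hk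
  obtain ⟨m, hm, hkm⟩ := exc_four_arith (hred r₀ hr0S).1 (hred c hcS).1 (hred e' heS).1 hsum
    (show k = 14 ∨ k = 6 by rw [hk]; split_ifs <;> simp)
  rw [← hy, ← hz, ← hx] at hkm
  have hy0 : y * z ≠ 0 := by
    refine mul_ne_zero ?_ ?_
    · have := (hred c hcS).1; intro e0; rw [← hy, e0] at this; omega
    · have := (hred e' heS).1; intro e0; rw [← hz, e0] at this; omega
  have hm0 : m ≠ 0 := by omega
  refine F.no_product (k := 2) (by norm_num) (j := 1) (by decide) (by norm_num) ?_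
    (TameConfig.rotVal ζ 4 t wh w u) hcon (Finset.mem_filter.mp r₀.2).2 (hS r₀ hr0S)
    (A := m.natAbs * m.natAbs) (C := (y * z).natAbs * (y * z).natAbs)
    (by simp [hm0]) (by simp [hy0]) ?_ ?_
  · intro j' hj' m' hm'
    rcases ht with rfl | rfl <;> rcases hj' with rfl | rfl <;> interval_cases m' <;> decide
  · have hyz : (y * z) % 2 = 1 := by
      rw [Int.mul_emod, (hred c hcS).1, (hred e' heS).1]; rfl
    have h1 : ¬ 2 ∣ m.natAbs * m.natAbs := fun hd => by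
      rcases (Nat.Prime.dvd_mul Nat.prime_two).1 hd with hd | hd <;> omega
    have h2 : ¬ 2 ∣ (y * z).natAbs * (y * z).natAbs := fun hd => by
      rcases (Nat.Prime.dvd_mul Nat.prime_two).1 hd with hd | hd <;> omega
    rw [Nat.factorization_eq_zero_of_not_dvd h1, Nat.factorization_eq_zero_of_not_dvd h2]
  set φ : ℂ := ζ + ζ ^ t with hφ
  obtain ⟨-, hφ2, hφc⟩ := rotVal_four hζ ht wh w u r₀
  set ε : ℂ := if t = 7 then 1 else -1 with hε
  have hε2 : ε * ε = 1 := by rw [hε]; split_ifs <;> norm_num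
  have hkε : (k : ℂ) = 10 + 4 * ε := by rw [hk, hε]; split_ifs <;> norm_num
  set T := ∑ i : ↥(Finset.univ.filter fun χ : IrrCharacter G => χ ∈ B),
    TameConfig.rotVal ζ 4 t wh w u i 1 * conj (TameConfig.rotVal ζ 4 t wh w u i 1) *
      TameConfig.rotVal ζ 4 t wh w u i 1 / ((i : IrrCharacter G) : G → ℂ) 1 with hT
  set F1 : ↥(Finset.univ.filter fun χ : IrrCharacter G => χ ∈ B) → ℂ := fun i =>
    -((wh i : ℂ) + (u 0 i : ℂ) * φ) * -((wh i : ℂ) + (u 0 i : ℂ) * (ε * φ)) *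
      -((wh i : ℂ) + (u 0 i : ℂ) * φ) / (charDegree ((i : IrrCharacter G) : G → ℂ) : ℂ) with hF1
  have eT : T = F1 r₀ + (F1 r₁ + (F1 c + F1 e')) := by
    have hz' : ∀ i ∉ S, F1 i = 0 := fun i hi => by
      have h1 : u 0 i = 0 := by
        rw [hS4] at hi
        simp only [Finset.mem_insert, Finset.mem_singleton, not_or] at hi
        rw [hu, if_neg hi.1, if_neg hi.2.1]
      simp [hF1, hzero i hi, h1]
    rw [hT, Finset.sum_congr rfl (g := F1) fun i _ => ?_,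
      ← Finset.sum_subset (Finset.subset_univ S) fun i _ hi => hz' i hi, hS4,
      Finset.sum_insert (by simp [h01, h0c, h0e]), Finset.sum_insert (by simp [h1c, h1e]),
      Finset.sum_pair hce]
    rw [(rotVal_four hζ ht wh w u i).1, (charDegree_eq (i : IrrCharacter G)).1, ← hφ, map_neg, map_add,
      map_mul, map_intCast, map_intCast, hφc]
  have hd1' : (charDegree ((r₁ : IrrCharacter G) : G → ℂ) : ℂ) =
      (charDegree ((r₀ : IrrCharacter G) : G → ℂ) : ℂ) := by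
    have e := hd1
    simp only at e
    exact_mod_cast e
  have hu0 : u 0 r₀ = s := by rw [hu, if_pos rfl]
  have hu1 : u 0 r₁ = -s := by rw [hu, if_neg h01.symm, if_pos rfl]
  have huc : u 0 c = 0 := by rw [hu, if_neg h0c.symm, if_neg h1c.symm]
  have hue : u 0 e' = 0 := by rw [hu, if_neg h0e.symm, if_neg h1e.symm]
  have hs2 : (s : ℂ) * s = 1 := by rcases hs with rfl | rfl <;> norm_num
  have hsq : ∀ i ∈ S, (wh i : ℂ) * wh i = 1 := fun i hi => by
    rcases hunit i hi with e | e <;> rw [e] <;> norm_num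
  set p : ℂ := (2 : ℂ) ^ minDeg 2 B with hp
  have hcd : ∀ i ∈ S, (charDegree ((i : IrrCharacter G) : G → ℂ) : ℂ) =
      p * (redDeg 2 B (i : IrrCharacter G) : ℂ) := fun i _ => by
    rw [hp, ← pow_minDeg_mul_redDeg F.hM (Finset.mem_filter.mp i.2).2]; push_cast; rfl
  have hr0 : ∀ i ∈ S, (redDeg 2 B (i : IrrCharacter G) : ℂ) ≠ 0 := fun i hi => by
    have h1 := not_dvd_redDeg F.hM (Finset.mem_filter.mp i.2).2 (hS i hi)
    exact Nat.cast_ne_zero.2 fun e => h1 (e ▸ dvd_zero 2)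
  have hp0 : p ≠ 0 := pow_ne_zero _ two_ne_zero
  have hA : ((m.natAbs * m.natAbs : ℕ) : ℂ) = (m : ℂ) * m := by
    rw [← Int.cast_natCast, Int.natCast_mul, Int.natAbs_mul_self', Int.cast_mul]
  have hC : (((y * z).natAbs * (y * z).natAbs : ℕ) : ℂ) = ((y * z : ℤ) : ℂ) * ((y * z : ℤ) : ℂ) := by
    rw [← Int.cast_natCast, Int.natCast_mul, Int.natAbs_mul_self', Int.cast_mul]
  have hkm' : (k : ℂ) * ((y : ℂ) * z) - 2 * ((x : ℂ) * x) = 4 * m := by exact_mod_cast hkm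
  have hsum' : 2 * (x : ℂ) + y + z = 0 := by exact_mod_cast hsum
  have e01 : F1 r₀ + F1 r₁ =
      -((wh r₀ : ℂ) * k) / (charDegree ((r₀ : IrrCharacter G) : G → ℂ) : ℂ) := by
    simp only [hF1, hd1', hu0, hu1, hw1, Int.cast_neg, hkε, ← add_div]
    congr 1
    linear_combination (-2 * (wh r₀ : ℂ)) * hsq r₀ hr0S -
      2 * (wh r₀ : ℂ) * (2 * ε + 1) * φ * φ * hs2 - 2 * (wh r₀ : ℂ) * (2 * ε + 1) * hφ2 -
      8 * (wh r₀ : ℂ) * hε2
  have e2 : ∀ i ∈ S, u 0 i = 0 → F1 i * ((wh i : ℂ) * (redDeg 2 B (i : IrrCharacter G) : ℂ)) = -p⁻¹ := by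
    intro i hi h0
    have := hr0 i hi
    simp only [hF1, h0, hcd i hi, Int.cast_zero, zero_mul, add_zero]
    field_simp
    linear_combination (-((wh i : ℂ) * wh i + 1)) * hsq i hi
  have key : (charDegree ((r₀ : IrrCharacter G) : G → ℂ) : ℂ) * T * ((y : ℂ) * z) = -(wh r₀ : ℂ) * (4 * m) := by
    have hyc : (y : ℂ) = (wh c : ℂ) * (redDeg 2 B (c : IrrCharacter G) : ℂ) := by rw [hy]; push_cast; rfl
    have hzc : (z : ℂ) = (wh e' : ℂ) * (redDeg 2 B (e' : IrrCharacter G) : ℂ) := by rw [hz]; push_cast; rfl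
    have hxc : (x : ℂ) = (wh r₀ : ℂ) * (redDeg 2 B (r₀ : IrrCharacter G) : ℂ) := by rw [hx]; push_cast; rfl
    have q2 := e2 c hcS huc
    have q3 := e2 e' heS hue
    rw [← hyc] at q2
    rw [← hzc] at q3
    have hd0 : (charDegree ((r₀ : IrrCharacter G) : G → ℂ) : ℂ) ≠ 0 := Nat.cast_ne_zero.2 (charDegree_eq _).2
    have hdp : (charDegree ((r₀ : IrrCharacter G) : G → ℂ) : ℂ) * p⁻¹ = (redDeg 2 B (r₀ : IrrCharacter G) : ℂ) := by
      rw [hcd r₀ hr0S, mul_comm p, mul_inv_cancel_right₀ hp0]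
    rw [eT, ← add_assoc, e01, ← hkm']
    field_simp
    linear_combination (charDegree ((r₀ : IrrCharacter G) : G → ℂ) : ℂ) * (z : ℂ) * q2 +
      (charDegree ((r₀ : IrrCharacter G) : G → ℂ) : ℂ) * (y : ℂ) * q3 - ((z : ℂ) + y) * hdp -
      (redDeg 2 B (r₀ : IrrCharacter G) : ℂ) * hsum' - (2 * (wh r₀ : ℂ) * x) * hxc -
      (2 * (x : ℂ) * (redDeg 2 B (r₀ : IrrCharacter G) : ℂ)) * hsq r₀ hr0S
  have hTc : conj T = T := by
    rw [eT]
    simp only [hF1, hd1', hu0, hu1, huc, hue, hw1, map_add, map_div₀, map_mul, map_neg, map_intCast,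
      map_natCast, map_zero, hφc, Int.cast_neg, Int.cast_zero, zero_mul, add_zero]
    rw [show conj ε = ε by rw [hε]; split_ifs <;> simp]
    ring_nf
    grobner
  rw [hA, hC, hTc]
  push_cast
  linear_combination ((charDegree ((r₀ : IrrCharacter G) : G → ℂ) : ℂ) * T * ((y : ℂ) * z) -
    (wh r₀ : ℂ) * (4 * m)) * key + (16 * (m : ℂ) * m) * hsq r₀ hr0S

end TFrame

end CfsgLib.Block.Tame
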