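import Cfsg.Agent.Lib.Block.Tame.TameOuter
import Cfsg.Agent.Lib.Block.BlockCount

/-!
# 2-blocks with quaternion or semidihedral defect group: the members vanishing at the rotations

A member of positive height with zero contributions at the rotations of order at least four vanishes
at every `σ ^ l * g`, `g` regular and commuting with `σ ^ l`, so `h` divides its value at a defect
class and its height is at least `k` (`TFrame.le_height_of_contrib_zero`, `h = 2 ^ k`).
-/

open Finset MonoidAlgebra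
open scoped ComplexConjugate

set_option autoImplicit false
set_option linter.unusedSectionVars false

namespace CfsgLib.Block.Tame

open Cfsg CfsgLib CfsgLib.Block CfsgLib.Block.CyclicDefect
open scoped Pair

universe u

variable {M : Ideal AlgInt} [M.IsMaximal] {G : Type u} [Group G] [Fintype G] [DecidableEq G]
  [Fintype (IrrCharacter G)] {B : Set (IrrCharacter G)} {P : Subgroup G}
  {e : Set (IrrCharacter (CQ P))}

namespace TFrame

variable {σ τ : G} {h t : ℕ} (F : TFrame M B P e σ τ h t)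
include F

/-- The contributions away from `1` and the class of the central involution vanish. -/
theorem contrib_zero_of_rot {χ : IrrCharacter G} (hχ : χ ∈ B)
    (h0 : blockHeight 2 B (χ : G → ℂ) ≠ 0)
    (hz : ∀ l : ℕ, ¬ h ∣ l → contrib 2 (lowPair F.hM F.hmax.1.1) χ χ (F.rot l) = 0) {y : P}
    (hy : (y : G) * (y : G) ≠ 1) {s : G} (hs : s ∈ regC 2 (y : G)) :
    secPart χ (y : G) (lowPair F.hM F.hmax.1.1 y) s = 0 := by
  classical
  have hcard : ∀ z : P, (Nat.card (Subgroup.centralizer ({z} : Set P)) : ℂ) ≠ 0 := fun z =>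
    Nat.cast_ne_zero.2 Nat.card_pos.ne'
  have hCQ : ∀ z : G, (Nat.card (CQ (Subgroup.zpowers z)) : ℂ) ≠ 0 := fun z =>
    Nat.cast_ne_zero.2 Nat.card_pos.ne'
  have hzero : ∀ z : P, contrib 2 (lowPair F.hM F.hmax.1.1) χ χ z = 0 →
      secSum 2 χ χ (z : G) (lowPair F.hM F.hmax.1.1 z) = 0 := by
    intro z h1
    rw [contrib] at h1
    rcases div_eq_zero_iff.1 h1 with e | e
    · exact (mul_eq_zero.1 e).resolve_left (hcard z)
    · exact absurd e (hCQ _)
  have hy1 : y ≠ 1 := fun e0 => hy (by rw [e0]; simp)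
  have hyJ : F.rot h ∉ F.cls y := fun hm => hy ((F.sq_of_mem hm).1 F.pres.sigma_h_sq)
  have hsum : secSum 2 χ χ (y : G) (lowPair F.hM F.hmax.1.1 y) = 0 := by
    by_cases hfree : ∀ l : ℕ, ¬ h ∣ l → F.rot l ∉ F.cls y
    · have h1 := (F.contrib_free (ψ := χ) (F.mem_free.2 ⟨hy1, hyJ, hfree⟩) hχ).1
      rw [if_neg h0] at h1
      exact hzero y h1
    · push Not at hfree
      obtain ⟨l, hl, hm⟩ := hfree
      have h1 := F.nrm_eq hm χ χ
      rw [hzero _ (hz l hl), zero_div] at h1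
      exact (div_eq_zero_iff.1 h1.symm).resolve_right (hCQ _)
  obtain ⟨h1, h2⟩ := mem_regC.1 hs
  exact eq_zero_of_sum_mul_conj hsum
    (Finset.mem_filter.2 ⟨Finset.mem_univ _, h1, h2⟩)

/-- Such a member vanishes on the sections of the rotations of order at least four. -/
theorem apply_zero_of_rot {χ : IrrCharacter G} (hχ : χ ∈ B)
    (h0 : blockHeight 2 B (χ : G → ℂ) ≠ 0)
    (hz : ∀ l : ℕ, ¬ h ∣ l → contrib 2 (lowPair F.hM F.hmax.1.1) χ χ (F.rot l) = 0) {l : ℕ}
    (hl : ¬ h ∣ l) {s : G} (hs : s ∈ regC 2 (σ ^ l)) : (χ : G → ℂ) (σ ^ l * s) = 0 := by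
  have hu : ∃ j : ℕ, orderOf (σ ^ l) = 2 ^ j := exists_pElement_orderOf F.hmax.1.1 (F.rot l) F.hM.1
  rw [apply_eq_sum_secPart F.hM χ hu hs]
  refine Finset.sum_eq_zero fun a ha => ?_
  obtain ⟨ha1, hab⟩ := mem_pairsAt.1 ha
  obtain ⟨b, rfl⟩ := exists_eq_pairMk ha1
  have hC : ∀ x : G, x ∈ CQ (Subgroup.zpowers (σ ^ l)) ↔ Commute x (σ ^ l) := fun _ => mem_cq_zpowers_iff
  haveI := Fintype.ofFinite (IrrCharacter (CQ (Subgroup.zpowers (σ ^ l))))
  obtain ⟨B', hB'⟩ := exists_induced_centralizer F.hM hu hC hab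
  have hof : IsBrauerPairOf 2 M B' (Subgroup.zpowers (σ ^ l)) b :=
    (isBrauerPairOf_zpowers_iff F.hM hB'.2.1 hu).mpr hB'
  by_cases hχB : χ ∈ B'
  swap
  · exact secPart_eq_zero_of_not_mem F.hM hχB hu ha hs hof
  rw [isPBlock_eq_of_mem hB'.2.1 F.hmax.1.2.1 hχB hχ] at hof
  obtain ⟨x, hx⟩ := exists_conj_subpairLE F.hM F.hmax hof
  have hyP : x * σ ^ l * x⁻¹ ∈ P := SubpairLE.le hx (conj_mem_cjS.mpr (Subgroup.mem_zpowers _))
  have hlow : cjP x (⟨Subgroup.zpowers (σ ^ l), b⟩ : BrauerPairIdx G) =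
      lowPair F.hM F.hmax.1.1 ⟨x * σ ^ l * x⁻¹, hyP⟩ :=
    below_ext F.hM F.hmax.1.1 hx (lowPair_below F.hM F.hmax.1.1 _) (cjS_zpowers x (σ ^ l))
  rw [← secPart_cjP χ x, hlow]
  refine F.contrib_zero_of_rot hχ h0 hz (fun e1 => ?_) ?_
  · refine (F.pres.sq_ne_iff l).2 hl ?_
    have e2 : x * (σ ^ l * σ ^ l) * x⁻¹ = 1 := by rw [← e1]; show _ = x * σ ^ l * x⁻¹ * (x * σ ^ l * x⁻¹); group
    exact conj_eq_one_iff.1 e2
  · obtain ⟨h1, h2⟩ := mem_regC.1 hs
    refine mem_regC.2 ⟨mem_cq_zpowers_iff.2 ((mem_cq_zpowers_iff.1 h1).map (MulAut.conj x).toMonoidHom), ?_⟩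
    rwa [orderOf_conj_eq]

/-- The height of a member vanishing at the rotations. -/
theorem le_height_of_contrib_zero {k : ℕ} (hk : h = 2 ^ k) {χ : IrrCharacter G} (hχ : χ ∈ B)
    (h0 : blockHeight 2 B (χ : G → ℂ) ≠ 0)
    (hz : ∀ l : ℕ, ¬ h ∣ l → contrib 2 (lowPair F.hM F.hmax.1.1) χ χ (F.rot l) = 0) :
    k ≤ blockHeight 2 B (χ : G → ℂ) := by
  classical
  have := charP_resField F.hM
  have h2h := F.pres.two_le
  obtain ⟨g, hg, hgc, hgω⟩ := exists_isSylowCent_of_isDefectGroup F.hM F.hmax.1.2.1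
    (isDefectGroup_of_maximal F.hM F.hmax)
  have hgreg := regular_of_coeffRes_ne_zero F.hM (.of_isPBlock F.hmax.1.2.1) hgc
  have hgσ : Commute g σ := (hg.commute σ F.pres.memσ).symm
  set C := CQ (Subgroup.zpowers σ) with hCdef
  have hσC : σ ∈ C := mem_cq_zpowers_iff.2 (Commute.refl σ)
  have hgC : g ∈ C := mem_cq_zpowers_iff.2 hgσ
  have := Fintype.ofFinite (IrrCharacter C)
  set z : C := ⟨σ, hσC⟩ with hz'
  have hzc : ∀ x : C, Commute z x := fun x => Subtype.ext (mem_cq_zpowers_iff.1 x.2).symm.eq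
  have hzn : z ^ (2 * h) = 1 := Subtype.ext (F.pres.pow_eq_one.2 dvd_rfl)
  choose lam hlam hlamt using fun η : IrrCharacter C => exists_central_scalar η hzc hzn
  set v : IrrCharacter C → ℂ := fun η => (resMult χ η : ℂ) * (η : C → ℂ) ⟨g, hgC⟩ with hv
  have hexp : ∀ l : ℕ, (χ : G → ℂ) (σ ^ l * g) = ∑ η, lam η ^ l * v η := by
    intro l
    induction l with
    | zero =>
      simp only [pow_zero, one_mul, hv]
      exact res_eq_sum_resMult χ ⟨g, hgC⟩
    | succ l _ =>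
      have hpow : ∀ (m : ℕ) (η : IrrCharacter C), (η : C → ℂ) (z ^ m * ⟨g, hgC⟩) = lam η ^ m * (η : C → ℂ) ⟨g, hgC⟩ := by
        intro m η
        induction m with
        | zero => simp
        | succ m ih => rw [pow_succ', mul_assoc, hlamt, ih, pow_succ']; ring
      rw [show σ ^ (l + 1) * g = ((z ^ (l + 1) * ⟨g, hgC⟩ : C) : G) from rfl, res_eq_sum_resMult]
      exact Finset.sum_congr rfl fun η _ => by rw [hpow, hv]; ring
  -- the two sums over the rotations
  obtain ⟨ζ, hζ⟩ : ∃ ζ : ℂ, IsPrimitiveRoot ζ (2 * h) := ⟨_, Complex.isPrimitiveRoot_exp (2 * h) (by omega)⟩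
  have hζh : ζ ^ h = -1 := (hζ.pow (by omega) (by ring)).eq_neg_one_of_two_right
  have hgeom : ∀ μ : ℂ, μ ^ (2 * h) = 1 →
      ∑ l ∈ Finset.range (2 * h), μ ^ l = if μ = 1 then (2 * h : ℂ) else 0 := by
    intro μ hμ
    split_ifs with e1
    · subst e1; simp
    · rw [geom_sum_eq e1, hμ, sub_self, zero_div]
  have hsum : ∀ μ : ℂ, μ ^ (2 * h) = 1 →
      ∃ w : ℂ, IsIntegral ℤ w ∧ (χ : G → ℂ) g + μ ^ h * (χ : G → ℂ) (σ ^ h * g) = (2 * h : ℂ) * w := by
    intro μ hμ
    refine ⟨∑ η ∈ Finset.univ.filter (fun η : IrrCharacter C => μ * lam η = 1), v η,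
      IsIntegral.sum _ fun η _ => ?_, ?_⟩
    · have hi : IsIntegral ℤ ((η : C → ℂ) ⟨g, hgC⟩) :=
        Char.isCharacter_isIntegral (Char.isCharacter_irr η) _
      have hn : IsIntegral ℤ (resMult χ η : ℂ) := by
        simpa using (isIntegral_algebraMap (R := ℤ) (A := ℂ) (x := (resMult χ η : ℤ)))
      exact hn.mul hi
    have h1 : ∑ l ∈ Finset.range (2 * h), μ ^ l * (χ : G → ℂ) (σ ^ l * g) =
        (χ : G → ℂ) g + μ ^ h * (χ : G → ℂ) (σ ^ h * g) := by
      rw [← Finset.sum_subset (s₁ := ({0, h} : Finset ℕ)) (fun x hx => by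
          simp only [Finset.mem_insert, Finset.mem_singleton] at hx
          rw [Finset.mem_range]
          omega) fun x hx hx' => ?_, Finset.sum_pair (by omega)]
      · simp
      · simp only [Finset.mem_insert, Finset.mem_singleton, not_or] at hx'
        rw [F.apply_zero_of_rot hχ h0 hz (fun hd => ?_) (mem_regC.2
          ⟨mem_cq_zpowers_iff.2 (hgσ.pow_right x), hgreg⟩), mul_zero]
        obtain ⟨c, rfl⟩ := hd
        rw [Finset.mem_range] at hx
        rcases (show c = 0 ∨ c = 1 by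
          by_contra hcon
          have := Nat.mul_le_mul_left h (show 2 ≤ c by omega)
          omega) with rfl | rfl <;> simp at hx'
    rw [← h1, Finset.mul_sum]
    simp only [hexp, Finset.mul_sum, ← mul_assoc, ← mul_pow]
    rw [Finset.sum_comm, Finset.sum_filter]
    refine Finset.sum_congr rfl fun η _ => ?_
    rw [← Finset.sum_mul, hgeom _ (by rw [mul_pow, hμ, hlam, mul_one]), ite_mul, zero_mul]
  obtain ⟨w0, hw0, e0⟩ := hsum 1 (one_pow _)
  obtain ⟨w1, hw1, e1⟩ := hsum ζ hζ.pow_eq_one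
  rw [one_pow, one_mul] at e0
  rw [hζh] at e1
  have hval : (χ : G → ℂ) g = (h : ℂ) * (w0 + w1) := by linear_combination (e0 + e1) / 2
  -- the valuation
  by_contra hlt
  push Not at hlt
  set W : locRing M := ⟨w0 + w1, integral_mem M (hw0.add hw1)⟩ with hW
  set om : locRing M := ⟨centralChar (χ : G → ℂ) g, centralChar_mem χ g⟩ with hom
  have hne : res M om ≠ 0 := hgω χ hχ
  set idx := (Subgroup.centralizer ({g} : Set G)).index with hidx
  have hidx0 : idx ≠ 0 := Subgroup.index_ne_zero_of_finite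
  have hd0 := (charDegree_eq χ).2
  have hvi : idx.factorization 2 = minDeg 2 B :=
    ((isLeast_degVal F.hM F.hmax.1.2.1 hgc hgω).csInf_eq).symm
  have hvd : (charDegree (χ : G → ℂ)).factorization 2 =
      minDeg 2 B + blockHeight 2 B (χ : G → ℂ) := by
    have h1 := blockHeight_eq (p := 2) B χ
    have h2 := minDeg_le (p := 2) hχ
    rw [degVal] at h1 h2
    omega
  have e2 : (idx : ℂ) * (h : ℂ) * (W : ℂ) = (charDegree (χ : G → ℂ) : ℂ) * (om : ℂ) := by
    have hd0' : (charDegree (χ : G → ℂ) : ℂ) ≠ 0 := Nat.cast_ne_zero.2 hd0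
    simp only [hom, centralChar, ← hidx, hval, (charDegree_eq χ).1, hW]
    field_simp
  obtain ⟨j, hj⟩ : ∃ j, k = blockHeight 2 B (χ : G → ℂ) + (j + 1) :=
    ⟨k - blockHeight 2 B (χ : G → ℂ) - 1, by omega⟩
  have e3 : ((2 ^ (j + 1) * ordCompl[2] idx : ℕ) : locRing M) * W =
      ((ordCompl[2] (charDegree (χ : G → ℂ)) : ℕ) : locRing M) * om := by
    refine Subtype.ext (mul_left_cancel₀ (pow_ne_zero (minDeg 2 B + blockHeight 2 B (χ : G → ℂ))
      (two_ne_zero (α := ℂ))) ?_)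
    have hi' : (idx : ℂ) = (2 : ℂ) ^ minDeg 2 B * ((ordCompl[2] idx : ℕ) : ℂ) := by
      rw [← hvi]
      conv_lhs => rw [← Nat.ordProj_mul_ordCompl_eq_self idx 2]
      push_cast; ring
    have hd' : (charDegree (χ : G → ℂ) : ℂ) = (2 : ℂ) ^ (minDeg 2 B + blockHeight 2 B (χ : G → ℂ)) *
        ((ordCompl[2] (charDegree (χ : G → ℂ)) : ℕ) : ℂ) := by
      rw [← hvd]
      conv_lhs => rw [← Nat.ordProj_mul_ordCompl_eq_self (charDegree (χ : G → ℂ)) 2]
      push_cast; ring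
    have hh' : (h : ℂ) = (2 : ℂ) ^ blockHeight 2 B (χ : G → ℂ) * (2 : ℂ) ^ (j + 1) := by
      rw [hk, ← pow_add, ← hj]; push_cast; ring
    simp only [Subring.coe_mul, Subring.coe_natCast]
    push_cast
    rw [hi', hd', hh'] at e2
    rw [pow_add]
    rw [pow_add] at e2
    push_cast
    linear_combination e2
  have e4 := congrArg (res M) e3
  simp only [map_mul, map_natCast, Nat.cast_mul, Nat.cast_pow, map_pow] at e4
  rw [(CharP.cast_eq_zero_iff (ResField M) 2 2).2 dvd_rfl, zero_pow (Nat.succ_ne_zero j), zero_mul,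
    zero_mul] at e4
  refine mul_ne_zero (fun hc => ?_) hne e4.symm
  rw [CharP.cast_eq_zero_iff (ResField M) 2] at hc
  exact Nat.not_dvd_ordCompl Nat.prime_two hd0 hc

end TFrame

end CfsgLib.Block.Tame
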