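import Cfsg.Agent.Lib.Block.Tame.TameConfig

/-!
# The rows of a block with quaternion or semidihedral defect group

`rot` is the sum over the rotations of order at least four of the products of two rows of generalized
characters, in terms of the integral vectors.  Under the bound `rot i i ≤ 4 * h - 2` the rows are four
of height zero, `h - 1` with `rot i i = 4 * h - 8` and others with none, up to two exceptional shapes
with `h = 4` or `h = 8` (`Vecs.cases`).
-/

open Finset

set_option autoImplicit false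
set_option linter.unusedSectionVars false

namespace CfsgLib.Block.Tame.TameConfig

open Config

variable {ι : Type*} [Fintype ι] [DecidableEq ι] {n : ℕ}

/-- The even part of `rot`. -/
def rotEven (h : ℕ) (wh : ι → ℤ) (w : Fin n → ι → ℤ) (i k : ι) : ℤ :=
  2 * h * (wh i * wh k + 2 * ∑ j, w j i * w j k) -
    2 * ((wh i + 2 * ∑ j, w j i) * (wh k + 2 * ∑ j, w j k))

/-- The odd part of `rot`. -/
def rotOdd (h : ℕ) (u : Fin n → ι → ℤ) (i k : ι) : ℤ :=
  4 * h * ∑ j, u j i * u j k - 8 * ((∑ j, u j i) * ∑ j, u j k)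

/-- The products over the rotations. -/
def rot (h : ℕ) (wh : ι → ℤ) (w u : Fin n → ι → ℤ) (i k : ι) : ℤ :=
  rotEven h wh w i k + rotOdd h u i k

/-- The shape of the rows. -/
structure Shape (h : ℕ) (R : ι → ι → ℤ) (S Ue Uo : Finset ι) : Prop where
  four : S.card = 4
  disjS : Disjoint S (Ue ∪ Uo)
  disjU : Disjoint Ue Uo
  cardE : 2 * Ue.card + 2 = h
  cardO : 2 * Uo.card = h
  rotS : ∀ a ∈ S, R a a = 2 * h - 2
  rotU : ∀ i ∈ Ue ∪ Uo, R i i = 4 * h - 8
  rot_zero : ∀ i, i ∉ S ∪ (Ue ∪ Uo) → R i i = 0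
  pair_ne : ∀ a ∈ S, ∀ i ∈ S.erase a ∪ Ue, R a i ≠ 0
  pair_sum : ∀ a ∈ S, ∑ i ∈ S.erase a ∪ Ue, R a i * R a i = 4 * ((h : ℤ) * h - 1)

/-- The exceptional shape for `h = 4`. -/
def IsExcFour (wh : ι → ℤ) (u : Fin n → ι → ℤ) (d : ι → ℤ) (S : Finset ι) : Prop :=
  n = 1 ∧ ∃ (r₀ r₁ c e : ι) (s : ℤ), r₀ ≠ r₁ ∧ r₀ ≠ c ∧ r₀ ≠ e ∧ r₁ ≠ c ∧ r₁ ≠ e ∧ c ≠ e ∧
    S = {r₀, r₁, c, e} ∧ wh r₁ = wh r₀ ∧ d r₁ = d r₀ ∧
    2 * (wh r₀ * d r₀) + wh c * d c + wh e * d e = 0 ∧ (s = 1 ∨ s = -1) ∧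
    ∀ j i, u j i = if i = r₀ then s else if i = r₁ then -s else 0

/-- The exceptional shape for `h = 8`. -/
def IsExcEight (wh : ι → ℤ) (w u : Fin n → ι → ℤ) (d : ι → ℤ) : Prop :=
  ∃ e : n = 3, IsExc wh (fun j => w (Fin.cast e.symm j)) d ∧
    ∀ i, fJ wh (fun j => w (Fin.cast e.symm j)) i ≠ 0 → ∀ c, u c i = 0

/-- The properties of the vectors. -/
structure Vecs (h : ℕ) (wh : ι → ℤ) (w u : Fin n → ι → ℤ) (d : ι → ℤ) (S : Finset ι) : Prop where
  hn : h = 2 * n + 2
  odd : Odd n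
  pos : ∀ i, 0 < d i
  four : S.card = 4
  unit : ∀ i ∈ S, wh i = 1 ∨ wh i = -1
  zero : ∀ i ∉ S, wh i = 0
  jj : ∀ j, ∑ i, w j i * w j i = 3
  jk : ∀ j k, j ≠ k → ∑ i, w j i * w k i = 2
  jh : ∀ j, ∑ i, w j i * wh i = 2
  hdeg : ∑ i, wh i * d i = 0
  jdeg : ∀ j, ∑ i, w j i * d i = 0
  ujj : ∀ j, ∑ i, u j i * u j i = 2
  ujk : ∀ j k, j ≠ k → ∑ i, u j i * u k i = 1
  udeg : ∀ j, ∑ i, u j i * d i = 0
  uh : ∀ j, ∑ i, u j i * wh i = 0
  bound : ∀ i, rot h wh w u i i ≤ 4 * h - 2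
  height : ∀ i k, d i = d k → i ∈ S → k ∈ S

theorem le_rotEven {h : ℕ} (wh : ι → ℤ) (w : Fin n → ι → ℤ) (i : ι) {a : ℤ} {b : Fin n → ℤ}
    (ha : a = wh i * wh i) (hb : ∀ j, b j = w j i * w j i)
    (hwh : wh i = 1 ∨ wh i = -1 ∨ wh i = 0) (hw : ∀ j, w j i = 1 ∨ w j i = -1 ∨ w j i = 0) :
    2 * (a + 2 * ∑ j, b j) * (h - (a + 2 * ∑ j, b j)) ≤ rotEven h wh w i i := by
  have hsq : (wh i + 2 * ∑ j, w j i) * (wh i + 2 * ∑ j, w j i) ≤ (a + 2 * ∑ j, b j) * (a + 2 * ∑ j, b j) := by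
    have h1 : |wh i + 2 * ∑ j, w j i| ≤ a + 2 * ∑ j, b j := by
      refine (abs_add_le _ _).trans (add_le_add ?_ ?_)
      · rcases hwh with e | e | e <;> simp [ha, e]
      · rw [abs_mul]
        refine mul_le_mul_of_nonneg_left ((Finset.abs_sum_le_sum_abs _ _).trans
          (Finset.sum_le_sum fun j _ => ?_)) (by norm_num)
        rcases hw j with e | e | e <;> simp [hb, e]
    nlinarith [abs_mul_abs_self (wh i + 2 * ∑ j, w j i), abs_nonneg (wh i + 2 * ∑ j, w j i)]
  rw [rotEven, ← ha, Finset.sum_congr rfl fun j _ => (hb j).symm]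
  linarith

variable {h : ℕ} {wh : ι → ℤ} {w u : Fin n → ι → ℤ} {d : ι → ℤ} {S : Finset ι}

namespace Vecs

variable (V : Vecs h wh w u d S)
include V

theorem two_le : 4 ≤ h := by
  have := V.hn
  have := V.odd.pos
  omega

theorem wh_cases (i : ι) : wh i = 1 ∨ wh i = -1 ∨ wh i = 0 := by
  by_cases hi : i ∈ S
  · rcases V.unit i hi with e | e <;> simp [e]
  · simp [V.zero i hi]

theorem w_cases (j : Fin n) (i : ι) : w j i = 1 ∨ w j i = -1 ∨ w j i = 0 :=
  small_of_sq ((Finset.single_le_sum (fun k _ => mul_self_nonneg (w j k)) (Finset.mem_univ i)).trans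
    (V.jj j).le) le_rfl

/-- A row with an even entry and an odd entry is one of the four, and then `h = 4`. -/
theorem overlap {i : ι} (he : wh i ≠ 0 ∨ ∃ j, w j i ≠ 0) (ho : rotOdd h u i i = 4 * h - 8) :
    h = 4 ∧ i ∈ S := by
  have hn := V.hn
  have hb := V.bound i
  rw [rot, ho] at hb
  have hle := le_rotEven (h := h) wh w i rfl (fun j => rfl) (V.wh_cases i) (fun j => V.w_cases j i)
  set A := wh i * wh i with hA
  set s := ∑ j, w j i * w j i with hs
  have hA1 : 0 ≤ A ∧ A ≤ 1 := by rcases V.wh_cases i with e | e | e <;> simp [hA, e]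
  have hs1 : 0 ≤ s ∧ s ≤ n := by
    refine ⟨Finset.sum_nonneg fun j _ => mul_self_nonneg _, ?_⟩
    refine (Finset.sum_le_sum (g := fun _ => (1 : ℤ)) fun j _ => ?_).trans (by simp)
    rcases V.w_cases j i with e | e | e <;> simp [e]
  have hm : 1 ≤ A + 2 * s := by
    rcases he with e | ⟨j, e⟩
    · rcases V.wh_cases i with q | q | q
      · simp only [hA, q]; omega
      · simp only [hA, q]; omega
      · exact absurd q e
    · have : w j i * w j i ≤ s :=
        Finset.single_le_sum (fun k _ => mul_self_nonneg (w k i)) (Finset.mem_univ j)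
      rcases V.w_cases j i with q | q | q
      · rw [q] at this; omega
      · rw [q] at this; omega
      · exact absurd q e
  have hh : (h : ℤ) = 2 * n + 2 := by exact_mod_cast hn
  have hn1 : n = 1 := by
    by_contra hne
    obtain ⟨q, hq⟩ := V.odd
    have h3 : (3 : ℤ) ≤ n := by omega
    nlinarith [mul_nonneg (show (0 : ℤ) ≤ A + 2 * s - 1 by omega)
      (show (0 : ℤ) ≤ h - 1 - (A + 2 * s) by omega)]
  refine ⟨by omega, ?_⟩
  by_contra hi
  have hA0 : A = 0 := by simp [hA, V.zero i hi]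
  have h4 : (h : ℤ) = 4 := by omega
  rw [hA0, h4, show s = 1 by omega] at hle
  omega

/-- The shapes of the rows. -/
theorem cases : (∃ S' Ue Uo, S' = S ∧ Shape h (rot h wh w u) S' Ue Uo) ∨ IsExcFour wh u d S ∨
    IsExcEight wh w u d := by
  have hn := V.hn
  have hn0 := V.odd.pos
  obtain ⟨r₀, s₀, r, sr, hs₀, hsr, hrinj, hrne, hu⟩ :=
    odd_cases hn0 u d (fun i => (V.pos i).ne') V.ujj V.ujk V.udeg
  set Uo := insert r₀ (Finset.univ.image r) with hUo
  have hUoc : 2 * Uo.card = h := by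
    rw [hUo, Finset.card_insert_of_notMem (by simp only [Finset.mem_image]; rintro ⟨j, -, e⟩; exact hrne j e),
      Finset.card_image_of_injective _ hrinj, Finset.card_univ, Fintype.card_fin]
    omega
  have hh : (h : ℤ) = 2 * n + 2 := by exact_mod_cast hn
  have hsq : ∀ {z : ℤ}, z = 1 ∨ z = -1 → z * z = 1 := by rintro z (rfl | rfl) <;> norm_num
  have hu0 : ∀ i ∉ Uo, ∀ j, u j i = 0 := fun i hi j => by
    simp only [hUo, Finset.mem_insert, Finset.mem_image, Finset.mem_univ, true_and, not_or,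
      not_exists] at hi
    rw [hu, if_neg hi.1, if_neg fun e => hi.2 j e.symm]
  have hoddrot : ∀ i ∈ Uo, rotOdd h u i i = 4 * h - 8 := by
    intro i hi
    rcases Finset.mem_insert.1 hi with rfl | hi
    · have e : ∀ j, u j i = s₀ := fun j => by rw [hu, if_pos rfl]
      simp only [rotOdd, e, Finset.sum_const, Finset.card_univ, Fintype.card_fin, nsmul_eq_mul, hsq hs₀,
        mul_one]
      rw [show ((n : ℤ) * s₀) * ((n : ℤ) * s₀) = (n : ℤ) * n * (s₀ * s₀) by ring, hsq hs₀, hh]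
      ring
    · obtain ⟨k, -, rfl⟩ := Finset.mem_image.1 hi
      have e : ∀ j, u j (r k) = if j = k then sr k else 0 := fun j => by
        rw [hu, if_neg (hrne k)]
        by_cases p : j = k
        · subst p; simp
        · rw [if_neg p, if_neg fun q => p (hrinj q.symm)]
      simp only [rotOdd, e, Finset.sum_ite_eq', Finset.mem_univ, if_true, mul_ite, mul_zero, ite_mul,
        zero_mul, hsq (hsr k)]
      ring
  by_cases hov : ∃ i ∈ Uo, wh i ≠ 0 ∨ ∃ j, w j i ≠ 0
  · right; left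
    obtain ⟨i, hi, he⟩ := hov
    obtain ⟨h4, hiS⟩ := V.overlap he (hoddrot i hi)
    obtain rfl : n = 1 := by omega
    have hud := V.udeg 0
    have huh := V.uh 0
    have hrr : r₀ ≠ r 0 := (hrne 0).symm
    have hT : ∀ i ∉ ({r₀, r 0} : Finset ι), u 0 i = 0 := fun i hi => by
      simp only [Finset.mem_insert, Finset.mem_singleton, not_or] at hi
      rw [hu, if_neg hi.1, if_neg hi.2]
    rw [sum_on hT, Finset.sum_pair hrr, hu 0 r₀, hu 0 (r 0), if_pos rfl, if_neg (hrne 0), if_pos rfl]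
      at hud huh
    have hp0 := V.pos r₀
    have hp1 := V.pos (r 0)
    have hs1 : sr 0 = -s₀ ∧ d (r 0) = d r₀ := by
      rcases hs₀ with q | q <;> rcases hsr 0 with q' | q' <;> rw [q, q'] at hud ⊢ <;>
        constructor <;> omega
    have hmem : r₀ ∈ S ∧ r 0 ∈ S := by
      simp only [hUo, Finset.mem_insert, Finset.mem_image, Finset.mem_univ, true_and] at hi
      rcases hi with e | ⟨j, e⟩
      · exact ⟨e ▸ hiS, V.height _ _ hs1.2.symm (e ▸ hiS)⟩
      · rw [Subsingleton.elim j 0] at e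
        exact ⟨V.height _ _ hs1.2 (e ▸ hiS), e ▸ hiS⟩
    obtain ⟨c, e, hce, hSe⟩ := Finset.card_eq_two.1 (show (S \ {r₀, r 0}).card = 2 by
      rw [Finset.card_sdiff_of_subset (by simp [Finset.insert_subset_iff, hmem]), V.four,
        Finset.card_pair hrr])
    have hc : c ∈ S \ {r₀, r 0} := by simp [hSe]
    have he' : e ∈ S \ {r₀, r 0} := by simp [hSe]
    simp only [Finset.mem_sdiff, Finset.mem_insert, Finset.mem_singleton, not_or] at hc he'
    have hwr : wh (r 0) = wh r₀ := by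
      rw [hs1.1] at huh
      rcases hs₀ with q | q <;> rw [q] at huh <;> omega
    have hS4 : S = {r₀, r 0, c, e} := by
      rw [← Finset.union_sdiff_of_subset (show ({r₀, r 0} : Finset ι) ⊆ S by
        simp [Finset.insert_subset_iff, hmem]), hSe]
      ext i; simp; tauto
    refine ⟨rfl, r₀, r 0, c, e, s₀, hrr, Ne.symm hc.2.1, Ne.symm he'.2.1, Ne.symm hc.2.2,
      Ne.symm he'.2.2, hce, hS4, hwr, hs1.2, ?_, hs₀, fun j i => ?_⟩
    · have hh' := V.hdeg
      rw [sum_on (T := S) V.zero, hS4, Finset.sum_insert (by simp [hrr, Ne.symm hc.2.1, Ne.symm he'.2.1]),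
        Finset.sum_insert (by simp [Ne.symm hc.2.2, Ne.symm he'.2.2]), Finset.sum_pair hce, hwr,
        hs1.2] at hh'
      linarith
    · rw [Subsingleton.elim j 0, hu, hs1.1]
  push Not at hov
  rcases even_cases V.odd wh w d (fun i => (V.pos i).ne') V.four V.unit V.zero V.jj V.jk V.jh V.hdeg
    V.jdeg with ⟨a, b, c, e, x, sx, hab, hac, hae, hbc, hbe, hce, hS, hxinj, hxS, hsx, hw⟩ | ⟨h3, hexc⟩
  swap
  · subst h3
    refine Or.inr (Or.inr ⟨rfl, hexc, fun i hi j => ?_⟩)
    refine hu0 i (fun hm => hi ?_) j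
    obtain ⟨p, q⟩ := hov i hm
    simp [fJ, p, q]
  left
  refine ⟨S, Finset.univ.image x, Uo, rfl, ?_⟩
  have haS : a ∈ S := by simp [hS]
  have hbS : b ∈ S := by simp [hS]
  have hcS : c ∈ S := by simp [hS]
  have heS : e ∈ S := by simp [hS]
  have hxa : ∀ j, x j ≠ a := fun j q => hxS j (q ▸ haS)
  have hxb : ∀ j, x j ≠ b := fun j q => hxS j (q ▸ hbS)
  have hwx : ∀ j k, w j (x k) = if j = k then sx k else 0 := fun j k => by
    rw [hw, if_neg (hxa k), if_neg (hxb k)]
    by_cases p : j = k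
    · subst p; simp
    · rw [if_neg p, if_neg fun q => p (hxinj q.symm)]
  have hwa : ∀ j, w j a = wh a := fun j => by rw [hw, if_pos rfl]
  have hwb : ∀ j, w j b = wh b := fun j => by rw [hw, if_neg hab.symm, if_pos rfl]
  have hwo : ∀ i, i ≠ a → i ≠ b → ∀ j, x j ≠ i → w j i = 0 := fun i p q j r' => by
    rw [hw, if_neg p, if_neg q, if_neg (Ne.symm r')]
  have hwc : ∀ j, w j c = 0 := fun j => hwo c hac.symm hbc.symm j fun q => hxS j (q ▸ hcS)
  have hwe : ∀ j, w j e = 0 := fun j => hwo e hae.symm hbe.symm j fun q => hxS j (q ▸ heS)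
  have hSo : ∀ i ∈ S, i ∉ Uo := fun i hi hm => by
    rcases V.unit i hi with q | q <;> rw [(hov i hm).1] at q <;> omega
  have hxo : ∀ j, x j ∉ Uo := fun j hm => by
    have := (hov _ hm).2 j
    rw [hwx, if_pos rfl] at this
    rcases hsx j with q | q <;> omega
  have hrotno : ∀ i ∉ Uo, ∀ k, rot h wh w u i k = rotEven h wh w i k := fun i hi k => by
    simp [rot, rotOdd, hu0 i hi]
  have hwh1 : ∀ i ∈ S, wh i * wh i = 1 := fun i hi => hsq (V.unit i hi)
  have hpairS : ∀ p ∈ S, ∀ k, rot h wh w u p k = rotEven h wh w p k := fun p hp k =>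
    hrotno p (hSo p hp) k
  have hSx : ∀ p ∈ S, ∀ j, (rot h wh w u p (x j)) * (rot h wh w u p (x j)) = 16 := by
    intro p hp j
    have q1 := hwh1 p hp
    have q2 := hsq (hsx j)
    rw [hpairS p hp]
    rw [hS] at hp
    simp only [Finset.mem_insert, Finset.mem_singleton] at hp
    rcases hp with rfl | rfl | rfl | rfl <;>
      simp only [rotEven, hwa, hwb, hwc, hwe, hwx, V.zero _ (hxS j),
        mul_ite, mul_zero, zero_mul, Finset.sum_ite_eq', Finset.mem_univ, if_true, Finset.sum_const_zero,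
        Finset.sum_const, Finset.card_univ, Fintype.card_fin, nsmul_eq_mul, hh]
    all_goals
      rcases hsx j with e1 | e1 <;> rw [e1] <;> linear_combination (16 : ℤ) * q1
  -- the four
  have hval : ∀ p ∈ S, (rot h wh w u p p = 2 * h - 2) ∧
      ∑ i ∈ S, rot h wh w u p i * rot h wh w u p i = 2 * ((2 * h - 2) * (2 * h - 2)) + 8 ∧
      ∀ i ∈ S, rot h wh w u p i ≠ 0 := by
    intro p hp
    have qa := hwh1 a haS
    have qb := hwh1 b hbS
    have qc := hwh1 c hcS
    have qe := hwh1 e heS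
    have hsum : ∀ F : ι → ℤ, ∑ i ∈ S, F i = F a + (F b + (F c + F e)) := fun F => by
      rw [hS, Finset.sum_insert (by simp [hab, hac, hae]), Finset.sum_insert (by simp [hbc, hbe]),
        Finset.sum_pair hce]
    have hnz : ∀ p' q' : ι, p' ∈ S → q' ∈ S → (wh p' * wh q') * (wh p' * wh q') = 1 := fun p' q' h1 h2 => by
      rw [mul_mul_mul_comm, hwh1 p' h1, hwh1 q' h2, mul_one]
    have Raa : ∀ i k, (i = a ∨ i = b) → (k = a ∨ k = b) →
        rot h wh w u i k = (2 * h - 2) * (wh i * wh k) := by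
      rintro i k (rfl | rfl) (rfl | rfl) <;>
        simp only [hpairS _ haS, hpairS _ hbS, rotEven, hwa, hwb, Finset.sum_const, Finset.card_univ,
          Fintype.card_fin, nsmul_eq_mul, hh] <;> ring
    have Rac : ∀ i k, (i = a ∨ i = b) → (k = c ∨ k = e) →
        rot h wh w u i k = 2 * (wh i * wh k) ∧ rot h wh w u k i = 2 * (wh i * wh k) := by
      rintro i k (rfl | rfl) (rfl | rfl) <;>
        simp only [hpairS _ haS, hpairS _ hbS, hpairS _ hcS, hpairS _ heS, rotEven, hwa, hwb, hwc, hwe,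
          Finset.sum_const, Finset.card_univ, Fintype.card_fin, nsmul_eq_mul, hh, mul_zero, zero_mul,
          Finset.sum_const_zero] <;> constructor <;> ring
    have Rcc : ∀ i k, (i = c ∨ i = e) → (k = c ∨ k = e) →
        rot h wh w u i k = (2 * h - 2) * (wh i * wh k) := by
      rintro i k (rfl | rfl) (rfl | rfl) <;>
        simp only [hpairS _ hcS, hpairS _ heS, rotEven, hwc, hwe, mul_zero, Finset.sum_const_zero] <;>
        ring
    have hne : ∀ {z : ℤ} {p' q' : ι}, p' ∈ S → q' ∈ S → z ≠ 0 → z * (wh p' * wh q') ≠ 0 :=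
      fun {z p' q'} h1 h2 hz => mul_ne_zero hz fun h0 => by
        have := hnz p' q' h1 h2
        rw [h0] at this
        omega
    have hh2 : (2 * (h : ℤ) - 2) ≠ 0 := by have := V.two_le; omega
    rw [hsum]
    have hp' := hp
    rw [hS] at hp'
    simp only [Finset.mem_insert, Finset.mem_singleton] at hp'
    rcases hp' with rfl | rfl | rfl | rfl
    · refine ⟨by rw [Raa _ _ (Or.inl rfl) (Or.inl rfl), qa, mul_one], ?_, fun i hi => ?_⟩
      · rw [Raa _ _ (Or.inl rfl) (Or.inl rfl), Raa _ _ (Or.inl rfl) (Or.inr rfl),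
          (Rac _ _ (Or.inl rfl) (Or.inl rfl)).1, (Rac _ _ (Or.inl rfl) (Or.inr rfl)).1]
        linear_combination ((2 * (h : ℤ) - 2) * (2 * h - 2)) * (hnz p p hp hp + hnz p b hp hbS) +
          4 * (hnz p c hp hcS + hnz p e hp heS)
      · rw [hS] at hi
        simp only [Finset.mem_insert, Finset.mem_singleton] at hi
        rcases hi with rfl | rfl | rfl | rfl
        · rw [Raa _ _ (Or.inl rfl) (Or.inl rfl)]; exact hne hp hp hh2
        · rw [Raa _ _ (Or.inl rfl) (Or.inr rfl)]; exact hne hp hbS hh2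
        · rw [(Rac _ _ (Or.inl rfl) (Or.inl rfl)).1]; exact hne hp hcS two_ne_zero
        · rw [(Rac _ _ (Or.inl rfl) (Or.inr rfl)).1]; exact hne hp heS two_ne_zero
    · refine ⟨by rw [Raa _ _ (Or.inr rfl) (Or.inr rfl), qb, mul_one], ?_, fun i hi => ?_⟩
      · rw [Raa _ _ (Or.inr rfl) (Or.inl rfl), Raa _ _ (Or.inr rfl) (Or.inr rfl),
          (Rac _ _ (Or.inr rfl) (Or.inl rfl)).1, (Rac _ _ (Or.inr rfl) (Or.inr rfl)).1]
        linear_combination ((2 * (h : ℤ) - 2) * (2 * h - 2)) * (hnz p a hp haS + hnz p p hp hp) +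
          4 * (hnz p c hp hcS + hnz p e hp heS)
      · rw [hS] at hi
        simp only [Finset.mem_insert, Finset.mem_singleton] at hi
        rcases hi with rfl | rfl | rfl | rfl
        · rw [Raa _ _ (Or.inr rfl) (Or.inl rfl)]; exact hne hp haS hh2
        · rw [Raa _ _ (Or.inr rfl) (Or.inr rfl)]; exact hne hp hp hh2
        · rw [(Rac _ _ (Or.inr rfl) (Or.inl rfl)).1]; exact hne hp hcS two_ne_zero
        · rw [(Rac _ _ (Or.inr rfl) (Or.inr rfl)).1]; exact hne hp heS two_ne_zero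
    · refine ⟨by rw [Rcc _ _ (Or.inl rfl) (Or.inl rfl), qc, mul_one], ?_, fun i hi => ?_⟩
      · rw [(Rac _ _ (Or.inl rfl) (Or.inl rfl)).2, (Rac _ _ (Or.inr rfl) (Or.inl rfl)).2,
          Rcc _ _ (Or.inl rfl) (Or.inl rfl), Rcc _ _ (Or.inl rfl) (Or.inr rfl)]
        linear_combination ((2 * (h : ℤ) - 2) * (2 * h - 2)) * (hnz p p hp hp + hnz p e hp heS) +
          4 * (hnz a p haS hp + hnz b p hbS hp)
      · rw [hS] at hi
        simp only [Finset.mem_insert, Finset.mem_singleton] at hi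
        rcases hi with rfl | rfl | rfl | rfl
        · rw [(Rac _ _ (Or.inl rfl) (Or.inl rfl)).2]; exact hne haS hp two_ne_zero
        · rw [(Rac _ _ (Or.inr rfl) (Or.inl rfl)).2]; exact hne hbS hp two_ne_zero
        · rw [Rcc _ _ (Or.inl rfl) (Or.inl rfl)]; exact hne hp hp hh2
        · rw [Rcc _ _ (Or.inl rfl) (Or.inr rfl)]; exact hne hp heS hh2
    · refine ⟨by rw [Rcc _ _ (Or.inr rfl) (Or.inr rfl), qe, mul_one], ?_, fun i hi => ?_⟩
      · rw [(Rac _ _ (Or.inl rfl) (Or.inr rfl)).2, (Rac _ _ (Or.inr rfl) (Or.inr rfl)).2,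
          Rcc _ _ (Or.inr rfl) (Or.inl rfl), Rcc _ _ (Or.inr rfl) (Or.inr rfl)]
        linear_combination ((2 * (h : ℤ) - 2) * (2 * h - 2)) * (hnz p c hp hcS + hnz p p hp hp) +
          4 * (hnz a p haS hp + hnz b p hbS hp)
      · rw [hS] at hi
        simp only [Finset.mem_insert, Finset.mem_singleton] at hi
        rcases hi with rfl | rfl | rfl | rfl
        · rw [(Rac _ _ (Or.inl rfl) (Or.inr rfl)).2]; exact hne haS hp two_ne_zero
        · rw [(Rac _ _ (Or.inr rfl) (Or.inr rfl)).2]; exact hne hbS hp two_ne_zero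
        · rw [Rcc _ _ (Or.inr rfl) (Or.inl rfl)]; exact hne hp hcS hh2
        · rw [Rcc _ _ (Or.inr rfl) (Or.inr rfl)]; exact hne hp hp hh2
  have hximg : ∀ p ∈ S, Disjoint (S.erase p) (Finset.univ.image x) := fun p _ =>
    Finset.disjoint_right.2 fun i hi hm => by
      obtain ⟨j, -, rfl⟩ := Finset.mem_image.1 hi
      exact hxS j (Finset.mem_of_mem_erase hm)
  refine ⟨V.four, ?_, ?_, ?_, hUoc, fun p hp => (hval p hp).1, ?_, ?_, fun p hp i hi => ?_, fun p hp => ?_⟩
  · refine Finset.disjoint_left.2 fun i hi hm => ?_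
    rcases Finset.mem_union.1 hm with hm | hm
    · obtain ⟨j, -, rfl⟩ := Finset.mem_image.1 hm
      exact hxS j hi
    · exact hSo i hi hm
  · refine Finset.disjoint_left.2 fun i hi hm => ?_
    obtain ⟨j, -, rfl⟩ := Finset.mem_image.1 hi
    exact hxo j hm
  · rw [Finset.card_image_of_injective _ hxinj, Finset.card_univ, Fintype.card_fin]
    omega
  · intro i hi
    rcases Finset.mem_union.1 hi with hi | hi
    · obtain ⟨j, -, rfl⟩ := Finset.mem_image.1 hi
      simp only [hrotno _ (hxo j), rotEven, hwx, V.zero _ (hxS j), mul_ite, mul_zero, zero_mul,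
        Finset.sum_ite_eq', Finset.mem_univ, if_true, if_pos, hsq (hsx j)]
      linear_combination (-8 : ℤ) * hsq (hsx j)
    · obtain ⟨p, q⟩ := hov i hi
      rw [rot, hoddrot i hi]
      simp [rotEven, p, q]
  · intro i hi
    simp only [Finset.mem_union, Finset.mem_image, Finset.mem_univ, true_and, not_or, not_exists] at hi
    have hq : ∀ j, w j i = 0 := fun j => hwo i (fun q => hi.1 (q ▸ haS)) (fun q => hi.1 (q ▸ hbS)) j (hi.2.1 j)
    simp [hrotno i hi.2.2, rotEven, V.zero i hi.1, hq]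
  · rcases Finset.mem_union.1 hi with hi | hi
    · exact (hval p hp).2.2 i (Finset.mem_of_mem_erase hi)
    · obtain ⟨j, -, rfl⟩ := Finset.mem_image.1 hi
      intro h0
      have := hSx p hp j
      rw [h0] at this
      omega
  · rw [Finset.sum_union (hximg p hp), Finset.sum_erase_eq_sub hp, (hval p hp).2.1, (hval p hp).1,
      Finset.sum_image fun j _ k _ q => hxinj q, Finset.sum_congr rfl fun j _ => hSx p hp j,
      Finset.sum_const, Finset.card_univ, Fintype.card_fin, nsmul_eq_mul, hh]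
    ring

end Vecs

end CfsgLib.Block.Tame.TameConfig
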