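import Cfsg.Agent.Lib.Block.Tame.TamePres
import Cfsg.Agent.Lib.Block.Tame.TameShape
import Mathlib.NumberTheory.LegendreSymbol.AddCharacter

/-!
# Fourier analysis on the rotations of a quaternion or semidihedral group

Integral combinations of the characters of `ZMod (2 * h)` under `x ↦ t * x`: `exists_unimodular`,
`exists_shift` turns a family with `g (t * y) = ω y * g y` into one fixed by `t`, `gram` reads the
products of the differences of the coefficients from those of the values, and `rot_eq`, `rotVal`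
express the values in terms of the differences.
-/

open Finset
open scoped ComplexConjugate

set_option autoImplicit false
set_option linter.unusedSectionVars false

namespace CfsgLib.Block.Tame.TameFourier

variable {h : ℕ} [NeZero (2 * h)] {ζ : ℂ} (hζ : IsPrimitiveRoot ζ (2 * h))

/-- The additive character of the root of unity. -/
noncomputable def chi : AddChar (ZMod (2 * h)) ℂ := AddChar.zmodChar (2 * h) hζ.pow_eq_one

/-- The combination of the characters with the coefficients `a`. -/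
noncomputable def comb (a : ZMod (2 * h) → ℤ) (y : ZMod (2 * h)) : ℂ :=
  ∑ x, (a x : ℂ) * chi hζ (x * y)

theorem chi_nat (n : ℕ) : chi hζ (n : ZMod (2 * h)) = ζ ^ n :=
  AddChar.zmodChar_apply' hζ.pow_eq_one n

theorem sum_chi (b : ZMod (2 * h)) : ∑ y, chi hζ (y * b) = if b = 0 then (2 * h : ℂ) else 0 := by
  unfold chi
  rw [AddChar.sum_mulShift b (AddChar.zmodChar_primitive_of_primitive_root (2 * h) hζ)]
  split_ifs <;> simp [ZMod.card]

theorem conj_chi (y : ZMod (2 * h)) : conj (chi hζ y) = chi hζ (-y) := by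
  rw [AddChar.map_neg_eq_inv, ← Complex.inv_eq_conj]
  exact Complex.norm_eq_one_of_pow_eq_one (n := 2 * h) (by
    rw [← AddChar.map_nsmul_eq_pow, ZModModule.char_nsmul_eq_zero, AddChar.map_zero_eq_one])
    (NeZero.ne (2 * h))

theorem conj_comb (a : ZMod (2 * h) → ℤ) (y : ZMod (2 * h)) :
    conj (comb hζ a y) = ∑ x, (a x : ℂ) * chi hζ (-(x * y)) := by
  simp only [comb, map_sum, map_mul, map_intCast, conj_chi]

theorem inversion (a : ZMod (2 * h) → ℤ) (x : ZMod (2 * h)) :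
    ∑ y, comb hζ a y * chi hζ (-(x * y)) = (2 * h : ℂ) * a x := by
  simp only [comb, Finset.sum_mul, mul_assoc, ← AddChar.map_add_eq_mul]
  rw [Finset.sum_comm]
  simp only [← Finset.mul_sum]
  rw [Finset.sum_eq_single x (fun z _ hz => ?_) fun hx => absurd (Finset.mem_univ x) hx]
  · simp only [add_neg_cancel, AddChar.map_zero_eq_one, Finset.sum_const, Finset.card_univ, ZMod.card,
      nsmul_eq_mul, mul_one]
    push_cast; ring
  · rw [Finset.sum_congr rfl fun y _ => congrArg (chi hζ) (show z * y + -(x * y) = y * (z - x) by ring),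
      sum_chi, if_neg (sub_ne_zero.2 hz), mul_zero]

theorem plancherel (a b : ZMod (2 * h) → ℤ) :
    ∑ y, comb hζ a y * conj (comb hζ b y) = (2 * h : ℂ) * ((∑ x, a x * b x : ℤ) : ℂ) := by
  simp only [conj_comb, Finset.mul_sum]
  rw [Finset.sum_comm]
  push_cast
  rw [Finset.mul_sum]
  refine Finset.sum_congr rfl fun x _ => ?_
  rw [← mul_assoc, ← inversion hζ a x, Finset.sum_mul]
  exact Finset.sum_congr rfl fun y _ => by ring

/-- A combination of absolute value one everywhere is a signed character. -/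
theorem exists_unimodular {a : ZMod (2 * h) → ℤ} (h1 : ∀ y, comb hζ a y * conj (comb hζ a y) = 1) :
    ∃ μ : ZMod (2 * h), ∃ ε : ℤ, (ε = 1 ∨ ε = -1) ∧ ∀ y, comb hζ a y = (ε : ℂ) * chi hζ (μ * y) := by
  have hsum : ∑ x, a x * a x = 1 := by
    have e := plancherel hζ a a
    simp only [h1, Finset.sum_const, Finset.card_univ, ZMod.card, nsmul_eq_mul, mul_one] at e
    push_cast at e
    have h0 : (2 * h : ℂ) ≠ 0 := by exact_mod_cast NeZero.ne (2 * h)
    exact_mod_cast (mul_left_cancel₀ h0 (by push_cast; linear_combination -e) :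
      ((∑ x, a x * a x : ℤ) : ℂ) = ((1 : ℤ) : ℂ))
  obtain ⟨μ, hμ⟩ : ∃ μ, a μ ≠ 0 := by
    by_contra hne
    push Not at hne
    simp [hne] at hsum
  have hrest : ∀ x, x ≠ μ → a x = 0 := by
    intro x hx
    have h2 := Finset.sum_le_sum_of_subset_of_nonneg (Finset.subset_univ {x, μ})
      fun z _ _ => mul_self_nonneg (a z)
    rw [Finset.sum_pair hx, hsum] at h2
    have := mul_self_pos.2 hμ
    by_contra h3
    have := mul_self_pos.2 h3
    omega
  rw [Finset.sum_eq_single μ (fun x _ hx => by rw [hrest x hx, mul_zero]) (by simp)] at hsum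
  refine ⟨μ, a μ, (Int.eq_one_or_neg_one_of_mul_eq_one hsum), fun y => ?_⟩
  rw [comb, Finset.sum_eq_single μ (fun x _ hx => by simp [hrest x hx]) (by simp)]

include hζ in
theorem sigma_h_chi : ζ ^ h = -1 :=
  (hζ.pow (Nat.pos_of_ne_zero (NeZero.ne (2 * h))) (by ring)).eq_neg_one_of_two_right

theorem chi_half (x : ZMod (2 * h)) : chi hζ ((h : ZMod (2 * h)) * x) = (-1) ^ x.val := by
  conv_lhs => rw [← ZMod.natCast_zmod_val x, ← Nat.cast_mul, chi_nat, pow_mul, sigma_h_chi hζ]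

variable {G : Type*} [Group G] {P : Subgroup G} {σ τ : G} {t : ℕ} (D : TPres P σ τ h t)
include D

theorem t_half : (t : ZMod (2 * h)) * h = h := by
  obtain ⟨m, hm, -⟩ := D.exists_half
  have h2 : ((2 * h : ℕ) : ZMod (2 * h)) = 0 := ZMod.natCast_self _
  push_cast at h2
  rw [hm]
  push_cast
  linear_combination (m : ZMod (2 * h)) * h2

theorem t_inj {x y : ZMod (2 * h)} (e : (t : ZMod (2 * h)) * x = t * y) : x = y := by
  have := congrArg ((t : ZMod (2 * h)) * ·) e
  simpa only [← mul_assoc, D.t_mul_self, one_mul] using this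

/-- The multiplication by `t`. -/
def tEquiv : ZMod (2 * h) ≃ ZMod (2 * h) where
  toFun x := (t : ZMod (2 * h)) * x
  invFun x := (t : ZMod (2 * h)) * x
  left_inv x := by simp [← mul_assoc, D.t_mul_self]
  right_inv x := by simp [← mul_assoc, D.t_mul_self]

theorem comb_mul_t (a : ZMod (2 * h) → ℤ) (y : ZMod (2 * h)) :
    comb hζ (fun x => a ((t : ZMod (2 * h)) * x)) y = comb hζ a ((t : ZMod (2 * h)) * y) := by
  refine Fintype.sum_equiv (tEquiv D) _ _ fun x => ?_
  show _ = (a ((t : ZMod (2 * h)) * x) : ℂ) * chi hζ (t * x * (t * y))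
  rw [show (t : ZMod (2 * h)) * x * (t * y) = (t : ZMod (2 * h)) * t * (x * y) by ring, D.t_mul_self, one_mul]

theorem exists_q : ∃ q : ℕ, h = 2 * q := by
  obtain ⟨q, hq⟩ := D.h_even
  exact ⟨q, by omega⟩

theorem t_quarter {q : ℕ} (hq : h = 2 * q) :
    (t : ZMod (2 * h)) * q = -(q : ZMod (2 * h)) := by
  have ht := D.t_mod_four
  have h0 : (((t + 1) * q : ℕ) : ZMod (2 * h)) = 0 := by
    rw [ZMod.natCast_eq_zero_iff]
    exact ⟨(t + 1) / 4, by
      obtain ⟨c, hc⟩ : ∃ c, t + 1 = 4 * c := ⟨(t + 1) / 4, by omega⟩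
      rw [hc, Nat.mul_div_cancel_left _ (by norm_num : 0 < 4)]
      subst hq; ring⟩
  push_cast at h0
  linear_combination h0

omit D in
theorem int_indep {i0 : ℂ} (hi : i0 * i0 = -1) {a b : ℤ} (e : (a : ℂ) + b * i0 = 0) : a = 0 ∧ b = 0 := by
  have h2 : ((a * a + b * b : ℤ) : ℂ) = ((0 : ℤ) : ℂ) := by
    push_cast
    linear_combination ((a : ℂ) - b * i0) * e + (b : ℂ) * b * hi
  have h3 : a * a + b * b = 0 := by exact_mod_cast h2
  exact ⟨by nlinarith [mul_self_nonneg a, mul_self_nonneg b], by nlinarith [mul_self_nonneg a, mul_self_nonneg b]⟩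

omit D in
/-- The parity of the odd coefficients. -/
def oddSum (a : ZMod (2 * h) → ℤ) : ℤ := ∑ x, if x.val % 2 = 1 then a x else 0

/-- The value at the quarter, with the parity of its parts. -/
theorem exists_quarter {q : ℕ} (hq : h = 2 * q) (a : ZMod (2 * h) → ℤ) :
    ∃ A B : ℤ, comb hζ a q = A + B * ζ ^ q ∧ comb hζ a ((t : ZMod (2 * h)) * q) = A - B * ζ ^ q ∧
      conj (comb hζ a q) = A - B * ζ ^ q ∧ ζ ^ q * ζ ^ q = -1 ∧ (2 : ℤ) ∣ B - oddSum a := by
  set i0 := ζ ^ q with hi0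
  have hi : i0 * i0 = -1 := by
    rw [hi0, ← pow_add, show q + q = h by omega]
    exact sigma_h_chi hζ
  have hi4 : i0 ^ 4 = 1 := by linear_combination (i0 * i0 - 1) * hi
  have hne : i0 ≠ 0 := fun e => by rw [e, mul_zero] at hi; norm_num at hi
  have hval : ∀ x : ZMod (2 * h), chi hζ (x * q) = i0 ^ (x.val % 4) := by
    intro x
    conv_lhs => rw [← ZMod.natCast_zmod_val x, ← Nat.cast_mul, chi_nat, mul_comm, pow_mul, ← hi0,
      pow_eq_pow_mod x.val hi4]
  set cA : ℕ → ℤ := fun n => if n % 4 = 0 then 1 else if n % 4 = 2 then -1 else 0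
  set cB : ℕ → ℤ := fun n => if n % 4 = 1 then 1 else if n % 4 = 3 then -1 else 0
  have hsplit : ∀ n : ℕ, i0 ^ (n % 4) = (cA n : ℂ) + cB n * i0 ∧
      (i0 ^ (n % 4))⁻¹ = (cA n : ℂ) - cB n * i0 := by
    intro n
    have hinv : i0⁻¹ = -i0 := inv_eq_of_mul_eq_one_right (by linear_combination -hi)
    simp only [cA, cB, ← inv_pow, hinv]
    rcases (show n % 4 = 0 ∨ n % 4 = 1 ∨ n % 4 = 2 ∨ n % 4 = 3 by omega) with e | e | e | e <;>
      rw [e] <;> simp [pow_succ, hi]
  have hneg : ∀ x : ZMod (2 * h), chi hζ (-(x * q)) = (i0 ^ (x.val % 4))⁻¹ := fun x => by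
    rw [AddChar.map_neg_eq_inv, hval]
  refine ⟨∑ x, a x * cA x.val, ∑ x, a x * cB x.val, ?_, ?_, ?_, hi, ?_⟩
  · simp only [comb, hval, fun n => (hsplit n).1]
    push_cast
    rw [Finset.sum_mul, ← Finset.sum_add_distrib]
    exact Finset.sum_congr rfl fun x _ => by ring
  · simp only [comb, t_quarter D hq, mul_neg, hneg, fun n => (hsplit n).2]
    push_cast
    rw [Finset.sum_mul, ← Finset.sum_sub_distrib]
    exact Finset.sum_congr rfl fun x _ => by ring
  · simp only [conj_comb, hneg, fun n => (hsplit n).2]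
    push_cast
    rw [Finset.sum_mul, ← Finset.sum_sub_distrib]
    exact Finset.sum_congr rfl fun x _ => by ring
  · rw [oddSum, ← Finset.sum_sub_distrib]
    refine Finset.dvd_sum fun x _ => ?_
    simp only [cB]
    split_ifs <;> omega

theorem quarter_ne {q : ℕ} (hq : h = 2 * q) :
    (q : ZMod (2 * h)) ≠ 0 ∧ (q : ZMod (2 * h)) ≠ (h : ZMod (2 * h)) := by
  have h2 := D.two_le
  refine ⟨fun e => ?_, fun e => ?_⟩
  · rw [ZMod.natCast_eq_zero_iff] at e
    have := Nat.le_of_dvd (by omega) e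
    omega
  · rw [ZMod.natCast_eq_natCast_iff', Nat.mod_eq_of_lt (by omega), Nat.mod_eq_of_lt (by omega)] at e
    omega

omit D in
theorem sum_sign (a : ZMod (2 * h) → ℤ) :
    comb hζ a 0 - comb hζ a (h : ZMod (2 * h)) = 2 * (oddSum a : ℂ) := by
  simp only [comb, oddSum]
  push_cast
  rw [Finset.mul_sum, ← Finset.sum_sub_distrib]
  refine Finset.sum_congr rfl fun x _ => ?_
  rw [mul_zero, AddChar.map_zero_eq_one, mul_comm x, chi_half]
  rcases Nat.mod_two_eq_zero_or_one x.val with e | e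
  · rw [if_neg (by omega), (Nat.even_iff.2 e).neg_one_pow]; ring
  · rw [if_pos e, (Nat.odd_iff.2 e).neg_one_pow]; ring

/-- A family fixed by `t` after a shift. -/
theorem exists_shift {ι : Type*} (a : ι → ZMod (2 * h) → ℤ) (i₀ : ι)
    (hodd : ∀ q : ℕ, h = 2 * q → ∀ A B : ℤ, comb hζ (a i₀) q = A + B * ζ ^ q → (A + B) % 2 = 1)
    {c : ZMod (2 * h) → ℤ} (hc : ∀ y, comb hζ c y * conj (comb hζ c y) = 1)
    (htw : ∀ i y, y ≠ 0 → y ≠ (h : ZMod (2 * h)) →
      comb hζ (a i) ((t : ZMod (2 * h)) * y) = comb hζ c y * comb hζ (a i) y) :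
    ∃ (ν : ZMod (2 * h)) (a' : ι → ZMod (2 * h) → ℤ),
      (∀ i x, a' i ((t : ZMod (2 * h)) * x) = a' i x) ∧
      ∀ i y, comb hζ (a' i) y = chi hζ (ν * y) * comb hζ (a i) y := by
  classical
  obtain ⟨μ, ε, hε, hcv⟩ := exists_unimodular hζ hc
  obtain ⟨q, hq⟩ := exists_q D
  obtain ⟨A, B, eA, eB, -, hi, -⟩ := exists_quarter hζ D hq (a i₀)
  have hAB := hodd q hq A B eA
  obtain ⟨hq0, hqh⟩ := quarter_ne D hq
  -- `μ` is even
  obtain ⟨k, hk | hk⟩ := Nat.even_or_odd' μ.val
  swap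
  · exfalso
    have e := htw i₀ _ hq0 hqh
    rw [eB, eA, hcv, ← ZMod.natCast_zmod_val μ, ← Nat.cast_mul, chi_nat, hk, mul_comm _ q, pow_mul,
      pow_succ, pow_mul, pow_two, hi] at e
    obtain ⟨s, hs, hsv⟩ : ∃ s : ℤ, (s = 1 ∨ s = -1) ∧ (ε : ℂ) * (-1) ^ k = s :=
      ⟨ε * (-1) ^ k, by rcases hε with rfl | rfl <;> rcases neg_one_pow_eq_or ℤ k with e | e <;> rw [e] <;> norm_num,
        by push_cast; rfl⟩
    obtain ⟨e1, e2⟩ := int_indep hi (a := A + s * B) (b := -B - s * A) (by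
      push_cast
      linear_combination e + (((A : ℂ) + B * ζ ^ q) * ζ ^ q) * hsv + (B : ℂ) * s * hi)
    rcases hs with rfl | rfl <;> omega
  have hμ : μ = 2 * (k : ZMod (2 * h)) := by
    rw [← ZMod.natCast_zmod_val μ, hk]; push_cast; ring
  obtain ⟨m, hm, hmo⟩ := D.exists_half
  have hmu : IsUnit (m : ZMod (2 * h)) := by
    obtain ⟨j, -, hj⟩ := D.pow2
    rw [ZMod.isUnit_iff_coprime, hj, ← pow_succ']
    exact Nat.Coprime.pow_right _ (Nat.coprime_two_right.2 hmo)
  have key : ∀ (μ' : ZMod (2 * h)) (ε : ℤ),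
      (∀ i y, y ≠ 0 → y ≠ (h : ZMod (2 * h)) →
        comb hζ (a i) ((t : ZMod (2 * h)) * y) = (ε : ℂ) * chi hζ (2 * μ' * y) * comb hζ (a i) y) →
      ∃ (ν : ZMod (2 * h)) (a' : ι → ZMod (2 * h) → ℤ),
        (∀ i y, comb hζ (a' i) y = chi hζ (ν * y) * comb hζ (a i) y) ∧
        ∀ i y, y ≠ 0 → y ≠ (h : ZMod (2 * h)) →
          comb hζ (a' i) ((t : ZMod (2 * h)) * y) = (ε : ℂ) * comb hζ (a' i) y := by
    intro μ' ε hrel
    set ν := -(μ' * (↑hmu.unit⁻¹ : ZMod (2 * h))) with hν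
    refine ⟨ν, fun i x => a i (x - ν), ?_⟩
    have hval : ∀ i y, comb hζ (fun x => a i (x - ν)) y = chi hζ (ν * y) * comb hζ (a i) y := by
      intro i y
      simp only [comb, Finset.mul_sum]
      refine Fintype.sum_equiv (Equiv.subRight ν) _ _ fun x => ?_
      simp only [Equiv.subRight_apply]
      rw [mul_left_comm, ← AddChar.map_add_eq_mul]
      congr 2
      ring
    refine ⟨hval, fun i y h0 hh => ?_⟩
    rw [hval, hval, hrel i y h0 hh, show ν * y = ν * ((t : ZMod (2 * h)) * y) + 2 * μ' * y from ?_,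
      AddChar.map_add_eq_mul]
    · ring
    · have h1 := hmu.mul_val_inv
      rw [hν, hm]
      push_cast
      linear_combination (2 * μ' * y) * h1
  have finish : ∀ μ' : ZMod (2 * h), (∀ i y, y ≠ 0 → y ≠ (h : ZMod (2 * h)) →
        comb hζ (a i) ((t : ZMod (2 * h)) * y) = ((1 : ℤ) : ℂ) * chi hζ (2 * μ' * y) * comb hζ (a i) y) →
      ∃ (ν : ZMod (2 * h)) (a' : ι → ZMod (2 * h) → ℤ),
        (∀ i x, a' i ((t : ZMod (2 * h)) * x) = a' i x) ∧
        ∀ i y, comb hζ (a' i) y = chi hζ (ν * y) * comb hζ (a i) y := by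
    intro μ' hrel
    obtain ⟨ν, a', hv, ht⟩ := key μ' 1 hrel
    refine ⟨ν, a', fun i x => ?_, hv⟩
    have h2h : (2 * h : ℂ) ≠ 0 := by exact_mod_cast NeZero.ne (2 * h)
    have e : (2 * h : ℂ) * (a' i ((t : ZMod (2 * h)) * x) : ℂ) = (2 * h : ℂ) * a' i x := by
      rw [← inversion hζ (fun x => a' i ((t : ZMod (2 * h)) * x)) x, ← inversion hζ (a' i) x]
      refine Finset.sum_congr rfl fun y _ => ?_
      rw [comb_mul_t hζ D]
      congr 1
      by_cases h0 : y = 0
      · rw [h0, mul_zero]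
      by_cases hh : y = (h : ZMod (2 * h))
      · rw [hh, t_half D]
      rw [ht i y h0 hh, Int.cast_one, one_mul]
    exact_mod_cast mul_left_cancel₀ h2h e
  rcases hε with rfl | rfl
  · exact finish k fun i y h0 hh => by rw [htw i y h0 hh, hcv, hμ]
  by_cases h4 : 4 ≤ h
  swap
  · have h2 : h = 2 := by
      have := D.two_le
      omega
    refine finish (k + 1) fun i y h0 hh => ?_
    have hy : Odd y.val := by
      have h3 := ZMod.val_lt y
      by_contra hev
      obtain ⟨r, hr⟩ := Nat.not_odd_iff_even.1 hev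
      rcases (show y.val = 0 ∨ y.val = h by omega) with e | e
      · exact h0 ((ZMod.val_eq_zero y).1 e)
      · exact hh (by rw [← ZMod.natCast_zmod_val y, e])
    rw [htw i y h0 hh, hcv, hμ, show 2 * ((k : ZMod (2 * h)) + 1) * y =
      2 * (k : ZMod (2 * h)) * y + (h : ZMod (2 * h)) * y by rw [show (h : ZMod (2 * h)) = 2 by
        exact (congrArg (Nat.cast : ℕ → ZMod (2 * h)) h2).trans Nat.cast_ofNat]; ring, AddChar.map_add_eq_mul,
      chi_half, hy.neg_one_pow]
    push_cast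
    ring
  · exfalso
    obtain ⟨ν, a', hv, ht⟩ := key k (-1) fun i y h0 hh => by rw [htw i y h0 hh, hcv, hμ]
    obtain ⟨A', B', eA', eB', eC', -, hpar⟩ := exists_quarter hζ D hq (a' i₀)
    obtain ⟨A1, B1, eA1, -, eC1, -, -⟩ := exists_quarter hζ D hq (a i₀)
    have h1 := hodd q hq A1 B1 eA1
    have hnorm : A' * A' + B' * B' = A1 * A1 + B1 * B1 := by
      have hu : chi hζ (ν * q) * conj (chi hζ (ν * q)) = 1 := by
        rw [conj_chi, ← AddChar.map_add_eq_mul, add_neg_cancel, AddChar.map_zero_eq_one]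
      have e : comb hζ (a' i₀) q * conj (comb hζ (a' i₀) q) =
          comb hζ (a i₀) q * conj (comb hζ (a i₀) q) := by
        rw [hv, map_mul (starRingEnd ℂ)]
        linear_combination (comb hζ (a i₀) q * conj (comb hζ (a i₀) q)) * hu
      rw [eC', eC1, eA', eA1] at e
      have e2 : ((A' * A' + B' * B' : ℤ) : ℂ) = ((A1 * A1 + B1 * B1 : ℤ) : ℂ) := by
        push_cast
        linear_combination e + ((B' : ℂ) * B' - B1 * B1) * hi
      exact_mod_cast e2
    have e := ht i₀ _ hq0 hqh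
    rw [eA', eB'] at e
    obtain ⟨hA0, -⟩ := int_indep hi (a := A') (b := 0) (by push_cast at e ⊢; linear_combination e / 2)
    -- the odd coefficients have an even sum
    have hsum : (2 : ℤ) ∣ oddSum (a' i₀) := by
      have h2h : (2 * h : ℂ) ≠ 0 := by exact_mod_cast NeZero.ne (2 * h)
      set x₁ : ZMod (2 * h) := ((1 : ℕ) : ZMod (2 * h)) with hx₁
      have hb : (2 * h : ℂ) * ((a' i₀ x₁ + a' i₀ ((t : ZMod (2 * h)) * x₁) : ℤ) : ℂ) =
          2 * (comb hζ (a' i₀) 0 - comb hζ (a' i₀) (h : ZMod (2 * h))) := by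
        rw [Int.cast_add, mul_add, ← inversion hζ (a' i₀) x₁,
          ← inversion hζ (fun x => a' i₀ ((t : ZMod (2 * h)) * x)) x₁, ← Finset.sum_add_distrib]
        simp only [comb_mul_t hζ D, ← add_mul]
        have hne : (0 : ZMod (2 * h)) ≠ (h : ZMod (2 * h)) := fun e0 => by
          rw [eq_comm, ZMod.natCast_eq_zero_iff] at e0
          have := Nat.le_of_dvd (by omega) e0
          omega
        rw [← Finset.sum_subset (Finset.subset_univ {(0 : ZMod (2 * h)), (h : ZMod (2 * h))}) fun y _ hy => by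
          simp only [Finset.mem_insert, Finset.mem_singleton, not_or] at hy
          rw [ht i₀ y hy.1 hy.2]; push_cast; ring, Finset.sum_pair hne]
        have hx : x₁.val = 1 := by rw [hx₁, ZMod.val_natCast, Nat.mod_eq_of_lt (by omega)]
        rw [mul_zero, mul_zero, neg_zero, AddChar.map_zero_eq_one, t_half D, AddChar.map_neg_eq_inv,
          mul_comm x₁, chi_half, hx]
        norm_num
        ring
      rw [sum_sign] at hb
      have e3 : ((2 * h * (a' i₀ x₁ + a' i₀ ((t : ZMod (2 * h)) * x₁)) : ℤ) : ℂ) =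
          ((4 * oddSum (a' i₀) : ℤ) : ℂ) := by
        push_cast
        push_cast at hb
        linear_combination hb
      have e4 := Int.cast_injective (α := ℂ) e3
      obtain ⟨r, hr⟩ := D.four_dvd_of_four_le h4
      subst hr
      push_cast at e4
      exact ⟨r * (a' i₀ x₁ + a' i₀ ((t : ZMod (2 * (4 * r))) * x₁)), by linarith⟩
    subst hA0
    obtain ⟨u, hu⟩ := hsum
    obtain ⟨v, hv'⟩ := hpar
    rw [show B' = 2 * (u + v) by omega] at hnorm
    have h2 : (A1 * A1 + B1 * B1) % 2 = 1 := by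
      rcases Int.even_or_odd' A1 with ⟨a1, rfl | rfl⟩ <;> rcases Int.even_or_odd' B1 with ⟨b1, rfl | rfl⟩ <;>
        ring_nf <;> omega
    rw [← hnorm] at h2
    ring_nf at h2
    omega

omit D in
/-- The even representatives. -/
def xE (h : ℕ) {n : ℕ} (j : Fin n) : ZMod (2 * h) := ((2 * ((j : ℕ) + 1) : ℕ) : ZMod (2 * h))

omit D in
/-- The odd representatives. -/
def xO (h : ℕ) (c : ℕ) : ZMod (2 * h) := ((4 * c + 1 : ℕ) : ZMod (2 * h))

omit D in
/-- The vector at the central involution. -/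
def whOf (a : ZMod (2 * h) → ℤ) : ℤ := a (h : ZMod (2 * h)) - a 0

omit D in
/-- The even vectors. -/
def wOf (a : ZMod (2 * h) → ℤ) {n : ℕ} (j : Fin n) : ℤ := a (xE h j) - a 0

omit D in
/-- The odd vectors. -/
def uOf (a : ZMod (2 * h) → ℤ) {n : ℕ} (c : Fin n) : ℤ := a (xO h ((c : ℕ) + 1)) - a (xO h 0)

variable {n : ℕ} (hn : h = 2 * n + 2)
include hn

omit D in
theorem val_xE (j : Fin n) : (xE h j).val = 2 * ((j : ℕ) + 1) := by
  rw [xE, ZMod.val_natCast, Nat.mod_eq_of_lt]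
  omega

omit D in
theorem val_xO {c : ℕ} (hc : c ≤ n) : (xO h c).val = 4 * c + 1 := by
  rw [xO, ZMod.val_natCast, Nat.mod_eq_of_lt]
  omega

theorem t_xE (j : Fin n) : (t : ZMod (2 * h)) * xE h j = -xE h j := by
  have h0 : (((t + 1) * (2 * ((j : ℕ) + 1)) : ℕ) : ZMod (2 * h)) = 0 := by
    rw [ZMod.natCast_eq_zero_iff]
    rcases D.kind with ⟨-, e⟩ | ⟨-, e, -⟩
    · exact e ▸ dvd_mul_right _ _
    · exact ⟨(j : ℕ) + 1, by rw [e]; ring⟩
  push_cast at h0
  simp only [xE]
  push_cast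
  linear_combination h0

theorem val_t_xE (j : Fin n) : ((t : ZMod (2 * h)) * xE h j).val = 2 * h - 2 * ((j : ℕ) + 1) := by
  rw [t_xE D hn, ZMod.neg_val, if_neg fun e => ?_, val_xE hn]
  have := val_xE hn j
  rw [e, ZMod.val_zero] at this
  omega

theorem val_t_xO (c : ℕ) : ((t : ZMod (2 * h)) * xO h c).val % 4 = 3 := by
  have h4 : 4 ∣ 2 * h := ⟨n + 1, by omega⟩
  rw [xO, ← Nat.cast_mul, ZMod.val_natCast, Nat.mod_mod_of_dvd _ h4, Nat.mul_mod, D.t_mod_four]
  omega

/-- The decomposition of a sum over the classes. -/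
theorem decomp {A : Type*} [AddCommMonoid A] (f : ZMod (2 * h) → A) :
    ∑ x, f x = f 0 + f (h : ZMod (2 * h)) + ∑ j : Fin n, (f (xE h j) + f ((t : ZMod (2 * h)) * xE h j)) +
      ∑ c : Fin (n + 1), (f (xO h c) + f ((t : ZMod (2 * h)) * xO h c)) := by
  set g : ((Bool ⊕ (Fin n × Bool)) ⊕ (Fin (n + 1) × Bool)) → ZMod (2 * h) := fun i => match i with
    | .inl (.inl b) => if b then (h : ZMod (2 * h)) else 0
    | .inl (.inr (j, b)) => if b then (t : ZMod (2 * h)) * xE h j else xE h j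
    | .inr (c, b) => if b then (t : ZMod (2 * h)) * xO h c else xO h c with hg
  have hh : ((h : ℕ) : ZMod (2 * h)).val = h := by rw [ZMod.val_natCast, Nat.mod_eq_of_lt (by omega)]
  have hinj : Function.Injective g := by
    rintro ((b | ⟨j, b⟩) | ⟨c, b⟩) ((b' | ⟨j', b'⟩) | ⟨c', b'⟩) e
    all_goals have e' := congrArg ZMod.val e
    all_goals cases b <;> cases b'
    all_goals simp only [hg, Bool.false_eq_true, if_false, if_true] at e e'
    all_goals try simp only [val_xE hn, val_t_xE D hn, hh, ZMod.val_zero] at e'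
    all_goals try rw [val_xO hn (Nat.lt_succ_iff.1 c.2)] at e'
    all_goals try rw [val_xO hn (Nat.lt_succ_iff.1 c'.2)] at e'
    all_goals try have h3 := val_t_xO D hn (c : ℕ)
    all_goals try have h3' := val_t_xO D hn (c' : ℕ)
    all_goals first
      | rfl
      | omega
      | (have := j.2; omega)
      | (have := j'.2; omega)
      | (have := j.2; have := j'.2; omega)
      | (obtain rfl : j = j' := Fin.ext (by have := j.2; have := j'.2; omega); rfl)
      | (have e2 := congrArg ZMod.val (t_inj D e)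
         rw [val_xO hn (Nat.lt_succ_iff.1 c.2), val_xO hn (Nat.lt_succ_iff.1 c'.2)] at e2
         obtain rfl : c = c' := Fin.ext (by omega)
         rfl)
      | (obtain rfl : c = c' := Fin.ext (by omega); rfl)
  have hbij : Function.Bijective g := (Fintype.bijective_iff_injective_and_card g).2 ⟨hinj, by
    simp only [Fintype.card_sum, Fintype.card_prod, Fintype.card_fin, Fintype.card_bool, ZMod.card]
    omega⟩
  rw [← hbij.sum_comp f]
  simp only [Fintype.sum_sum_type, Fintype.sum_prod_type, Fintype.sum_bool, hg, Bool.false_eq_true,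
    if_false, if_true, Finset.sum_add_distrib]
  abel

theorem chi_h_xE (j : Fin n) : chi hζ ((h : ZMod (2 * h)) * xE h j) = 1 := by
  rw [chi_half, val_xE hn, Even.neg_one_pow ⟨(j : ℕ) + 1, by ring⟩]

theorem chi_h_xO {c : ℕ} (hc : c ≤ n) : chi hζ ((h : ZMod (2 * h)) * xO h c) = -1 := by
  rw [chi_half, val_xO hn hc, Odd.neg_one_pow ⟨2 * c, by ring⟩]

theorem chi_h_t (x : ZMod (2 * h)) :
    chi hζ ((h : ZMod (2 * h)) * ((t : ZMod (2 * h)) * x)) = chi hζ ((h : ZMod (2 * h)) * x) := by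
  rw [← mul_assoc, mul_comm (h : ZMod (2 * h)), t_half D]

theorem h_half : (h : ZMod (2 * h)) * (h : ZMod (2 * h)) = 0 := by
  rw [← Nat.cast_mul, ZMod.natCast_eq_zero_iff]
  exact ⟨n + 1, by rw [hn]; ring⟩

/-- The values of a combination fixed by `t` away from the centre. -/
theorem expansion {a : ZMod (2 * h) → ℤ} (hfix : ∀ x, a ((t : ZMod (2 * h)) * x) = a x)
    {y : ZMod (2 * h)} (h0 : y ≠ 0) (hh : y ≠ (h : ZMod (2 * h))) :
    comb hζ a y = (whOf a : ℂ) * chi hζ ((h : ZMod (2 * h)) * y) +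
      ∑ j : Fin n, (wOf a j : ℂ) * (chi hζ (xE h j * y) + chi hζ ((t : ZMod (2 * h)) * xE h j * y)) +
      ∑ c : Fin n, (uOf a c : ℂ) * (chi hζ (xO h ((c : ℕ) + 1) * y) +
        chi hζ ((t : ZMod (2 * h)) * xO h ((c : ℕ) + 1) * y)) := by
  have hhn : y + (h : ZMod (2 * h)) ≠ 0 := fun e => hh (by
    have h2 : ((2 * h : ℕ) : ZMod (2 * h)) = 0 := ZMod.natCast_self _
    push_cast at h2
    linear_combination e - h2)
  have base : ∑ x, (((a 0 : ℂ) + a (xO h 0)) / 2 + ((a 0 : ℂ) - a (xO h 0)) / 2 *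
      chi hζ ((h : ZMod (2 * h)) * x)) * chi hζ (x * y) = 0 := by
    simp only [add_mul, mul_assoc, Finset.sum_add_distrib, ← Finset.mul_sum]
    have e2 : ∀ x : ZMod (2 * h), chi hζ ((h : ZMod (2 * h)) * x) * chi hζ (x * y) =
        chi hζ (x * (y + (h : ZMod (2 * h)))) := fun x => by
      rw [← AddChar.map_add_eq_mul]; congr 1; ring
    simp only [e2, sum_chi, if_neg h0, if_neg hhn, mul_zero, add_zero]
  have e : comb hζ a y = ∑ x, ((a x : ℂ) - (((a 0 : ℂ) + a (xO h 0)) / 2 +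
      ((a 0 : ℂ) - a (xO h 0)) / 2 * chi hζ ((h : ZMod (2 * h)) * x))) * chi hζ (x * y) := by
    simp only [sub_mul, Finset.sum_sub_distrib, base, sub_zero, comb]
  rw [e, decomp D hn]
  simp only [chi_h_t hζ D hn, chi_h_xE hζ D hn, hfix, h_half D hn, mul_zero, AddChar.map_zero_eq_one,
    chi_h_xO hζ D hn (Nat.lt_succ_iff.1 (Fin.is_lt _))]
  rw [Fin.sum_univ_succ]
  simp only [Fin.val_zero, Fin.val_succ, whOf, wOf, uOf]
  push_cast
  simp only [sub_mul, mul_add, Finset.sum_sub_distrib, Finset.sum_add_distrib, ← Finset.sum_mul,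
    ← Finset.mul_sum]
  ring

open TameConfig in
/-- The products over the rotations of order at least four. -/
theorem rot_eq {a b : ZMod (2 * h) → ℤ} (ha : ∀ x, a ((t : ZMod (2 * h)) * x) = a x)
    (hb : ∀ x, b ((t : ZMod (2 * h)) * x) = b x) :
    ∑ y ∈ ((Finset.univ : Finset (ZMod (2 * h))).erase 0).erase (h : ZMod (2 * h)),
        comb hζ a y * conj (comb hζ b y) =
      ((2 * h * (whOf a * whOf b + 2 * ∑ j : Fin n, wOf a j * wOf b j) -
          2 * ((whOf a + 2 * ∑ j : Fin n, wOf a j) * (whOf b + 2 * ∑ j : Fin n, wOf b j)) +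
        (4 * h * ∑ c : Fin n, uOf a c * uOf b c -
          8 * ((∑ c : Fin n, uOf a c) * ∑ c : Fin n, uOf b c)) : ℤ) : ℂ) := by
  have hne : (h : ZMod (2 * h)) ≠ 0 := fun e0 => by
    rw [ZMod.natCast_eq_zero_iff] at e0
    have := Nat.le_of_dvd (by omega) e0
    omega
  have hsum : ∀ (c : ZMod (2 * h) → ℤ), (∀ x, c ((t : ZMod (2 * h)) * x) = c x) →
      comb hζ c 0 = ((c 0 + c (h : ZMod (2 * h)) + 2 * ∑ j : Fin n, c (xE h j) +
        2 * ∑ k : Fin (n + 1), c (xO h k) : ℤ) : ℂ) ∧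
      comb hζ c (h : ZMod (2 * h)) = ((c 0 + c (h : ZMod (2 * h)) + 2 * ∑ j : Fin n, c (xE h j) -
        2 * ∑ k : Fin (n + 1), c (xO h k) : ℤ) : ℂ) := by
    intro c hc
    constructor
    · rw [comb, decomp D hn]
      simp only [mul_zero, zero_mul, AddChar.map_zero_eq_one, mul_one, hc]
      push_cast
      simp only [Finset.sum_add_distrib]
      ring
    · rw [comb, decomp D hn]
      simp only [mul_comm _ (h : ZMod (2 * h)), chi_h_t hζ D hn, chi_h_xE hζ D hn, mul_zero,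
        AddChar.map_zero_eq_one, h_half D hn, mul_one, hc,
        chi_h_xO hζ D hn (Nat.lt_succ_iff.1 (Fin.is_lt _))]
      push_cast
      simp only [Finset.sum_add_distrib, mul_neg, mul_one, Finset.sum_neg_distrib]
      ring
  have hconj : ∀ z : ℤ, conj (z : ℂ) = z := fun z => map_intCast _ z
  have htot := plancherel hζ a b
  rw [← Finset.add_sum_erase _ _ (Finset.mem_univ (0 : ZMod (2 * h))),
    ← Finset.add_sum_erase _ _ (Finset.mem_erase.2 ⟨hne, Finset.mem_univ _⟩)] at htot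
  rw [(hsum a ha).1, (hsum a ha).2, (hsum b hb).1, (hsum b hb).2, hconj, hconj] at htot
  refine (eq_sub_of_add_eq' (eq_sub_of_add_eq' htot)).trans ?_
  rw [decomp D hn]
  simp only [ha, hb, whOf, wOf, uOf, Fin.sum_univ_succ, Fin.val_zero, Fin.val_succ]
  have hh : (h : ℂ) = 2 * (n : ℂ) + 2 := by rw [hn]; push_cast; ring
  push_cast
  rw [hh]
  simp only [sub_mul, mul_sub, Finset.sum_add_distrib, Finset.sum_sub_distrib, ← Finset.mul_sum,
    ← Finset.sum_mul, Finset.sum_const, Finset.card_univ, Fintype.card_fin, nsmul_eq_mul]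
  ring

/-- The products of the differences of the coefficients. -/
theorem gram {ι : Type*} (s : Finset ι) (a : ι → ZMod (2 * h) → ℤ)
    (hG : ∀ y y', y ≠ 0 → y ≠ (h : ZMod (2 * h)) → y' ≠ 0 → y' ≠ (h : ZMod (2 * h)) →
      ∑ i ∈ s, comb hζ (a i) y * conj (comb hζ (a i) y') =
        (2 * h : ℂ) * ((if y' = y then 1 else 0) + (if y' = (t : ZMod (2 * h)) * y then 1 else 0)))
    {x z x' z' : ZMod (2 * h)} (hxz : (h : ZMod (2 * h)) * x = (h : ZMod (2 * h)) * z)
    (hxz' : (h : ZMod (2 * h)) * x' = (h : ZMod (2 * h)) * z') :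
    ∑ i ∈ s, (a i x - a i z) * (a i x' - a i z') =
      ((if x = x' then 1 else 0) + (if x = (t : ZMod (2 * h)) * x' then 1 else 0)) -
      ((if x = z' then 1 else 0) + (if x = (t : ZMod (2 * h)) * z' then 1 else 0)) -
      ((if z = x' then 1 else 0) + (if z = (t : ZMod (2 * h)) * x' then 1 else 0)) +
      ((if z = z' then 1 else 0) + (if z = (t : ZMod (2 * h)) * z' then 1 else 0)) := by
  set K : ZMod (2 * h) → ℂ := fun y => chi hζ (-(x * y)) - chi hζ (-(z * y)) with hK
  set K' : ZMod (2 * h) → ℂ := fun y => chi hζ (x' * y) - chi hζ (z' * y) with hK'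
  have hK0 : ∀ y, y = 0 ∨ y = (h : ZMod (2 * h)) → K y = 0 ∧ K' y = 0 := by
    rintro y (rfl | rfl)
    · simp [hK, hK']
    · simp only [hK, hK', mul_comm _ (h : ZMod (2 * h)), hxz, hxz', sub_self, and_self]
  have hd : ∀ i, (2 * h : ℂ) * ((a i x - a i z : ℤ) : ℂ) = ∑ y, comb hζ (a i) y * K y := fun i => by
    push_cast
    rw [mul_sub, ← inversion hζ (a i) x, ← inversion hζ (a i) z, ← Finset.sum_sub_distrib]
    simp only [hK, mul_sub]
  have hd' : ∀ i, (2 * h : ℂ) * ((a i x' - a i z' : ℤ) : ℂ) = ∑ y, conj (comb hζ (a i) y) * K' y := fun i => by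
    push_cast
    rw [mul_sub, ← inversion hζ (a i) x', ← inversion hζ (a i) z', ← Finset.sum_sub_distrib]
    have e : ∀ y, conj (comb hζ (a i) y) = comb hζ (a i) (-y) := fun y => by
      rw [conj_comb, comb]; simp only [mul_neg]
    refine Fintype.sum_equiv (Equiv.neg _) _ _ fun y => ?_
    simp only [Equiv.neg_apply, e, neg_neg, hK', mul_neg, mul_sub]
  have hN : (2 * h : ℂ) * (2 * h : ℂ) ≠ 0 := by
    have : (2 * h : ℂ) ≠ 0 := by exact_mod_cast NeZero.ne (2 * h)
    exact mul_ne_zero this this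
  refine Int.cast_injective (α := ℂ) (mul_left_cancel₀ hN ?_)
  push_cast [apply_ite (Int.cast : ℤ → ℂ)]
  rw [Finset.mul_sum]
  have hterm : ∀ i, (2 * h : ℂ) * (2 * h : ℂ) * (((a i x : ℂ) - a i z) * ((a i x' : ℂ) - a i z')) =
      ∑ y, ∑ y', K y * K' y' * (comb hζ (a i) y * conj (comb hζ (a i) y')) := by
    intro i
    have e1 := hd i
    have e2 := hd' i
    push_cast at e1 e2
    rw [show (2 * h : ℂ) * (2 * h : ℂ) * (((a i x : ℂ) - a i z) * ((a i x' : ℂ) - a i z')) =
      ((2 * h : ℂ) * ((a i x : ℂ) - a i z)) * ((2 * h : ℂ) * ((a i x' : ℂ) - a i z')) by ring, e1, e2,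
      Finset.sum_mul_sum]
    exact Finset.sum_congr rfl fun y _ => Finset.sum_congr rfl fun y' _ => by ring
  rw [Finset.sum_congr rfl fun i _ => hterm i, Finset.sum_comm]
  have hinner : ∀ y, ∑ i ∈ s, ∑ y', K y * K' y' * (comb hζ (a i) y * conj (comb hζ (a i) y')) =
      (2 * h : ℂ) * (K y * K' y + K y * K' ((t : ZMod (2 * h)) * y)) := by
    intro y
    rw [Finset.sum_comm]
    simp only [← Finset.mul_sum]
    by_cases hy : y = 0 ∨ y = (h : ZMod (2 * h))
    · simp only [(hK0 y hy).1, zero_mul, Finset.sum_const_zero, add_zero, mul_zero]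
    rw [not_or] at hy
    rw [Finset.sum_congr rfl (g := fun y' => K y * K' y' * ((2 * h : ℂ) *
      ((if y' = y then 1 else 0) + (if y' = (t : ZMod (2 * h)) * y then 1 else 0)))) fun y' _ => ?_]
    · simp only [mul_add, mul_ite, mul_one, mul_zero, Finset.sum_add_distrib, Finset.sum_ite_eq',
        Finset.mem_univ, if_true]
      ring
    · by_cases hy' : y' = 0 ∨ y' = (h : ZMod (2 * h))
      · simp only [(hK0 y' hy').2, mul_zero, zero_mul]
      rw [not_or] at hy'
      rw [hG y y' hy.1 hy.2 hy'.1 hy'.2]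
  rw [Finset.sum_congr rfl fun y _ => hinner y, ← Finset.mul_sum, mul_assoc (2 * h : ℂ)]
  congr 1
  have hexp : ∀ y, K y * K' y + K y * K' ((t : ZMod (2 * h)) * y) =
      chi hζ (y * (x' - x)) + chi hζ (y * ((t : ZMod (2 * h)) * x' - x)) -
      (chi hζ (y * (z' - x)) + chi hζ (y * ((t : ZMod (2 * h)) * z' - x))) -
      (chi hζ (y * (x' - z)) + chi hζ (y * ((t : ZMod (2 * h)) * x' - z))) +
      (chi hζ (y * (z' - z)) + chi hζ (y * ((t : ZMod (2 * h)) * z' - z))) := by
    intro y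
    have e : ∀ p q : ZMod (2 * h), chi hζ (y * (p - q)) = chi hζ (-(q * y)) * chi hζ (p * y) := by
      intro p q
      rw [← AddChar.map_add_eq_mul]
      congr 1
      ring
    simp only [hK, hK', e, mul_assoc (t : ZMod (2 * h)), mul_left_comm _ (t : ZMod (2 * h))]
    ring
  simp only [hexp, Finset.sum_add_distrib, Finset.sum_sub_distrib, sum_chi, sub_eq_zero]
  simp only [eq_comm (a := x) (b := x'), eq_comm (a := x) (b := z'), eq_comm (a := z) (b := x'),
    eq_comm (a := z) (b := z'), eq_comm (a := x) (b := (t : ZMod (2 * h)) * x'),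
    eq_comm (a := x) (b := (t : ZMod (2 * h)) * z'), eq_comm (a := z) (b := (t : ZMod (2 * h)) * x'),
    eq_comm (a := z) (b := (t : ZMod (2 * h)) * z')]
  simp only [mul_add, mul_sub, mul_ite, mul_one, mul_zero]

/-- The value at the quarter of a combination fixed by `t`. -/
theorem quarter_value {a : ZMod (2 * h) → ℤ} (hfix : ∀ x, a ((t : ZMod (2 * h)) * x) = a x) :
    comb hζ a ((n + 1 : ℕ) : ZMod (2 * h)) =
      (((-1) ^ (n + 1) * whOf a + 2 * ∑ j : Fin n, (-1) ^ ((j : ℕ) + 1) * wOf a j : ℤ) : ℂ) := by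
  have hq : h = 2 * (n + 1) := by omega
  obtain ⟨hq0, hqh⟩ := quarter_ne D hq
  have hv : ((n + 1 : ℕ) : ZMod (2 * h)).val = n + 1 := by
    rw [ZMod.val_natCast, Nat.mod_eq_of_lt (by omega)]
  have hE : ∀ j : Fin n, chi hζ (xE h j * ((n + 1 : ℕ) : ZMod (2 * h))) = (-1) ^ ((j : ℕ) + 1) := by
    intro j
    rw [xE, ← Nat.cast_mul, chi_nat, show 2 * ((j : ℕ) + 1) * (n + 1) = h * ((j : ℕ) + 1) by rw [hq]; ring,
      pow_mul, sigma_h_chi hζ]
  have htE : ∀ j : Fin n, chi hζ ((t : ZMod (2 * h)) * xE h j * ((n + 1 : ℕ) : ZMod (2 * h))) =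
      (-1) ^ ((j : ℕ) + 1) := by
    intro j
    rw [t_xE D hn, neg_mul, AddChar.map_neg_eq_inv, hE, ← inv_pow, show (-1 : ℂ)⁻¹ = -1 by norm_num]
  set i0 := ζ ^ (n + 1) with hi0
  have hi : i0 * i0 = -1 := by
    rw [hi0, ← pow_add, show n + 1 + (n + 1) = h by omega, sigma_h_chi hζ]
  have hi4 : i0 ^ 4 = 1 := by linear_combination (i0 * i0 - 1) * hi
  have hO : ∀ c : ℕ, chi hζ (xO h c * ((n + 1 : ℕ) : ZMod (2 * h))) +
      chi hζ ((t : ZMod (2 * h)) * xO h c * ((n + 1 : ℕ) : ZMod (2 * h))) = 0 := by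
    intro c
    rw [mul_assoc, mul_left_comm, t_quarter D hq, mul_neg, AddChar.map_neg_eq_inv]
    rw [xO, ← Nat.cast_mul, chi_nat, mul_comm, pow_mul, ← hi0, pow_succ, pow_mul, hi4, one_pow, one_mul]
    rw [inv_eq_of_mul_eq_one_right (show i0 * -i0 = 1 by linear_combination -hi)]
    ring
  rw [expansion hζ D hn hfix hq0 hqh, chi_half, hv]
  simp only [hE, htE, hO, mul_zero, Finset.sum_const_zero, add_zero]
  push_cast
  rw [Finset.mul_sum]
  congr 1
  · ring
  · exact Finset.sum_congr rfl fun j _ => by ring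

end CfsgLib.Block.Tame.TameFourier
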