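import Cfsg.Agent.Lib.Block.Tame.TameCentral
import Cfsg.Agent.Lib.Block.Tame.LocalPair
import Cfsg.Agent.Lib.Block.HeightCenter

/-!
# 2-blocks with quaternion or semidihedral defect group: the block at the central involution

In the centralizer `T` of `J = σ ^ h` the block of the subsection at `J` has the same defect group,
and the elements squaring to `J` are fused there as in the whole group; hence its 2-rank is
determined by the outer classes (`TFrame.local_rank`).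
-/

open Finset MonoidAlgebra
open scoped ComplexConjugate

set_option autoImplicit false
set_option linter.unusedSectionVars false

namespace CfsgLib.Block.Tame

open Cfsg CfsgLib CfsgLib.Block CfsgLib.Block.CyclicDefect
open scoped Pair

universe u

variable {M : Ideal AlgInt} [M.IsMaximal] {G : Type u} [Group G] [Fintype G] [DecidableEq G]

theorem eG_cjP (n : G) (a : BrauerPairIdx G) : eG M (cjP n a).2 = cj n (eG M a.2) :=
  eG_conjBlock n a.2

theorem cjS_subgroupOf {T Q : Subgroup G} (hQ : Q ≤ T) (n : T) :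
    (cjS n (Q.subgroupOf T)).map T.subtype = cjS (n : G) Q := by
  ext x
  constructor
  · rintro ⟨u, hu, rfl⟩
    exact mem_cjS.2 (Subgroup.mem_subgroupOf.1 (mem_cjS.1 hu))
  · intro hx
    have h1 := mem_cjS.1 hx
    have hxT : x ∈ T := by
      simpa [mul_assoc] using mul_mem (mul_mem n.2 (hQ h1)) (inv_mem n.2)
    exact ⟨⟨x, hxT⟩, mem_cjS.2 (Subgroup.mem_subgroupOf.2 h1), rfl⟩

/-- Conjugacy of pairs seen inside a subgroup containing their centralizers. -/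
theorem cjP_inT_iff {p : ℕ} (hM : IsPModular p M) {T Q R : Subgroup G} [Fintype T] [DecidableEq T]
    {b : Set (IrrCharacter (CQ Q))} {c : Set (IrrCharacter (CQ R))} (hb : IsPBlock M b)
    (hc : IsPBlock M c) (hQ : Q ≤ T) (hR : R ≤ T) (hCQ : CQ Q ≤ T) (hCR : CQ R ≤ T) (n : T) :
    cjP n (⟨Q.subgroupOf T, irrEquiv (cqInT hCQ hQ) '' b⟩ : BrauerPairIdx T) =
        ⟨R.subgroupOf T, irrEquiv (cqInT hCR hR) '' c⟩ ↔
      cjP (n : G) (⟨Q, b⟩ : BrauerPairIdx G) = ⟨R, c⟩ := by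
  constructor
  · intro h
    have h1 : cjS n (Q.subgroupOf T) = R.subgroupOf T := congrArg (fun a : BrauerPairIdx T => a.1) h
    have h2 := congrArg (fun a : BrauerPairIdx T => eG M a.2) h
    simp only [eG_cjP] at h2
    have h3 : cjS (n : G) Q = R := by
      rw [← cjS_subgroupOf hQ, h1, Subgroup.map_subgroupOf_eq_of_le hR]
    refine pair_ext hM (isPBlock_conjBlock _ hb) hc h3 ((eG_conjBlock _ b).trans (ga_ext fun g => ?_))
    rw [coeff_cj]
    by_cases hg : g ∈ T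
    · have h4 := congrArg (fun a : MonoidAlgebra (ResField M) T => a.coeff ⟨g, hg⟩) h2
      simp only [coeff_cj] at h4
      exact (coeff_eG_inT hCQ hQ b (n⁻¹ * ⟨g, hg⟩ * n)).symm.trans (h4.trans (coeff_eG_inT hCR hR c ⟨g, hg⟩))
    · rw [suppIn_eG c g fun h' => hg (hCR h'), suppIn_eG b _ fun h' => hg ?_]
      have := mul_mem (mul_mem n.2 (hCQ h')) (inv_mem n.2)
      simpa [mul_assoc] using this
  · intro h
    have h1 : cjS (n : G) Q = R := congrArg (fun a : BrauerPairIdx G => a.1) h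
    have h2 := congrArg (fun a : BrauerPairIdx G => eG M a.2) h
    simp only [eG_cjP] at h2
    refine pair_ext hM (isPBlock_conjBlock _ (isPBlock_image_irrEquiv _ hb))
      (isPBlock_image_irrEquiv _ hc) ?_ ((eG_conjBlock _ _).trans (ga_ext fun g => ?_))
    · refine Subgroup.map_injective T.subtype_injective ?_
      rw [cjS_subgroupOf hQ, h1, Subgroup.map_subgroupOf_eq_of_le hR]
    · rw [coeff_cj]
      refine (coeff_eG_inT hCQ hQ b _).trans (Eq.trans ?_ (coeff_eG_inT hCR hR c g).symm)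
      have h4 := congrArg (fun a : MonoidAlgebra (ResField M) G => a.coeff (g : G)) h2
      simp only [coeff_cj] at h4
      exact h4

variable [Fintype (IrrCharacter G)] {B : Set (IrrCharacter G)} {P : Subgroup G}
  {e : Set (IrrCharacter (CQ P))}

namespace TFrame

variable {σ τ : G} {h t : ℕ} (F : TFrame M B P e σ τ h t)
include F

omit [Fintype (IrrCharacter G)] in
theorem sq_eq_J_of_mem {y z : P} (hy : (y : G) * y = σ ^ h) (hz : z ∈ F.cls y) :
    (z : G) * z = σ ^ h := by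
  obtain ⟨g, hg⟩ := F.exists_conj_of_mem hz
  have h1 : (z : G) * z = g * σ ^ h * g⁻¹ := by rw [← hg, ← hy]; group
  obtain ⟨l, rfl | rfl⟩ := F.cases_P z
  · rw [rot_coe, ← pow_add]
    rw [rot_coe, ← pow_add] at h1
    refine F.pres.eq_J (fun e0 => F.pres.sigma_h_ne (conj_eq_one_iff.1 (h1.symm.trans e0))) ?_
    by_contra hd
    refine (F.pres.sq_ne_iff (l + l)).2 hd ?_
    rw [h1, show g * σ ^ h * g⁻¹ * (g * σ ^ h * g⁻¹) = g * (σ ^ h * σ ^ h) * g⁻¹ by group,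
      F.pres.sigma_h_sq, mul_one, mul_inv_cancel]
  · rcases F.pres.outer_sq l with e0 | e0
    · exact absurd (conj_eq_one_iff.1 (h1.symm.trans e0)) F.pres.sigma_h_ne
    · exact e0

omit [Fintype (IrrCharacter G)] in
/-- An element squaring to `J` is free unless fused with a rotation squaring to `J`. -/
theorem free_iff_of_sq {y : P} (hy : (y : G) * y = σ ^ h) :
    y ∈ F.free ↔ ∀ l : ℕ, ¬ h ∣ l → σ ^ l * σ ^ l = σ ^ h → F.rot l ∉ F.cls y := by
  rw [F.mem_free]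
  refine ⟨fun hf l hl _ => hf.2.2 l hl, fun hf => ⟨?_, ?_, fun l hl hm => ?_⟩⟩
  · rintro rfl
    rw [OneMemClass.coe_one, one_mul] at hy
    exact F.pres.sigma_h_ne hy.symm
  · intro hm
    have h1 := F.sq_eq_J_of_mem hy hm
    rw [rot_coe, F.pres.sigma_h_sq] at h1
    exact F.pres.sigma_h_ne h1.symm
  · exact hf l hl (by simpa [rot_coe] using F.sq_eq_J_of_mem hy hm) hm

open scoped Classical in
/-- The 2-rank of the block at the central involution. -/
theorem local_rank :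
    (τ * τ = σ ^ h → blockRank 2 (lowPair F.hM F.hmax.1.1 (F.rot h)).2 + F.outCls.card = 3) ∧
    (τ * τ = 1 → blockRank 2 (lowPair F.hM F.hmax.1.1 (F.rot h)).2 +
      (if F.out 1 ∈ F.free then 1 else 0) = 2) := by
  obtain ⟨f, hf, hPC, hdef⟩ : ∃ f : Set (IrrCharacter (CQ (Subgroup.zpowers (σ ^ h)))),
      lowPair F.hM F.hmax.1.1 (F.rot h) = ⟨Subgroup.zpowers (σ ^ h), f⟩ ∧
      P ≤ CQ (Subgroup.zpowers (σ ^ h)) ∧
      IsDefectGroup 2 M f (P.subgroupOf (CQ (Subgroup.zpowers (σ ^ h)))) := by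
    obtain ⟨f, hf, -, -, hPC, hdef⟩ := exists_major_lowPair F.hM F.hmax F.J_center
    rw [inf_eq_left.mpr hPC] at hdef
    exact ⟨f, hf, hPC, hdef⟩
  have hle := lowPair_below F.hM F.hmax.1.1 (F.rot h)
  rw [hf] at hle ⊢
  dsimp only
  obtain ⟨g₀, hsub, hgP⟩ := SubpairLE.exists_nSub_mid F.hM F.hmax.1.1
    (hle : SubpairLE 2 M _ f P e) (SubpairLE.le hle) le_rfl
    (hPC.trans (centralizer_le_normalizer' _))
  obtain rfl : g₀ = e := SubpairLE.eq_of_eq F.hM hgP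
  letI : Fintype (CQ (Subgroup.zpowers (σ ^ h))) := Fintype.ofFinite _
  letI : Fintype (IrrCharacter (CQ (Subgroup.zpowers (σ ^ h)))) := Fintype.ofFinite _
  have hmax' : IsMaximalBrauerPair 2 M f (P.subgroupOf (CQ (Subgroup.zpowers (σ ^ h))))
      (irrEquiv (cqInT (cq_mono hsub.le) hPC) '' g₀) :=
    isMaximal_of_defect F.hM hdef (isBrauerPairOf_inT F.hM hsub.pairL.2 hsub.pairL.2
      (fun u => (subgroupBlockCoeff_coe f u).symm) (cq_mono hsub.le) hPC hsub)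
  have hσT : σ ∈ (CQ (Subgroup.zpowers (σ ^ h))) := hPC F.pres.memσ
  have hτT : τ ∈ (CQ (Subgroup.zpowers (σ ^ h))) := hPC F.pres.memτ
  have hpres : TPres (P.subgroupOf (CQ (Subgroup.zpowers (σ ^ h)))) (⟨σ, hσT⟩ : (CQ (Subgroup.zpowers (σ ^ h)))) ⟨τ, hτT⟩ h t := by
    refine ⟨F.pres.pow2, F.pres.memσ, F.pres.memτ, ?_, ?_, Subtype.ext F.pres.rel, fun hz => ?_, ?_⟩
    · rw [← Subgroup.orderOf_coe]; exact F.pres.orderσ
    · rcases F.pres.kind with ⟨e1, e2⟩ | ⟨e1, e2, e3⟩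
      · exact Or.inl ⟨Subtype.ext e1, e2⟩
      · exact Or.inr ⟨Subtype.ext e1, e2, e3⟩
    · obtain ⟨j, hj⟩ := Subgroup.mem_zpowers_iff.1 hz
      exact F.pres.not_zpow (Subgroup.mem_zpowers_iff.2 ⟨j, congrArg Subtype.val hj⟩)
    · rw [Nat.card_congr (Subgroup.subgroupOfEquivOfLe hPC).toEquiv]; exact F.pres.card
  have F' : TFrame M f (P.subgroupOf (CQ (Subgroup.zpowers (σ ^ h)))) (irrEquiv (cqInT (cq_mono hsub.le) hPC) '' g₀)
      (⟨σ, hσT⟩ : (CQ (Subgroup.zpowers (σ ^ h)))) ⟨τ, hτT⟩ h t := ⟨F.hM, hmax', hpres⟩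
  have hc : ∀ u : (CQ (Subgroup.zpowers (σ ^ h))), Commute u ((⟨σ, hσT⟩ : (CQ (Subgroup.zpowers (σ ^ h)))) ^ h) := fun u =>
    Subtype.ext (mem_cq_zpowers_iff.1 u.2).eq
  have hrk := F'.rank_of_central hc
  -- the pairs on elements squaring to `J`
  have hlow : ∀ (y : P) (y' : P.subgroupOf (CQ (Subgroup.zpowers (σ ^ h)))), ((y' : (CQ (Subgroup.zpowers (σ ^ h)))) : G) = (y : G) → (y : G) * y = σ ^ h →
      ∃ (b : Set (IrrCharacter (CQ (Subgroup.zpowers (y : G)))))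
        (hC : CQ (Subgroup.zpowers (y : G)) ≤ (CQ (Subgroup.zpowers (σ ^ h)))) (hy : Subgroup.zpowers (y : G) ≤ (CQ (Subgroup.zpowers (σ ^ h)))),
        IsPBlock M b ∧ lowPair F.hM F.hmax.1.1 y = ⟨Subgroup.zpowers (y : G), b⟩ ∧
        lowPair F'.hM F'.hmax.1.1 y' =
          ⟨(Subgroup.zpowers (y : G)).subgroupOf (CQ (Subgroup.zpowers (σ ^ h))), irrEquiv (cqInT hC hy) '' b⟩ := by
    intro y y' hyy hsq
    obtain ⟨b, hb⟩ := exists_eq_pairMk (a := lowPair F.hM F.hmax.1.1 y)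
      (Q := Subgroup.zpowers (y : G)) rfl
    have hbel := lowPair_below F.hM F.hmax.1.1 y
    rw [hb] at hbel
    have hC : CQ (Subgroup.zpowers (y : G)) ≤ (CQ (Subgroup.zpowers (σ ^ h))) := by
      refine cq_mono (Subgroup.zpowers_le.2 ?_)
      rw [← hsq]
      exact mul_mem (Subgroup.mem_zpowers _) (Subgroup.mem_zpowers _)
    have hy : Subgroup.zpowers (y : G) ≤ (CQ (Subgroup.zpowers (σ ^ h))) := (Subgroup.zpowers_le.2 y.2).trans hPC
    refine ⟨b, hC, hy, (isBrauerPair_of_below F.hM F.hmax.1.1 hbel).2, hb, ?_⟩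
    refine below_ext F'.hM F'.hmax.1.1 (lowPair_below F'.hM F'.hmax.1.1 y')
      (subpairLE_inT F.hM (hbel : SubpairLE 2 M _ b P g₀) hC hPC) ?_
    show Subgroup.zpowers (y' : (CQ (Subgroup.zpowers (σ ^ h)))) = (Subgroup.zpowers (y : G)).subgroupOf (CQ (Subgroup.zpowers (σ ^ h)))
    ext u
    simp only [Subgroup.mem_subgroupOf, Subgroup.mem_zpowers_iff, ← hyy, Subtype.ext_iff,
      SubgroupClass.coe_zpow]
  have hfus : ∀ (y z : P) (y' z' : P.subgroupOf (CQ (Subgroup.zpowers (σ ^ h)))), ((y' : (CQ (Subgroup.zpowers (σ ^ h)))) : G) = (y : G) → ((z' : (CQ (Subgroup.zpowers (σ ^ h)))) : G) = (z : G) →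
      (y : G) * y = σ ^ h → (z : G) * z = σ ^ h → (z' ∈ F'.cls y' ↔ z ∈ F.cls y) := by
    intro y z y' z' hyy hzz hy hz
    obtain ⟨b, hCb, hQb, hb, hlb, hlb'⟩ := hlow y y' hyy hy
    obtain ⟨c, hCc, hQc, hc', hlc, hlc'⟩ := hlow z z' hzz hz
    refine (mem_fusClass F'.hM F'.hmax.1.1).trans (Iff.trans ?_ (mem_fusClass F.hM F.hmax.1.1).symm)
    rw [hlb, hlb', hlc, hlc']
    constructor
    · rintro ⟨n, hn, hnl⟩
      refine ⟨(n : G), ?_, (cjP_inT_iff F.hM hb hc' hQb hQc hCb hCc n).1 hnl⟩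
      rw [← hyy, ← hzz, ← hn]; rfl
    · rintro ⟨n, hn, hnl⟩
      have hnT : n ∈ (CQ (Subgroup.zpowers (σ ^ h))) := mem_cq_zpowers_iff.2 (mul_inv_eq_iff_eq_mul.1 (by
        calc n * σ ^ h * n⁻¹ = n * (y : G) * n⁻¹ * (n * (y : G) * n⁻¹) := by rw [← hy]; group
          _ = σ ^ h := by rw [hn, hz]))
      refine ⟨⟨n, hnT⟩, Subtype.ext ?_, (cjP_inT_iff F.hM hb hc' hQb hQc hCb hCc ⟨n, hnT⟩).2 hnl⟩
      show n * ((y' : (CQ (Subgroup.zpowers (σ ^ h)))) : G) * n⁻¹ = ((z' : (CQ (Subgroup.zpowers (σ ^ h)))) : G)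
      rw [hyy, hzz, hn]
  have hfree : ∀ (y : P) (y' : P.subgroupOf (CQ (Subgroup.zpowers (σ ^ h)))), ((y' : (CQ (Subgroup.zpowers (σ ^ h)))) : G) = (y : G) → (y : G) * y = σ ^ h →
      (y' ∈ F'.free ↔ y ∈ F.free) := by
    intro y y' hyy hy
    rw [F.free_iff_of_sq hy, F'.free_iff_of_sq (Subtype.ext (by
      show ((y' : (CQ (Subgroup.zpowers (σ ^ h)))) : G) * ((y' : (CQ (Subgroup.zpowers (σ ^ h)))) : G) = _
      rw [hyy]; exact hy))]
    refine forall_congr' fun l => imp_congr_right fun _ => ?_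
    have h1 : (⟨σ, hσT⟩ : (CQ (Subgroup.zpowers (σ ^ h)))) ^ l * (⟨σ, hσT⟩ : (CQ (Subgroup.zpowers (σ ^ h)))) ^ l = (⟨σ, hσT⟩ : (CQ (Subgroup.zpowers (σ ^ h)))) ^ h ↔
        σ ^ l * σ ^ l = σ ^ h := Subtype.ext_iff
    refine imp_congr_ctx h1 fun hl => not_congr (hfus y (F.rot l) y' (F'.rot l) hyy rfl hy hl)
  constructor
  · intro hq
    have hsq : ∀ j, ((F.out j : P) : G) * (F.out j : P) = σ ^ h := fun j => F.out_sq_quaternion hq j
    rw [← hrk]
    congr 1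
    rw [F.card_outCls, F'.card_outCls]
    simp only [hfree (F.out 0) (F'.out 0) rfl (hsq 0), hfree (F.out 1) (F'.out 1) rfl (hsq 1),
      hfus (F.out 0) (F.out 1) (F'.out 0) (F'.out 1) rfl rfl (hsq 0) (hsq 1)]
  · intro hsd
    have hsd' : (⟨τ, hτT⟩ : (CQ (Subgroup.zpowers (σ ^ h)))) * ⟨τ, hτT⟩ = 1 := Subtype.ext hsd
    have h0 : F'.out 0 ∈ F'.free := by
      rw [F'.out_zero_free_iff hsd']
      intro hm
      obtain ⟨u, hu⟩ := F'.exists_conj_of_mem hm
      have hu' : u * (F'.out 0 : (CQ (Subgroup.zpowers (σ ^ h)))) * u⁻¹ = (⟨σ, hσT⟩ : (CQ (Subgroup.zpowers (σ ^ h)))) ^ h := hu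
      rw [out_coe] at hu'
      have h2 : (⟨τ, hτT⟩ : (CQ (Subgroup.zpowers (σ ^ h)))) * (⟨σ, hσT⟩ : (CQ (Subgroup.zpowers (σ ^ h)))) ^ 0 = u⁻¹ * (⟨σ, hσT⟩ : (CQ (Subgroup.zpowers (σ ^ h)))) ^ h * u := by
        rw [← hu']; group
      rw [mul_assoc, ← (hc u).eq, inv_mul_cancel_left] at h2
      exact F'.pres.refl_not_rot 0 h h2
    rw [F'.card_outCls, if_pos h0] at hrk
    simp only [F'.out_one_not_mem hsd', not_false_eq_true, and_true,
      hfree (F.out 1) (F'.out 1) rfl (F.out_one_sq hsd)] at hrk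
    split_ifs at hrk ⊢ <;> omega

end TFrame

end CfsgLib.Block.Tame
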