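import Cfsg.Agent.Lib.Block.CyclicPairs
import Cfsg.Agent.Lib.Coprime.Action
import Mathlib.GroupTheory.SpecificGroups.Quaternion

/-!
# Quaternion and semidihedral subgroups with chosen generators

`TPres P σ τ h t` : `P` of order `4 * h` is generated by `σ` of order `2 * h` and `τ` with
`τ * σ * τ⁻¹ = σ ^ t`, either `t = 2 * h - 1` and `τ * τ = σ ^ h` (quaternion) or `t = h - 1` and
`τ * τ = 1` (semidihedral).
-/

set_option autoImplicit false
set_option linter.unusedSectionVars false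

namespace CfsgLib.Block.Tame

open Cfsg

universe u

variable {G : Type u} [Group G]

/-- A quaternion or semidihedral subgroup with rotations `σ ^ l` and outer elements `τ * σ ^ l`. -/
structure TPres (P : Subgroup G) (σ τ : G) (h t : ℕ) : Prop where
  pow2 : ∃ k : ℕ, 0 < k ∧ h = 2 ^ k
  memσ : σ ∈ P
  memτ : τ ∈ P
  orderσ : orderOf σ = 2 * h
  kind : (τ * τ = σ ^ h ∧ t + 1 = 2 * h) ∨ (τ * τ = 1 ∧ t + 1 = h ∧ 4 ≤ h)
  rel : τ * σ * τ⁻¹ = σ ^ t
  not_zpow : τ ∉ Subgroup.zpowers σ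
  card : Nat.card P = 4 * h

theorem exists_tPres_quaternion {P : Subgroup G} {n : ℕ} (hn : 3 ≤ n)
    (hq : Nonempty (P ≃* QuaternionGroup (2 ^ (n - 2)))) :
    ∃ σ τ : G, TPres P σ τ (2 ^ (n - 2)) (2 * 2 ^ (n - 2) - 1) ∧ τ * τ = σ ^ 2 ^ (n - 2) := by
  obtain ⟨e⟩ := hq
  set h := 2 ^ (n - 2) with hh
  have hh0 : 0 < h := Nat.pow_pos two_pos
  haveI : NeZero h := ⟨hh0.ne'⟩
  set s : P := e.symm (QuaternionGroup.a 1) with hs
  set w : P := e.symm (QuaternionGroup.xa 0) with hw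
  have hpow : ∀ l : ℕ, s ^ l = e.symm (QuaternionGroup.a (l : ZMod (2 * h))) := fun l => by
    rw [hs, ← map_pow, QuaternionGroup.a_one_pow]
  have hsq : (w : G) * (w : G) = (s : G) ^ h := by
    rw [← Subgroup.coe_mul, ← Subgroup.coe_pow, hpow, hw, ← map_mul, QuaternionGroup.xa_mul_xa,
      sub_zero, add_zero]
  refine ⟨s, w, ⟨⟨n - 2, by omega, hh⟩, s.2, w.2, ?_, Or.inl ⟨hsq, by omega⟩, ?_, ?_, ?_⟩, hsq⟩
  · rw [Subgroup.orderOf_coe, hs, MulEquiv.orderOf_eq, QuaternionGroup.orderOf_a_one]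
  · rw [← Subgroup.coe_inv, ← Subgroup.coe_mul, ← Subgroup.coe_mul, ← Subgroup.coe_pow, hpow]
    congr 1
    rw [hs, hw, ← map_inv, ← map_mul, ← map_mul]
    congr 1
    rw [mul_inv_eq_iff_eq_mul, QuaternionGroup.xa_mul_a, QuaternionGroup.a_mul_xa,
      Nat.cast_sub (by omega), ZMod.natCast_self]
    simp
  · intro hz
    obtain ⟨j, hj⟩ := Subgroup.mem_zpowers_iff.mp hz
    rw [← Subgroup.coe_zpow, ← Subtype.ext_iff, hs, hw, ← map_zpow, e.symm.injective.eq_iff] at hj
    have key : ∀ j : ℤ, ∃ i, (QuaternionGroup.a (1 : ZMod (2 * h))) ^ j = QuaternionGroup.a i := by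
      intro j
      obtain ⟨i, rfl | rfl⟩ := Int.eq_nat_or_neg j
      · exact ⟨(i : ZMod (2 * h)), by rw [zpow_natCast, QuaternionGroup.a_one_pow]⟩
      · exact ⟨-(i : ZMod (2 * h)), by
          rw [zpow_neg, zpow_natCast, QuaternionGroup.a_one_pow]; rfl⟩
    obtain ⟨i, hi⟩ := key j
    rw [hi] at hj
    exact absurd hj (by simp)
  · rw [Nat.card_congr e.toEquiv, Nat.card_eq_fintype_card, QuaternionGroup.card]

theorem exists_tPres_semidihedral {P : Subgroup G} {n : ℕ} (hcard : Nat.card P = 2 ^ n)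
    (hsd : IsQuasiDihedral P) :
    ∃ σ τ : G, TPres P σ τ (2 ^ (n - 2)) (2 ^ (n - 2) - 1) ∧ τ * τ = 1 := by
  obtain ⟨m, hm, hc, x, y, hx, hy, hxy⟩ := hsd
  obtain rfl : n = m + 1 := Nat.pow_right_injective le_rfl (hcard.symm.trans hc)
  have h1 : m - 1 = m + 1 - 2 := by omega
  rw [h1] at hxy
  set h := 2 ^ (m + 1 - 2) with hh
  have h2h : 2 ^ m = 2 * h := by rw [hh, ← pow_succ']; congr 1; omega
  have h4 : 4 ≤ h := by
    calc 4 = 2 ^ 2 := by norm_num
      _ ≤ _ := Nat.pow_le_pow_right two_pos (by omega)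
  have hy2 : (y : G) * (y : G) = 1 := by
    rw [← Subgroup.coe_mul, ← pow_two, ← hy, pow_orderOf_eq_one, OneMemClass.coe_one]
  refine ⟨x, y, ⟨⟨m + 1 - 2, by omega, hh⟩, x.2, y.2, ?_, Or.inr ⟨hy2, by omega, h4⟩, ?_, ?_, ?_⟩, hy2⟩
  · rw [Subgroup.orderOf_coe, hx, h2h]
  · rw [← Subgroup.coe_inv, ← Subgroup.coe_mul, ← Subgroup.coe_mul, hxy, Subgroup.coe_pow]
  · intro hz
    obtain ⟨j, hj⟩ := Subgroup.mem_zpowers_iff.mp hz
    have hcomm : (y : G) * (x : G) * (y : G)⁻¹ = x := by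
      rw [← hj, ((Commute.refl (x : G)).zpow_left j).eq, mul_inv_cancel_right]
    rw [← Subgroup.coe_inv, ← Subgroup.coe_mul, ← Subgroup.coe_mul, hxy, ← Subtype.ext_iff] at hcomm
    have hd : orderOf x ∣ h - 2 := by
      refine orderOf_dvd_of_pow_eq_one (mul_right_cancel (b := x) ?_)
      rw [← pow_succ, one_mul, show h - 2 + 1 = h - 1 by omega, hcomm]
    rw [hx, h2h] at hd
    have := Nat.le_of_dvd (by omega) hd
    omega
  · rw [hcard, show 4 * h = 2 * (2 * h) by ring, ← h2h, ← pow_succ']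

namespace TPres

variable {P : Subgroup G} {σ τ : G} {h t : ℕ} (D : TPres P σ τ h t)
include D

theorem two_le : 2 ≤ h := by
  obtain ⟨k, hk, rfl⟩ := D.pow2
  exact le_trans (by norm_num) (Nat.pow_le_pow_right two_pos hk)

theorem h_even : Even h := by
  obtain ⟨k, hk, rfl⟩ := D.pow2
  exact Nat.even_pow.2 ⟨even_two, hk.ne'⟩

theorem four_dvd_of_four_le (h4 : 4 ≤ h) : 4 ∣ h := by
  obtain ⟨k, -, rfl⟩ := D.pow2
  have : 2 ≤ k := by
    by_contra hlt
    have := Nat.pow_le_pow_right two_pos (show k ≤ 1 by omega)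
    omega
  exact dvd_trans (by norm_num) (pow_dvd_pow 2 this)

theorem t_mod_four : t % 4 = 3 := by
  have he := Nat.even_iff.1 D.h_even
  rcases D.kind with ⟨-, e⟩ | ⟨-, e, h4⟩
  · omega
  · have := D.four_dvd_of_four_le h4
    omega

theorem pow_eq_one {l : ℕ} : σ ^ l = 1 ↔ 2 * h ∣ l := by
  rw [← orderOf_dvd_iff_pow_eq_one, D.orderσ]

theorem pow_congr {l m : ℕ} : σ ^ l = σ ^ m ↔ (l : ZMod (2 * h)) = m := by
  rw [pow_inj_mod, D.orderσ, ZMod.natCast_eq_natCast_iff']

theorem pow_mod (l : ℕ) : σ ^ (l % (2 * h)) = σ ^ l := by rw [← D.orderσ, pow_mod_orderOf]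

theorem conjτ (l : ℕ) : τ * σ ^ l * τ⁻¹ = σ ^ (t * l) := by rw [← conj_pow, D.rel, ← pow_mul]

theorem conjτσ (j l : ℕ) : τ * σ ^ j * σ ^ l * (τ * σ ^ j)⁻¹ = σ ^ (t * l) := by
  rw [show τ * σ ^ j * σ ^ l * (τ * σ ^ j)⁻¹ = τ * (σ ^ j * σ ^ l * (σ ^ j)⁻¹) * τ⁻¹ by group,
    (Commute.pow_pow_self σ j l).eq, mul_inv_cancel_right, D.conjτ]

/-- `t - 1` is twice an odd number. -/
theorem exists_half : ∃ m : ℕ, t = 2 * m + 1 ∧ Odd m := by
  have := D.t_mod_four
  exact ⟨t / 2, by omega, Nat.odd_iff.2 (by omega)⟩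

theorem dvd_of_mul {l : ℕ} (hd : (t : ZMod (2 * h)) * l = l) : h ∣ l := by
  obtain ⟨m, hm, hmo⟩ := D.exists_half
  rw [hm] at hd
  push_cast at hd
  have h0 : (((2 * (m * l) : ℕ)) : ZMod (2 * h)) = 0 := by push_cast; linear_combination hd
  rw [ZMod.natCast_eq_zero_iff, Nat.mul_dvd_mul_iff_left two_pos] at h0
  obtain ⟨k, -, hk⟩ := D.pow2
  rw [hk] at h0 ⊢
  exact (Nat.Coprime.pow_left k (Nat.coprime_two_left.2 hmo)).dvd_of_dvd_mul_left h0

theorem t_mul_self : (t : ZMod (2 * h)) * t = 1 := by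
  obtain ⟨m, hm⟩ := D.h_even
  have h2 : ((2 * h : ℕ) : ZMod (2 * h)) = 0 := ZMod.natCast_self _
  push_cast at h2
  have hmc : (h : ZMod (2 * h)) = m + m := by rw [← Nat.cast_add, ← hm]
  rcases D.kind with ⟨-, e⟩ | ⟨-, e, -⟩
  · have e' := congrArg (fun z : ℕ => (z : ZMod (2 * h))) e
    push_cast at e'
    linear_combination ((t : ZMod (2 * h)) - 1) * e' + ((t : ZMod (2 * h)) - 1) * h2
  · have e' := congrArg (fun z : ℕ => (z : ZMod (2 * h))) e
    push_cast at e'
    linear_combination ((t : ZMod (2 * h)) - 1 + h) * e' + ((m : ZMod (2 * h)) - 1) * h2 +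
      (h : ZMod (2 * h)) * hmc

theorem not_dvd_mul {l : ℕ} (hl : ¬ h ∣ l) : ¬ h ∣ t * l := by
  intro hd
  obtain ⟨k, -, hk⟩ := D.pow2
  rw [hk] at hd hl
  exact hl ((Nat.Coprime.pow_left k (Nat.coprime_two_left.2
    (Nat.odd_iff.2 (by have := D.t_mod_four; omega)))).dvd_of_dvd_mul_left hd)

theorem sigma_h_sq : σ ^ h * σ ^ h = 1 := by rw [← pow_add, D.pow_eq_one, two_mul]

theorem sigma_h_ne : σ ^ h ≠ 1 := fun e => by
  have := Nat.le_of_dvd (by have := D.two_le; omega) (D.pow_eq_one.1 e)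
  have := D.two_le
  omega

theorem sq_ne_iff (l : ℕ) : σ ^ l * σ ^ l ≠ 1 ↔ ¬ h ∣ l := by
  rw [← pow_add, Ne, D.pow_eq_one, not_iff_not, ← two_mul, Nat.mul_dvd_mul_iff_left two_pos]

theorem eq_J {l : ℕ} (h1 : σ ^ l ≠ 1) (h2 : h ∣ l) : σ ^ l = σ ^ h := by
  obtain ⟨c, rfl⟩ := h2
  rcases Nat.even_or_odd' c with ⟨d, rfl | rfl⟩
  · exact absurd (D.pow_eq_one.2 ⟨d, by ring⟩) h1
  · rw [show h * (2 * d + 1) = h + 2 * h * d by ring, pow_add, D.pow_eq_one.2 (dvd_mul_right _ d),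
      mul_one]

theorem refl_not_rot (l m : ℕ) : τ * σ ^ l ≠ σ ^ m := fun e => D.not_zpow (by
  rw [show τ = σ ^ m * (σ ^ l)⁻¹ by rw [← e, mul_inv_cancel_right]]
  exact mul_mem (Subgroup.npow_mem_zpowers σ m) (inv_mem (Subgroup.npow_mem_zpowers σ l)))

theorem sq_τ : τ * τ = 1 ∨ τ * τ = σ ^ h := by
  rcases D.kind with ⟨e, -⟩ | ⟨e, -⟩
  · exact Or.inr e
  · exact Or.inl e

theorem zpowers_le : Subgroup.zpowers σ ≤ P := Subgroup.zpowers_le.2 D.memσ

variable [Finite G]

theorem exists_pow {x : G} (hx : x ∈ Subgroup.zpowers σ) : ∃ l : ℕ, x = σ ^ l := by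
  obtain ⟨l, hl⟩ := (isOfFinOrder_of_finite σ).mem_powers_iff_mem_zpowers.mpr hx
  exact ⟨l, hl.symm⟩

theorem cases {x : G} (hx : x ∈ P) : ∃ l : ℕ, x = σ ^ l ∨ x = τ * σ ^ l := by
  have hidx : ((Subgroup.zpowers σ).subgroupOf P).index = 2 := by
    have h1 := Subgroup.card_mul_index ((Subgroup.zpowers σ).subgroupOf P)
    rw [Nat.card_congr (Subgroup.subgroupOfEquivOfLe D.zpowers_le).toEquiv, Nat.card_zpowers, D.orderσ,
      D.card] at h1
    have := D.two_le
    nlinarith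
  by_cases hz : x ∈ Subgroup.zpowers σ
  · obtain ⟨l, hl⟩ := D.exists_pow hz
    exact ⟨l, Or.inl hl⟩
  · have h2 : ((⟨τ, D.memτ⟩ : P)⁻¹ * ⟨x, hx⟩) ∈ (Subgroup.zpowers σ).subgroupOf P := by
      rw [Subgroup.mul_mem_iff_of_index_two hidx, inv_mem_iff]
      simp [Subgroup.mem_subgroupOf, D.not_zpow, hz]
    obtain ⟨l, hl⟩ := D.exists_pow (Subgroup.mem_subgroupOf.1 h2)
    refine ⟨l, Or.inr ?_⟩
    rw [← hl]
    show x = τ * (τ⁻¹ * x)
    rw [mul_inv_cancel_left]

theorem J_comm {x : G} (hx : x ∈ P) : Commute x (σ ^ h) := by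
  obtain ⟨l, e | e⟩ := D.cases hx
  · rw [e]; exact Commute.pow_pow_self σ l h
  · rw [e]
    refine Commute.mul_left ?_ (Commute.pow_pow_self σ l h)
    show τ * σ ^ h = σ ^ h * τ
    rw [← mul_inv_eq_iff_eq_mul, D.conjτ]
    refine D.eq_J (fun e' => ?_) (dvd_mul_left h t)
    rw [D.pow_eq_one, Nat.mul_dvd_mul_iff_right (by have := D.two_le; omega)] at e'
    have := D.t_mod_four
    omega

/-- The square of an outer element. -/
theorem outer_sq (j : ℕ) : τ * σ ^ j * (τ * σ ^ j) = 1 ∨ τ * σ ^ j * (τ * σ ^ j) = σ ^ h := by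
  have e : τ * σ ^ j * (τ * σ ^ j) = σ ^ (t * j) * (τ * τ) * σ ^ j := by
    rw [← D.conjτ]; group
  rw [e]
  rcases D.kind with ⟨e1, e2⟩ | ⟨e1, e2, -⟩
  · right
    rw [e1, ← pow_add, ← pow_add, show t * j + h + j = h + (t + 1) * j by ring, e2, pow_add,
      D.pow_eq_one.2 (dvd_mul_right _ j), mul_one]
  · rw [e1, mul_one, ← pow_add, show t * j + j = (t + 1) * j by ring, e2]
    by_cases hj : σ ^ (h * j) = 1
    · exact Or.inl hj
    · exact Or.inr (D.eq_J hj (dvd_mul_right h j))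

theorem outer_pow_four (j : ℕ) : (τ * σ ^ j) ^ 4 = 1 := by
  rw [show 4 = 2 * 2 from rfl, pow_mul, pow_two, pow_two]
  rcases D.outer_sq j with e | e <;> rw [e]
  · exact mul_one 1
  · exact D.sigma_h_sq

theorem mem_zpowers_of_commute {x : G} (hx : x ∈ P) {l : ℕ} (hl : ¬ h ∣ l)
    (hc : Commute x (σ ^ l)) : x ∈ Subgroup.zpowers σ := by
  obtain ⟨m, e | e⟩ := D.cases hx
  · exact e ▸ Subgroup.npow_mem_zpowers σ m
  · exfalso
    subst e
    have h1 : τ * σ ^ m * σ ^ l * (τ * σ ^ m)⁻¹ = σ ^ l := by rw [hc.eq, mul_inv_cancel_right]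
    rw [D.conjτσ, D.pow_congr, Nat.cast_mul] at h1
    exact hl (D.dvd_of_mul h1)

/-- The centralizer in `P` of a rotation of order at least four. -/
theorem inf_centralizer {l : ℕ} (hl : ¬ h ∣ l) :
    P ⊓ Subgroup.centralizer ({σ ^ l} : Set G) = Subgroup.zpowers σ :=
  le_antisymm (fun _ hx =>
      D.mem_zpowers_of_commute hx.1 hl (Subgroup.mem_centralizer_singleton_iff.1 hx.2))
    (le_inf D.zpowers_le (Subgroup.zpowers_le.2
      (Subgroup.mem_centralizer_singleton_iff.2 ((Commute.refl σ).pow_right l).eq)))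

/-- What commutes in `P` with an outer element. -/
theorem commute_outer {x : G} (hx : x ∈ P) {j : ℕ} (hc : Commute x (τ * σ ^ j)) :
    x = 1 ∨ x = σ ^ h ∨ x = τ * σ ^ j ∨ x = τ * σ ^ j * σ ^ h := by
  have key : ∀ l : ℕ, Commute (σ ^ l) (τ * σ ^ j) → σ ^ l = 1 ∨ σ ^ l = σ ^ h := fun l hl => by
    by_cases h1 : σ ^ l = 1
    · exact Or.inl h1
    refine Or.inr (D.eq_J h1 (by_contra fun hd => D.refl_not_rot j 0 ?_))
    obtain ⟨m, hm⟩ := D.exists_pow (D.mem_zpowers_of_commute (mul_mem D.memτ (pow_mem D.memσ j)) hd hl.symm)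
    exact absurd hm (D.refl_not_rot j m)
  obtain ⟨l, e | e⟩ := D.cases hx
  · subst e
    rcases key l hc with e | e
    · exact Or.inl e
    · exact Or.inr (Or.inl e)
  · subst e
    obtain ⟨m, hm⟩ : ∃ m : ℕ, (σ ^ j)⁻¹ * σ ^ l = σ ^ m :=
      D.exists_pow (mul_mem (inv_mem (Subgroup.npow_mem_zpowers σ j)) (Subgroup.npow_mem_zpowers σ l))
    have hx' : τ * σ ^ l = τ * σ ^ j * σ ^ m := by rw [← hm]; group
    have hcm : Commute (σ ^ m) (τ * σ ^ j) := by
      have e1 : σ ^ m = (τ * σ ^ j)⁻¹ * (τ * σ ^ l) := by rw [hx', inv_mul_cancel_left]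
      rw [e1]
      exact ((Commute.refl _).inv_left).mul_left hc
    rcases key m hcm with e | e
    · exact Or.inr (Or.inr (Or.inl (by rw [hx', e, mul_one])))
    · exact Or.inr (Or.inr (Or.inr (by rw [hx', e])))

/-- The centre is generated by the central involution. -/
theorem eq_of_central {x : G} (hx : x ∈ P) (hc : ∀ v ∈ P, Commute x v) : x = 1 ∨ x = σ ^ h := by
  have h1 : ¬ h ∣ 1 := fun hd => by
    have := Nat.le_of_dvd one_pos hd
    have := D.two_le
    omega
  obtain ⟨l, rfl⟩ := D.exists_pow (D.mem_zpowers_of_commute hx h1 (by rw [pow_one]; exact hc σ D.memσ))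
  by_cases h2 : σ ^ l = 1
  · exact Or.inl h2
  refine Or.inr (D.eq_J h2 (by_contra fun hd => D.not_zpow ?_))
  exact D.mem_zpowers_of_commute D.memτ hd (hc τ D.memτ).symm

theorem isPGroup : IsPGroup 2 P := by
  obtain ⟨k, -, hk⟩ := D.pow2
  exact IsPGroup.of_card (n := k + 2) (by rw [D.card, hk]; ring)

/-- Odd-order elements normalizing a subgroup and fixing one of its non-central elements centralize
it. -/
theorem odd_fix {S : Subgroup G} (hS : S ≤ P) {u : G} (hu : u ∈ S) (hu1 : u ≠ 1)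
    (huJ : u ≠ σ ^ h) {g : G} (hg : g ∈ Subgroup.normalizer (S : Set G)) (hc : Commute g u)
    (hodd : ¬ 2 ∣ orderOf g) : g ∈ Subgroup.centralizer (S : Set G) := by
  classical
  haveI : Fintype G := Fintype.ofFinite G
  haveI : Fintype (IrrCharacter G) := Fintype.ofFinite _
  haveI : Fact (Nat.Prime 2) := ⟨Nat.prime_two⟩
  have hSp : IsPGroup 2 S := D.isPGroup.to_le hS
  set T := S ⊓ Subgroup.centralizer ({u} : Set G) with hT
  have huT : u ∈ T := ⟨hu, Subgroup.mem_centralizer_singleton_iff.2 rfl⟩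
  have hmap : ∀ v ∈ T, g * v * g⁻¹ ∈ T := fun v hv =>
    ⟨(Subgroup.mem_normalizer_iff.1 hg v).1 hv.1, Subgroup.mem_centralizer_singleton_iff.2 (by
      have := (show Commute v u from Subgroup.mem_centralizer_singleton_iff.1 hv.2).map (MulAut.conj g).toMonoidHom
      simp only [MulEquiv.coe_toMonoidHom, MulAut.conj_apply, hc.eq, mul_inv_cancel_right] at this
      exact this)⟩
  have hfix : ∀ v ∈ T, Commute g v := by
    obtain ⟨l, hl | hl⟩ := D.cases (hS hu)
    · -- inside the cyclic group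
      subst hl
      have hd : ¬ h ∣ l := fun hd => huJ (D.eq_J hu1 hd)
      have hTle : T ≤ Subgroup.zpowers σ := fun v hv => by
        rw [← D.inf_centralizer hd]; exact ⟨hS hv.1, hv.2⟩
      refine commute_of_fix_cyclic (p := 2) (Q₀ := Subgroup.zpowers (σ ^ l)) Nat.prime_two
        (hSp.to_le inf_le_left) (Subgroup.isCyclic_of_le hTle) (Subgroup.zpowers_le.2 huT)
        (fun e => hu1 (Subgroup.zpowers_eq_bot.1 e)) ?_ hodd fun v hv => ?_
      · exact mem_normalizer_of_cjS_eq (Subgroup.eq_of_le_of_card_ge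
          (by rintro _ ⟨v, hv, rfl⟩; exact hmap v hv) (card_cjS _ _).ge)
      · obtain ⟨i, rfl⟩ := Subgroup.mem_zpowers_iff.1 hv
        exact hc.zpow_right i
    · -- a group of order four
      subst hl
      intro v hv
      have h4 : ∀ w ∈ T, w = 1 ∨ w = σ ^ h ∨ w = τ * σ ^ l ∨ w = τ * σ ^ l * σ ^ h := fun w hw =>
        D.commute_outer (hS hw.1) (Subgroup.mem_centralizer_singleton_iff.1 hw.2)
      have hinj : ∀ {a b : G}, g * a * g⁻¹ = g * b * g⁻¹ → a = b := fun h' =>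
        mul_left_cancel (mul_right_cancel h')
      have hgu : g * (τ * σ ^ l) * g⁻¹ = τ * σ ^ l := by rw [hc.eq, mul_inv_cancel_right]
      have htwo : g * (g * v * g⁻¹) * g⁻¹ = v := by
        have hg1 := hmap v hv
        have hg2 := hmap _ hg1
        rcases h4 v hv with e | e | e | e
        · simp [e]
        · rcases h4 _ hg1 with a | a | a | a
          · exact absurd (e ▸ conj_eq_one_iff.1 a) D.sigma_h_ne
          · rw [a, ← e, a, e]
          · rw [e] at a
            exact absurd (hinj (a.trans hgu.symm)) fun q => D.refl_not_rot l h q.symm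
          · rcases h4 _ hg2 with b | b | b | b
            · exact absurd (e ▸ conj_eq_one_iff.1 (conj_eq_one_iff.1 b)) D.sigma_h_ne
            · rw [b, e]
            · exfalso
              have q := hinj (b.trans hgu.symm)
              rw [a] at q
              exact D.sigma_h_ne (mul_left_cancel (a := τ * σ ^ l) (by rw [q, mul_one]))
            · exfalso
              have q := hinj (b.trans a.symm)
              rw [e] at q
              rw [e, q] at a
              exact D.refl_not_rot l 0 (by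
                rw [pow_zero]; exact mul_right_cancel (b := σ ^ h) (by rw [one_mul, ← a]))
        · rw [e, hgu, hgu]
        · rcases h4 _ hg1 with a | a | a | a
          · rw [e] at a
            exact absurd (conj_eq_one_iff.1 a) fun q => D.refl_not_rot l h (by
              rw [eq_inv_of_mul_eq_one_left q, inv_eq_of_mul_eq_one_right D.sigma_h_sq])
          · rcases h4 _ hg2 with b | b | b | b
            · rw [a] at b; exact absurd (conj_eq_one_iff.1 b) D.sigma_h_ne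
            · exfalso
              have q := hinj (b.trans a.symm)
              rw [a, e] at q
              exact D.refl_not_rot l 0 (by
                rw [pow_zero]; exact mul_right_cancel (b := σ ^ h) (by rw [one_mul, ← q]))
            · exfalso
              have q := hinj (b.trans hgu.symm)
              rw [a] at q
              exact D.refl_not_rot l h q.symm
            · rw [b, e]
          · rw [e] at a
            exact absurd (hinj (a.trans hgu.symm)) fun q =>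
              D.sigma_h_ne (mul_left_cancel (a := τ * σ ^ l) (by rw [q, mul_one]))
          · rw [a, ← e, a, e]
      have hg2 : Commute (g ^ 2) v := by
        refine mul_inv_eq_iff_eq_mul.1 ?_
        calc g ^ 2 * v * (g ^ 2)⁻¹ = g * (g * v * g⁻¹) * g⁻¹ := by rw [pow_two, mul_inv_rev]; group
          _ = v := htwo
      obtain ⟨i, hi⟩ := exists_pow_eq_self_of_coprime
        ((Nat.coprime_two_left.2 (Nat.odd_iff.2 (Nat.two_dvd_ne_zero.1 hodd))) :
          Nat.Coprime 2 (orderOf g))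
      rw [← hi]
      exact hg2.pow_left i
  have hQ : Subgroup.zpowers g ≤ Subgroup.centralizer (S : Set G) := by
    refine Coprime.pq_lemma (p := 2) (P := T) (hSp.to_le inf_le_left) ?_ hSp ?_
      (inf_le_left.trans Subgroup.le_normalizer) (Subgroup.zpowers_le.2 hg) ?_
    · rw [Nat.card_zpowers]
      exact (Nat.coprime_two_left.2 (Nat.odd_iff.2 (Nat.two_dvd_ne_zero.1 hodd))).symm
    · intro v hv
      refine Subgroup.mem_centralizer_iff.2 fun w hw => ?_
      obtain ⟨i, rfl⟩ := Subgroup.mem_zpowers_iff.1 hw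
      exact ((hfix v hv).zpow_left i).eq
    · rintro v ⟨hv1, hv2⟩
      refine Subgroup.mem_centralizer_iff.2 fun w hw => ?_
      obtain ⟨i, rfl⟩ := Subgroup.mem_zpowers_iff.1 hw
      exact ((hfix v ⟨hv1, Subgroup.mem_centralizer_singleton_iff.2
        (Subgroup.mem_centralizer_iff.1 hv2 u huT).symm⟩).zpow_left i).eq
  exact hQ (Subgroup.mem_zpowers g)

/-- For `4 ≤ h` odd-order elements normalizing `P` centralize it. -/
theorem odd_normalizer (h4 : 4 ≤ h) {g : G} (hg : g ∈ Subgroup.normalizer (P : Set G))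
    (hodd : ¬ 2 ∣ orderOf g) : g ∈ Subgroup.centralizer (P : Set G) := by
  classical
  haveI : Fintype G := Fintype.ofFinite G
  haveI : Fintype (IrrCharacter G) := Fintype.ofFinite _
  have hmem : g * σ * g⁻¹ ∈ Subgroup.zpowers σ := by
    obtain ⟨l, e | e⟩ := D.cases ((Subgroup.mem_normalizer_iff.1 hg σ).1 D.memσ)
    · exact e ▸ Subgroup.npow_mem_zpowers σ l
    · exfalso
      have h1 : orderOf (g * σ * g⁻¹) ∣ 4 := orderOf_dvd_of_pow_eq_one (e ▸ D.outer_pow_four l)
      rw [orderOf_conj_eq, D.orderσ] at h1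
      have := Nat.le_of_dvd (by norm_num) h1
      omega
  have hNz : g ∈ Subgroup.normalizer (Subgroup.zpowers σ : Set G) := by
    refine mem_normalizer_of_cjS_eq (Subgroup.eq_of_le_of_card_ge ?_ (card_cjS g _).ge)
    rintro _ ⟨v, hv, rfl⟩
    obtain ⟨i, rfl⟩ := Subgroup.mem_zpowers_iff.1 hv
    show g * σ ^ i * g⁻¹ ∈ _
    rw [← conj_zpow]
    exact zpow_mem hmem i
  have hmemJ : g * σ ^ h * g⁻¹ ∈ P := (Subgroup.mem_normalizer_iff.1 hg _).1 (pow_mem D.memσ h)
  have hJ : Commute g (σ ^ h) := by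
    rcases D.eq_of_central hmemJ (fun v hv => by
      have hv' : g⁻¹ * v * g ∈ P := (Subgroup.mem_normalizer_iff''.1 hg v).1 hv
      have := (D.J_comm hv').symm.map (MulAut.conj g).toMonoidHom
      simpa [mul_assoc] using this) with e | e
    · exact absurd (conj_eq_one_iff.1 e) D.sigma_h_ne
    · exact mul_inv_eq_iff_eq_mul.1 e
  have hσ : Commute g σ := by
    refine commute_of_fix_cyclic (p := 2) (Q₀ := Subgroup.zpowers (σ ^ h)) Nat.prime_two
      (D.isPGroup.to_le D.zpowers_le) (Subgroup.isCyclic_zpowers σ)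
      (Subgroup.zpowers_le.2 (Subgroup.npow_mem_zpowers σ h))
      (fun e => D.sigma_h_ne (Subgroup.zpowers_eq_bot.1 e)) hNz hodd (fun v hv => ?_) σ
      (Subgroup.mem_zpowers σ)
    obtain ⟨i, rfl⟩ := Subgroup.mem_zpowers_iff.1 hv
    exact hJ.zpow_right i
  have h1 : ¬ h ∣ 1 := fun hd => by
    have := Nat.le_of_dvd one_pos hd
    omega
  refine D.odd_fix le_rfl D.memσ (fun e => ?_) (fun e => ?_) hg hσ hodd
  · have := D.orderσ
    rw [e, orderOf_one] at this
    omega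
  · have e' : σ ^ 1 = σ ^ h := by rw [pow_one, ← e]
    have h2 := (D.sq_ne_iff 1).2 h1
    rw [e'] at h2
    exact h2 D.sigma_h_sq

end TPres

end CfsgLib.Block.Tame
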