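import Cfsg.Agent.Lib.Block.Tame.TameContrib
import Cfsg.Agent.Lib.Block.Tame.UnitRowParts
import Cfsg.Agent.Lib.Block.Orthogonality
import Cfsg.Agent.Lib.Block.StarChar

/-!
# 2-blocks with quaternion or semidihedral defect group: the products of two sections

With `u = σ` and `v` the rotations `σ ^ j` and `σ ^ (2 * h - j)` the parts of the two products are
local integers, the first in `M`; so `d₀ * |T|`, for `T` the sum over the block of
`|g 1| ^ 2 * g j / degree`, cannot have the valuation of `h` (`TFrame.no_product`).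
-/

open Finset MonoidAlgebra
open scoped ComplexConjugate

set_option autoImplicit false
set_option linter.unusedSectionVars false

namespace CfsgLib.Block.Tame

open Cfsg CfsgLib CfsgLib.Block CfsgLib.Block.CyclicDefect
open scoped Pair

universe u

variable {M : Ideal AlgInt} [M.IsMaximal]

/-- A product with a factor in the ideal is no odd rational multiple of a unit. -/
theorem false_of_mul_eq (hM : IsPModular 2 M) {L L' c : locRing M} (hL : res M L = 0)
    (hc : res M c ≠ 0) {N D : ℕ} (hN : N ≠ 0) (hv : N.factorization 2 = D.factorization 2)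
    (h : (L : ℂ) * L' * D = (c : ℂ) * c * N) : False := by
  have := charP_resField hM
  have e : (L * L' * (ordCompl[2] D : ℕ) : locRing M) = c * c * (ordCompl[2] N : ℕ) := by
    refine Subtype.ext (mul_left_cancel₀ (pow_ne_zero (D.factorization 2) (two_ne_zero (α := ℂ))) ?_)
    have hD' : (D : ℂ) = (2 : ℂ) ^ D.factorization 2 * ((ordCompl[2] D : ℕ) : ℂ) := by
      conv_lhs => rw [← Nat.ordProj_mul_ordCompl_eq_self D 2]
      push_cast; ring
    have hN' : (N : ℂ) = (2 : ℂ) ^ D.factorization 2 * ((ordCompl[2] N : ℕ) : ℂ) := by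
      rw [← hv]
      conv_lhs => rw [← Nat.ordProj_mul_ordCompl_eq_self N 2]
      push_cast; ring
    simp only [Subring.coe_mul, Subring.coe_natCast]
    rw [hD', hN'] at h
    linear_combination h
  have h2 := congrArg (res M) e
  simp only [map_mul, map_natCast, hL, zero_mul] at h2
  refine mul_ne_zero (mul_ne_zero hc hc) (fun h0 => ?_) h2.symm
  rw [CharP.cast_eq_zero_iff (ResField M) 2] at h0
  exact Nat.not_dvd_ordCompl Nat.prime_two hN h0

variable {G : Type u} [Group G] [Fintype G] [DecidableEq G] [Fintype (IrrCharacter G)]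

/-- The parts at the inverse are the conjugates. -/
theorem conj_secPart_inv {u : G} {b : Set (IrrCharacter (CQ (Subgroup.zpowers u)))} (χ : IrrCharacter G) :
    conj (secPart χ u ⟨Subgroup.zpowers u, b⟩ 1) = secPart χ u⁻¹ ⟨Subgroup.zpowers u, b⟩ 1 := by
  simp only [secPart, map_sum, mul_one]
  refine Fintype.sum_equiv (Equiv.inv G) _ _ fun t => ?_
  rw [map_mul, ← subCoeff_inv, Equiv.inv_apply]
  by_cases ht : t ∈ CQ (Subgroup.zpowers u)
  · congr 1
    rw [← Char.irr_inv, mul_inv_rev]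
    exact congrArg _ ((mem_cq_zpowers_iff.mp ht).inv_left.inv_right).eq
  · rw [subgroupBlockCoeff_of_notMem b fun h => ht (by simpa using inv_mem h), zero_mul, zero_mul]

variable {B : Set (IrrCharacter G)} {P : Subgroup G} {e : Set (IrrCharacter (CQ P))}

namespace TFrame

variable {σ τ : G} {h t : ℕ} (F : TFrame M B P e σ τ h t)
include F

open scoped Classical in
/-- The parts at a rotation of order at least four. -/
theorem parts_rot {k : ℕ} (hk : h = 2 ^ k) {l : ℕ} (hl : ¬ h ∣ l)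
    {b : Set (IrrCharacter (CQ (Subgroup.zpowers (σ ^ l))))}
    (hb : lowPair F.hM F.hmax.1.1 (F.rot l) = ⟨Subgroup.zpowers (σ ^ l), b⟩) :
    ∃ E : ℕ, E ≠ 0 ∧
      E.factorization 2 + (k + 1) = (Nat.card (CQ (Subgroup.zpowers (σ ^ l)))).factorization 2 ∧
      subgroupBlockCoeff (CQ (Subgroup.zpowers (σ ^ l))) b 1 *
        (Nat.card (CQ (Subgroup.zpowers (σ ^ l))) : ℂ) = (2 * h : ℂ) * ((E : ℂ) * E) ∧
      ∀ χ ψ, secPart χ (σ ^ l) ⟨Subgroup.zpowers (σ ^ l), b⟩ 1 *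
          conj (secPart ψ (σ ^ l) ⟨Subgroup.zpowers (σ ^ l), b⟩ 1) =
        (E : ℂ) * E * contrib 2 (lowPair F.hM F.hmax.1.1) χ ψ (F.rot l) := by
  have := Fintype.ofFinite (IrrCharacter (CQ (Subgroup.zpowers (σ ^ l))))
  have hpair := lowPair_pairOf F.hM F.hmax (F.rot l)
  have hrow := isNilpotentBlock_unitRow F.hM
    (F.nilpotent_low (F.rot_ne_one hl) (F.J_not_mem_cls_rot hl))
  have hdef := F.defect_rot hl
  rw [hb] at hpair hrow hdef
  dsimp only at hpair hrow hdef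
  have hd : blockDefect 2 b = k + 1 := by
    have h1 := defectGroup_card F.hM hpair.1.2 hdef
    rw [card_subgroupOf_inf] at h1
    have h2 : Nat.card (cenIn (F.rot l)) = 2 ^ (k + 1) := by rw [F.card_cP_rot hl, hk]; ring
    exact Nat.pow_right_injective le_rfl (h1.symm.trans h2)
  obtain ⟨E, hE0, hEv, hE⟩ := exists_sum_sq_row F.hM hpair.1.2 hrow
  rw [hd] at hEv hE
  set Cu : ℂ := (Nat.card (CQ (Subgroup.zpowers (σ ^ l))) : ℂ) with hCu
  have hCu0 : Cu ≠ 0 := Nat.cast_ne_zero.mpr Nat.card_pos.ne'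
  have hW : subgroupBlockCoeff (CQ (Subgroup.zpowers (σ ^ l))) b 1 * Cu = (2 * h : ℂ) * ((E : ℂ) * E) := by
    rw [show (2 * h : ℂ) = ((2 : ℕ) : ℂ) ^ (k + 1) by rw [hk]; push_cast; ring, ← hE, hCu,
      show (1 : G) = ((1 : CQ (Subgroup.zpowers (σ ^ l))) : G) from rfl, subgroupBlockCoeff_coe,
      blockCoeff, finsum_mem_eq_toFinset_sum, mul_comm, mul_inv_cancel_left₀ hCu0]
    simp only [Char.conj_irr_one]
    exact Finset.sum_congr (by ext; simp) fun _ _ => rfl
  refine ⟨E, hE0, hEv, hW, fun χ ψ => ?_⟩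
  rw [← secSum_mul_coeff F.hM hpair.1.2 hrow, contrib, F.card_cent, F.card_cP_rot hl, hb]
  show _ = _ * (_ * secSum 2 χ ψ (σ ^ l) _ / Cu)
  field_simp
  push_cast
  linear_combination (secSum 2 χ ψ (σ ^ l) ⟨Subgroup.zpowers (σ ^ l), b⟩) * hW

open scoped Classical in
/-- The products of two sections exclude `d₀ * |T|` of the valuation of `h`. -/
theorem no_product {k : ℕ} (hk : h = 2 ^ k) {j : ℕ} (hj : ¬ h ∣ j) (hj2 : j < 2 * h)
    (hcomb : ∀ j', (j' = j ∨ j' = 2 * h - j) → ∀ m < 2 * h, (2 * h).gcd j' ≠ (2 * h).gcd m ∨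
      (2 * h).gcd (1 + (2 * h - m)) ≠ 1 ∨
      (1 + (2 * h - m)) % (2 * h) ≠ 1 ∧ (1 + (2 * h - m)) % (2 * h) ≠ t % (2 * h))
    (g : ↥(Finset.univ.filter fun χ : IrrCharacter G => χ ∈ B) → ℕ → ℂ)
    (hcon : ∀ i k : ↥(Finset.univ.filter fun χ : IrrCharacter G => χ ∈ B), ∀ l : ℕ, ¬ h ∣ l →
      contrib 2 (lowPair F.hM F.hmax.1.1) (i : IrrCharacter G) (k : IrrCharacter G) (F.rot l) =
        g i l * conj (g k l))
    {χ₀ : IrrCharacter G} (hχ₀ : χ₀ ∈ B) (h0 : blockHeight 2 B (χ₀ : G → ℂ) = 0)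
    {A C : ℕ} (hA : A ≠ 0) (hC : C ≠ 0) (hAC : A.factorization 2 = C.factorization 2)
    (hT : (charDegree (χ₀ : G → ℂ) : ℂ) ^ 2 *
        ((∑ i, g i 1 * conj (g i 1) * g i j / ((i : IrrCharacter G) : G → ℂ) 1) *
          conj (∑ i, g i 1 * conj (g i 1) * g i j / ((i : IrrCharacter G) : G → ℂ) 1)) * C =
      (h : ℂ) ^ 2 * A) : False := by
  have h2h := F.pres.two_le
  have hnd1 : ¬ h ∣ 1 := fun hd => by have := Nat.le_of_dvd one_pos hd; omega
  have hnd' : ¬ h ∣ 2 * h - j := fun hd => hj (by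
    have h1 := Nat.dvd_sub (dvd_mul_left h 2) hd
    rwa [show 2 * h - (2 * h - j) = j by omega] at h1)
  obtain ⟨b, hb⟩ := exists_eq_pairMk (a := lowPair F.hM F.hmax.1.1 (F.rot 1))
    (Q := Subgroup.zpowers (σ ^ 1)) rfl
  obtain ⟨bv, hbv⟩ := exists_eq_pairMk (a := lowPair F.hM F.hmax.1.1 (F.rot j))
    (Q := Subgroup.zpowers (σ ^ j)) rfl
  obtain ⟨bv', hbv'⟩ := exists_eq_pairMk (a := lowPair F.hM F.hmax.1.1 (F.rot (2 * h - j)))
    (Q := Subgroup.zpowers (σ ^ (2 * h - j))) rfl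
  have hbpair := lowPair_pairOf F.hM F.hmax (F.rot 1)
  have hble := lowPair_below F.hM F.hmax.1.1 (F.rot 1)
  have hbrow := isNilpotentBlock_unitRow F.hM
    (F.nilpotent_low (F.rot_ne_one hnd1) (F.J_not_mem_cls_rot hnd1))
  have hbdef := F.defect_rot hnd1
  have hvpair := lowPair_pairOf F.hM F.hmax (F.rot j)
  have hvpair' := lowPair_pairOf F.hM F.hmax (F.rot (2 * h - j))
  rw [hb] at hbpair hble hbrow hbdef
  rw [hbv] at hvpair
  rw [hbv'] at hvpair'
  dsimp only at hbpair hbrow hbdef hvpair hvpair'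
  rw [show P ⊓ CQ (Subgroup.zpowers (σ ^ 1)) = Subgroup.zpowers (σ ^ 1) by
    rw [pow_one]
    exact (show P ⊓ CQ (Subgroup.zpowers σ) = Subgroup.zpowers σ by
      have := F.cP_rot hnd1
      rwa [cenIn, F.rot_coe, pow_one] at this)] at hbdef
  have hpσ : ∃ i : ℕ, orderOf (σ ^ 1) = 2 ^ i :=
    exists_pElement_orderOf F.hmax.1.1 (F.rot 1) F.hM.1
  -- a regular element with invertible coefficient
  obtain ⟨s₀, hs₀⟩ := exists_defectClass F.hM hbpair.1.2
  have := Fintype.ofFinite (IrrCharacter (CQ (Subgroup.zpowers (σ ^ 1))))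
  have hs₀' := ((isDefectClass_iff F.hM hbpair.1.2).mp hs₀).1
  have hs₀reg := regular_of_coeffRes_ne_zero F.hM (.of_isPBlock hbpair.1.2) hs₀'
  have hs : (s₀ : G) ∈ regC 2 (σ ^ 1) := mem_regC.mpr ⟨s₀.2, by rwa [Subgroup.orderOf_coe]⟩
  set c := subgroupBlockCoeff (CQ (Subgroup.zpowers (σ ^ 1))) b with hc
  let cs : locRing M := ⟨c (s₀ : G), subCoeff_mem F.hM hbpair.1.2 _⟩
  have hcs : res M cs ≠ 0 := by
    rw [show cs = (blockIdem M b : MonoidAlgebra (locRing M) (CQ (Subgroup.zpowers (σ ^ 1)))).coeff s₀ from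
      Subtype.ext (by
        rw [coe_coeff_blockIdem F.hM (.of_isPBlock hbpair.1.2)]
        exact subgroupBlockCoeff_coe b s₀)]
    exact hs₀'
  -- the orthogonalities
  have horder : ∀ l : ℕ, orderOf (σ ^ l) = 2 * h / (2 * h).gcd l := fun l => by
    rw [orderOf_pow, F.pres.orderσ]
  have hgcd : ∀ {l m : ℕ}, orderOf (σ ^ l) = orderOf (σ ^ m) → (2 * h).gcd l = (2 * h).gcd m := by
    intro l m e
    rw [horder, horder] at e
    have h2 : 2 * h ≠ 0 := by omega
    rw [← Nat.div_div_self (Nat.gcd_dvd_left (2 * h) l) h2, e,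
      Nat.div_div_self (Nat.gcd_dvd_left (2 * h) m) h2]
  have hprod : ∀ j', (j' = j ∨ j' = 2 * h - j) →
      ∀ bw : Set (IrrCharacter (CQ (Subgroup.zpowers (σ ^ j')))), IsPBlock M bw →
      ∃ L : locRing M, res M L = 0 ∧ (L : ℂ) = (Nat.card G : ℂ) /
        ((Nat.card (CQ (Subgroup.zpowers (σ ^ 1))) : ℂ) * (Nat.card (CQ (Subgroup.zpowers (σ ^ j'))) : ℂ)) *
      ∑ χ : IrrCharacter G, secPart χ (σ ^ 1) ⟨Subgroup.zpowers (σ ^ 1), b⟩ 1 *
        secPart χ (σ ^ j') ⟨Subgroup.zpowers (σ ^ j'), bw⟩ 1 / (χ : G → ℂ) 1 *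
        conj (secPart χ (σ ^ 1) ⟨Subgroup.zpowers (σ ^ 1), b⟩ (s₀ : G)) := by
    intro j' hj' bw hbw
    refine exists_product_res_zero_of F.hM hpσ hbpair.1.2 hbrow hbdef hbw hs fun y hy => ?_
    obtain ⟨m, hm, rfl⟩ : ∃ m < 2 * h, y = σ ^ m := by
      rw [pow_one] at hy
      obtain ⟨l, rfl⟩ := F.pres.exists_pow hy
      exact ⟨l % (2 * h), Nat.mod_lt _ (by omega), (F.pres.pow_mod l).symm⟩
    rcases hcomb j' hj' m hm with h1 | h1
    · exact Or.inl (sum_secPart_zero_of_not_isConj F.hM hpσ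
        (exists_pElement_orderOf F.hmax.1.1 (F.rot j') F.hM.1) hbpair.1.2 hbw hy fun hconj => by
          obtain ⟨w, hw⟩ := isConj_iff.mp hconj
          exact h1 (hgcd (by rw [← hw, orderOf_conj_eq, F.rot_coe])))
    right
    set m' := (1 + (2 * h - m)) % (2 * h) with hm'
    have hz : (σ ^ m)⁻¹ * σ ^ 1 = σ ^ m' := by
      rw [hm', F.pres.pow_mod, inv_mul_eq_iff_eq_mul, ← pow_add, F.pres.pow_congr,
        show m + (1 + (2 * h - m)) = 1 + 2 * h by omega, Nat.cast_add, ZMod.natCast_self, add_zero]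
    rw [hz]
    have hmem : σ ^ m' ∈ Subgroup.zpowers (σ ^ 1) := by
      rw [pow_one]; exact Subgroup.pow_mem _ (Subgroup.mem_zpowers σ) m'
    have hone : ∑ χ : IrrCharacter G, secPart χ (σ ^ 1) ⟨Subgroup.zpowers (σ ^ 1), b⟩ 1 *
        conj (secPart χ (σ ^ m') ⟨Subgroup.zpowers (σ ^ 1), b⟩ 1) = 0 := by
      by_cases hconj : IsConj (σ ^ 1) (σ ^ m')
      swap
      · exact sum_secPart_zero_of_not_isConj F.hM hpσ hpσ hbpair.1.2 hbpair.1.2 hmem hconj
      have hg1 : (2 * h).gcd (1 + (2 * h - m)) = 1 := by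
        obtain ⟨w, hw⟩ := isConj_iff.mp hconj
        have e := hgcd (l := m') (m := 1) (by rw [← hw, orderOf_conj_eq])
        rw [hm', Nat.gcd_one_right] at e
        rw [Nat.gcd_rec, Nat.gcd_comm]; exact e
      obtain ⟨hne1, hnet⟩ := h1.resolve_left (not_not.2 hg1)
      have hz' : Subgroup.zpowers (σ ^ m') = Subgroup.zpowers (σ ^ 1) := by
        refine Subgroup.eq_of_le_of_card_ge (Subgroup.zpowers_le.2 hmem) (le_of_eq ?_)
        obtain ⟨w, hw⟩ := isConj_iff.mp hconj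
        rw [Nat.card_zpowers, Nat.card_zpowers, ← hw, orderOf_conj_eq]
      have hlow : lowPair F.hM F.hmax.1.1 (F.rot m') = ⟨Subgroup.zpowers (σ ^ 1), b⟩ :=
        below_ext F.hM F.hmax.1.1 (lowPair_below F.hM F.hmax.1.1 _) hble hz'
      have hne : F.rot m' ∉ fusClass F.hM F.hmax.1.1 (F.rot 1) := by
        intro hm2
        have hlt : m' < 2 * h := Nat.mod_lt _ (by omega)
        rcases F.fus_rot hnd1 hm2 with e | e <;> rw [pow_inj_mod, F.pres.orderσ, Nat.mod_eq_of_lt hlt] at e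
        · exact hne1 (e.trans (Nat.mod_eq_of_lt (by omega)))
        · rw [mul_one] at e
          exact hnet e
      have h2 := sum_secPart_one_zero F.hM F.hmax hne
      simp only [hb, hlow, F.rot_coe] at h2
      rw [← h2]
      refine (Finset.sum_subset (Finset.subset_univ _) fun χ _ hχ => ?_).symm
      rw [secPart_eq_zero_of_not_mem F.hM (by simpa using hχ) hpσ (mem_pairsAt.mpr ⟨rfl, hbpair.1.2⟩)
        (mem_regC.mpr ⟨Subgroup.one_mem _, by rw [orderOf_one]; decide⟩) hbpair, zero_mul]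
    obtain ⟨η₀, -, hd, -⟩ := hbrow
    have hcm : ∀ x ∈ CQ (Subgroup.zpowers (σ ^ 1)), Commute x (σ ^ m') := fun x hx => by
      have := mem_cq_zpowers_iff.mp hx
      rw [pow_one] at this
      exact this.pow_right m'
    refine (mul_eq_zero.mp ?_).resolve_right
      (mt (map_eq_zero (starRingEnd ℂ)).mp (Char.irr_one_ne_zero η₀))
    rw [Finset.sum_mul]
    refine Eq.trans (Finset.sum_congr rfl (g := fun χ : IrrCharacter G =>
      secPart χ (σ ^ 1) ⟨Subgroup.zpowers (σ ^ 1), b⟩ 1 *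
        conj (secPart χ (σ ^ m') ⟨Subgroup.zpowers (σ ^ 1), b⟩ 1) *
        conj ((η₀ : CQ (Subgroup.zpowers (σ ^ 1)) → ℂ) s₀)) fun χ _ => ?_) ?_
    · rw [mul_assoc, ← map_mul, secPart_row F.hM hd hcm χ hs₀reg, map_mul, mul_assoc]
    · rw [← Finset.sum_mul]
      exact mul_eq_zero_of_left hone _
  obtain ⟨L, hL0, hL⟩ := hprod j (Or.inl rfl) bv hvpair.1.2
  obtain ⟨L', -, hL'⟩ := hprod _ (Or.inr rfl) bv' hvpair'.1.2
  obtain ⟨Eu, hEu0, -, hWu, hpu⟩ := F.parts_rot hk hnd1 hb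
  obtain ⟨Ev, hEv0, hEvv, -, hpv⟩ := F.parts_rot hk hj hbv
  -- the inverse
  have hinv : σ ^ (2 * h - j) = (σ ^ j)⁻¹ := by
    refine eq_inv_of_mul_eq_one_left ?_
    rw [← pow_add, show 2 * h - j + j = 2 * h by omega, F.pres.pow_eq_one]
  have hpairv : (⟨Subgroup.zpowers (σ ^ (2 * h - j)), bv'⟩ : BrauerPairIdx G) =
      ⟨Subgroup.zpowers (σ ^ j), bv⟩ := by
    rw [← hbv', ← hbv]
    exact below_ext F.hM F.hmax.1.1 (lowPair_below F.hM F.hmax.1.1 _) (lowPair_below F.hM F.hmax.1.1 _)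
      (by rw [lowPair_fst, lowPair_fst, F.rot_coe, F.rot_coe, hinv, Subgroup.zpowers_inv])
  set su := fun χ : IrrCharacter G => secPart χ (σ ^ 1) ⟨Subgroup.zpowers (σ ^ 1), b⟩ 1 with hsu
  set sv := fun χ : IrrCharacter G => secPart χ (σ ^ j) ⟨Subgroup.zpowers (σ ^ j), bv⟩ 1 with hsv
  have hsv' : ∀ χ, secPart χ (σ ^ (2 * h - j)) ⟨Subgroup.zpowers (σ ^ (2 * h - j)), bv'⟩ 1 =
      conj (sv χ) := fun χ => by rw [hpairv, hinv, hsv, conj_secPart_inv]
  set Cu : ℂ := (Nat.card (CQ (Subgroup.zpowers (σ ^ 1))) : ℂ) with hCu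
  set Cv : ℂ := (Nat.card (CQ (Subgroup.zpowers (σ ^ j))) : ℂ) with hCv
  have hCv' : (Nat.card (CQ (Subgroup.zpowers (σ ^ (2 * h - j)))) : ℂ) = Cv := by
    rw [hCv, hinv, Subgroup.zpowers_inv]
  have hCu0 : Cu ≠ 0 := Nat.cast_ne_zero.mpr Nat.card_pos.ne'
  have hCv0 : Cv ≠ 0 := Nat.cast_ne_zero.mpr Nat.card_pos.ne'
  have hc1 : c 1 ≠ 0 := by
    intro e
    have h1 := hWu
    rw [show subgroupBlockCoeff (CQ (Subgroup.zpowers (σ ^ 1))) b 1 = c 1 from rfl, e, zero_mul] at h1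
    rcases mul_eq_zero.1 h1.symm with h3 | h3
    · exact absurd h3 (mul_ne_zero two_ne_zero (Nat.cast_ne_zero.2 (by omega)))
    · exact absurd h3 (mul_ne_zero (Nat.cast_ne_zero.2 hEu0) (Nat.cast_ne_zero.2 hEu0))
  have hsub : ∀ (j' : ℕ) (bw : Set (IrrCharacter (CQ (Subgroup.zpowers (σ ^ j'))))),
      ∑ χ : IrrCharacter G, secPart χ (σ ^ 1) ⟨Subgroup.zpowers (σ ^ 1), b⟩ 1 *
        secPart χ (σ ^ j') ⟨Subgroup.zpowers (σ ^ j'), bw⟩ 1 / (χ : G → ℂ) 1 *
        conj (secPart χ (σ ^ 1) ⟨Subgroup.zpowers (σ ^ 1), b⟩ (s₀ : G)) =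
      (c (s₀ : G) * ((Eu : ℂ) * Eu) / c 1) *
        ∑ i : ↥(Finset.univ.filter fun χ : IrrCharacter G => χ ∈ B),
          g i 1 * conj (g i 1) * secPart (i : IrrCharacter G) (σ ^ j') ⟨Subgroup.zpowers (σ ^ j'), bw⟩ 1 /
            ((i : IrrCharacter G) : G → ℂ) 1 := by
    intro j' bw
    rw [← Finset.sum_subset (Finset.subset_univ (Finset.univ.filter fun χ : IrrCharacter G => χ ∈ B))
      fun χ _ hχ => by
        rw [secPart_eq_zero_of_not_mem F.hM (by simpa using hχ) hpσ (mem_pairsAt.mpr ⟨rfl, hbpair.1.2⟩)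
          (mem_regC.mpr ⟨Subgroup.one_mem _, by rw [orderOf_one]; decide⟩) hbpair]
        simp,
      ← Finset.sum_coe_sort (Finset.univ.filter fun χ : IrrCharacter G => χ ∈ B), Finset.mul_sum]
    refine Finset.sum_congr rfl fun i _ => ?_
    have e1 : conj (secPart (i : IrrCharacter G) (σ ^ 1) ⟨Subgroup.zpowers (σ ^ 1), b⟩ (s₀ : G)) * c 1 =
        conj (su i) * c (s₀ : G) := by
      have e2 := congrArg conj (secPart_mul_coeff F.hM hbrow (i : IrrCharacter G) hs)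
      simp only [map_mul, Complex.conj_conj, ← subCoeff_inv, inv_one, inv_inv] at e2
      exact e2
    have e3 := hpu (i : IrrCharacter G) (i : IrrCharacter G)
    rw [hcon i i 1 hnd1] at e3
    have hχ1 := Char.irr_one_ne_zero (i : IrrCharacter G)
    simp only [hsu] at e1
    field_simp
    grobner
  rw [hsub] at hL hL'
  simp only [hsv', hCv'] at hL'
  set X := ∑ i : ↥(Finset.univ.filter fun χ : IrrCharacter G => χ ∈ B),
    g i 1 * conj (g i 1) * sv i / ((i : IrrCharacter G) : G → ℂ) 1 with hX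
  set T := ∑ i : ↥(Finset.univ.filter fun χ : IrrCharacter G => χ ∈ B),
    g i 1 * conj (g i 1) * g i j / ((i : IrrCharacter G) : G → ℂ) 1 with hTdef
  have hX' : ∑ i : ↥(Finset.univ.filter fun χ : IrrCharacter G => χ ∈ B),
      g i 1 * conj (g i 1) * conj (sv i) / ((i : IrrCharacter G) : G → ℂ) 1 = conj X := by
    simp only [hX, map_sum, map_div₀, map_mul, Complex.conj_conj, Char.conj_irr_one]
    exact Finset.sum_congr rfl fun i _ => by ring
  rw [hX'] at hL'
  have hXX : X * conj X = (Ev : ℂ) * Ev * (T * conj T) := by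
    simp only [hX, hTdef, map_sum, map_div₀, map_mul, Complex.conj_conj, Char.conj_irr_one,
      Finset.sum_mul_sum]
    rw [Finset.mul_sum]
    refine Finset.sum_congr rfl fun i _ => ?_
    rw [Finset.mul_sum]
    refine Finset.sum_congr rfl fun i' _ => ?_
    have e4 := hpv (i : IrrCharacter G) (i' : IrrCharacter G)
    rw [hcon i i' j hj] at e4
    simp only [hsv]
    linear_combination (g i 1 * conj (g i 1) / ((i : IrrCharacter G) : G → ℂ) 1 *
      (conj (g i' 1) * g i' 1 / ((i' : IrrCharacter G) : G → ℂ) 1)) * e4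
  set d₀ := charDegree (χ₀ : G → ℂ) with hd₀
  have hd₀0 : d₀ ≠ 0 := (charDegree_eq χ₀).2
  refine false_of_mul_eq F.hM hL0 hcs
    (N := Nat.card G * Nat.card G * (Ev * Ev) * A)
    (D := 4 * (Nat.card (CQ (Subgroup.zpowers (σ ^ j))) * Nat.card (CQ (Subgroup.zpowers (σ ^ j)))) *
      (d₀ * d₀) * C) (L' := L') ?_ ?_ ?_
  · exact mul_ne_zero (mul_ne_zero (mul_ne_zero Nat.card_pos.ne' Nat.card_pos.ne')
      (mul_ne_zero hEv0 hEv0)) hA
  · have hG := (Nat.card_pos (α := G)).ne'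
    have hCn := (Nat.card_pos (α := CQ (Subgroup.zpowers (σ ^ j)))).ne'
    have hd := degVal_add_blockDefect F.hM F.hmax.1.2.1 hχ₀ h0
    have hB : blockDefect 2 B = k + 2 := by
      have h1 := exists_defect_pow_card F.hM F.hmax
      rw [F.pres.card, hk, show 4 * 2 ^ k = 2 ^ (k + 2) by ring] at h1
      exact (Nat.pow_right_injective le_rfl h1).symm
    rw [hB, degVal, ← hd₀] at hd
    have h4 : (4 : ℕ).factorization 2 = 2 := by
      rw [show (4 : ℕ) = 2 ^ 2 by norm_num, Nat.prime_two.factorization_pow, Finsupp.single_eq_same]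
    simp only [Nat.factorization_mul, ne_eq, mul_eq_zero, not_false_eq_true, or_self, hG, hCn, hd₀0,
      hEv0, hA, hC, OfNat.ofNat_ne_zero, Finsupp.add_apply, h4, hAC]
    omega
  · push_cast
    show (L : ℂ) * L' * _ = c (s₀ : G) * c (s₀ : G) * _
    rw [hL, hL', ← hCv, show subgroupBlockCoeff (CQ (Subgroup.zpowers (σ ^ 1))) b 1 = c 1 from rfl] at *
    have hh0 : (h : ℂ) ≠ 0 := Nat.cast_ne_zero.2 (by omega)
    field_simp
    grobner

end TFrame

end CfsgLib.Block.Tame
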