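import Cfsg.Agent.Lib.Block.Tame.DihedralMain
import Cfsg.Agent.Lib.Block.Tame.InvolutionFusion
import Cfsg.Agent.Lib.Block.Tame.TameMain
import Cfsg.Agent.Lib.Block.PSolvableFullDefect

/-!
# 2-blocks with dihedral or semidihedral defect group and three Brauer characters

The involutions of the defect group are then fused to the central one, so the centre of the group is
odd; by Fong–Reynolds and the full defect over an invariant character of the odd core the group is not
solvable (`not_isSolvable_of_rank_three`).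
-/

open Finset MonoidAlgebra
open scoped ComplexConjugate

set_option autoImplicit false
set_option linter.unusedSectionVars false

namespace CfsgLib.Block.Tame

open Cfsg CfsgLib CfsgLib.Block
open scoped Pair

universe u

variable {M : Ideal AlgInt} [M.IsMaximal] {G : Type u} [Group G] [Fintype G] [DecidableEq G]
  [Fintype (IrrCharacter G)]

/-- Dihedral of order at least eight, or semidihedral. -/
def DihOrSD {G : Type u} [Group G] (D : Subgroup G) : Prop :=
  (∃ n : ℕ, 3 ≤ n ∧ Nonempty (D ≃* DihedralGroup (2 ^ (n - 1)))) ∨ IsQuasiDihedral D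

theorem DihOrSD.of_equiv {H : Type u} [Group H] {D : Subgroup G} {E : Subgroup H} (e : E ≃* D)
    (h : DihOrSD D) : DihOrSD E := by
  rcases h with ⟨n, hn, ⟨f⟩⟩ | ⟨n, hn, hc, x, y, hx, hy, hxy⟩
  · exact Or.inl ⟨n, hn, ⟨e.trans f⟩⟩
  · refine Or.inr ⟨n, hn, (Nat.card_congr e.toEquiv).trans hc, e.symm x, e.symm y, ?_, ?_, ?_⟩
    · rw [MulEquiv.orderOf_eq, hx]
    · rw [MulEquiv.orderOf_eq, hy]
    · rw [← map_inv, ← map_mul, ← map_mul, hxy, map_pow]

variable {B : Set (IrrCharacter G)} {D : Subgroup G}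

open scoped Classical in
/-- The rank is at most three, and at three the involutions are fused. -/
theorem rank_le_three (hM : IsPModular 2 M) (hB : IsPBlock M B) (hD : IsDefectGroup 2 M B D)
    (hD' : DihOrSD D) :
    blockRank 2 B ≤ 3 ∧ (blockRank 2 B = 3 → ∃ J : G, FusedInvol D J) := by
  obtain ⟨e, hmax⟩ := exists_maximalPair_at hM hB hD
  rcases hD' with ⟨n, hn, hdih⟩ | hsd
  · obtain ⟨σ, τ, hpres⟩ := exists_dPres hn hdih
    have F : DFrame M B D e σ τ (2 ^ (n - 2)) := ⟨hM, hmax, hpres⟩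
    obtain ⟨hk, -, hl3, -, -⟩ := F.invariants
    refine ⟨hl3, fun hl => ⟨σ ^ 2 ^ (n - 2), ?_⟩⟩
    set h := 2 ^ (n - 2)
    have h2 := hpres.two_le
    obtain ⟨m, hm1, -, hm, hfus⟩ := F.exists_invol_classes
    have hJmem : σ ^ h ∈ D := pow_mem hpres.memσ h
    have hJc : ∀ x ∈ D, Commute x (σ ^ h) := fun x hx =>
      congrArg Subtype.val (Subgroup.mem_center_iff.mp F.J_center ⟨x, hx⟩)
    refine ⟨hJmem, hpres.sigma_h_sq, hpres.sigma_h_ne, hJc, fun x hx hx2 hx1 => ?_,
      ⟨τ, hpres.memτ, hpres.sqτ, fun e0 => hpres.not_zpow (e0 ▸ one_mem _),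
        fun e0 => hpres.not_zpow (e0 ▸ Subgroup.npow_mem_zpowers σ h)⟩, fun x hx hcx => ?_⟩
    · obtain ⟨g, hg, -⟩ := (mem_fusClass hM hmax.1.1).1
        (hfus (by omega) ⟨x, hx⟩ (fun e0 => hx1 (congrArg Subtype.val e0)) hx2)
      exact ⟨g, hg⟩
    · have hs : Commute x σ := by
        have h1 := hcx τ hpres.memτ hpres.sqτ
        have h3 := hcx (τ * σ ^ 1) (mul_mem hpres.memτ (pow_mem hpres.memσ 1)) (hpres.refl_sq 1)
        rw [pow_one] at h3
        have h4 := (h1.inv_right).mul_right h3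
        rwa [inv_mul_cancel_left] at h4
      have ht := hcx τ hpres.memτ hpres.sqτ
      obtain ⟨l, rfl | rfl⟩ := hpres.cases x hx
      · by_cases h0 : σ ^ l = 1
        · exact Or.inl h0
        refine Or.inr (hpres.eq_J h0 (by_contra fun hd => (hpres.sq_ne_iff l).2 hd ?_))
        have h5 := hpres.conjτ l
        rw [← ht.eq, mul_inv_cancel_right] at h5
        exact mul_eq_one_iff_eq_inv.2 h5
      · exfalso
        have h5 := hpres.conjτσ l 1
        rw [pow_one, hs.eq, mul_inv_cancel_right] at h5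
        have h6 : σ ^ 2 = 1 := by rw [pow_two]; exact mul_eq_one_iff_eq_inv.2 h5
        have := Nat.le_of_dvd two_pos (hpres.pow_eq_one.1 h6)
        omega
  · obtain ⟨m, hm, hc, hgens⟩ := hsd
    obtain ⟨σ, τ, hpres, hsq⟩ := exists_tPres_semidihedral hc ⟨m, hm, hc, hgens⟩
    set h := 2 ^ (m + 1 - 2)
    have F : TFrame M B D e σ τ h (h - 1) := ⟨hM, hmax, hpres⟩
    obtain ⟨-, -, hl3, hl, -⟩ := F.invariants_semidihedral rfl hsq
    refine ⟨hl3, fun e3 => ⟨σ ^ h, ?_⟩⟩
    have hcls := (hl e3).2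
    have h2 := hpres.two_le
    have h4 : 4 ≤ h := by
      rcases hpres.kind with ⟨e0, -⟩ | ⟨-, -, e0⟩
      · exact absurd (e0.symm.trans hsq) hpres.sigma_h_ne
      · exact e0
    have ht : h - 1 + 1 = h := by omega
    have h2t : τ * σ ^ 2 * (τ * σ ^ 2) = 1 := by
      rw [show τ * σ ^ 2 * (τ * σ ^ 2) = τ * σ ^ 2 * τ⁻¹ * (τ * τ) * σ ^ 2 by group, hpres.conjτ, hsq,
        mul_one, ← pow_add, hpres.pow_eq_one]
      exact ⟨1, by rw [show (h - 1) * 2 + 2 = 2 * (h - 1 + 1) by ring, ht, mul_one]⟩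
    refine ⟨pow_mem hpres.memσ h, hpres.sigma_h_sq, hpres.sigma_h_ne, fun x hx => hpres.J_comm hx,
      fun x hx hx2 hx1 => ?_,
      ⟨τ, hpres.memτ, hsq, fun e0 => hpres.not_zpow (e0 ▸ one_mem _),
        fun e0 => hpres.not_zpow (e0 ▸ Subgroup.npow_mem_zpowers σ h)⟩, fun x hx hcx => ?_⟩
    · obtain ⟨l, rfl | rfl⟩ := hpres.cases hx
      · refine ⟨1, ?_⟩
        rw [one_mul, inv_one, mul_one]
        exact (hpres.eq_J hx1 (by_contra fun hd => (hpres.sq_ne_iff l).2 hd hx2)).symm
      · have hl2 : l % 2 = 0 := by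
          by_contra hodd
          have h1 : F.cls (F.out l) = F.cls (F.out 1) := F.out_parity (by omega)
          have h3 : F.out l ∈ F.cls (F.out 1) := h1 ▸ F.self_mem_cls _
          have h5 := (F.sq_of_mem h3).1 hx2
          rw [F.out_one_sq hsq] at h5
          exact hpres.sigma_h_ne h5
        have h6 : F.out l ∈ F.cls (F.rot h) := by
          rw [F.cls_eq hcls, ← F.out_parity (i := l) (j := 0) (by omega)]
          exact F.self_mem_cls _
        exact F.exists_conj_of_mem h6
    · have h1 := hcx τ hpres.memτ hsq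
      have h3 : Commute x (σ ^ 2) := by
        have h5 := (h1.inv_right).mul_right
          (hcx (τ * σ ^ 2) (mul_mem hpres.memτ (pow_mem hpres.memσ 2)) h2t)
        rwa [inv_mul_cancel_left] at h5
      have hd2 : ¬ h ∣ 2 := fun hd => by
        have := Nat.le_of_dvd two_pos hd
        omega
      obtain ⟨l, rfl⟩ := hpres.exists_pow (hpres.mem_zpowers_of_commute hx hd2 h3)
      by_cases h0 : σ ^ l = 1
      · exact Or.inl h0
      refine Or.inr (hpres.eq_J h0 (by_contra fun hd => hpres.not_zpow ?_))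
      exact hpres.mem_zpowers_of_commute hpres.memτ hd h1.symm

end CfsgLib.Block.Tame
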