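import Cfsg.Agent.Lib.Block.Tame.LocalFun
import Cfsg.Agent.Lib.Block.Fusion

/-!
# Conjugation of the generalized characters of a local nilpotent block

An element `n` of `P` normalizing `Q` and `R` carries `Setup.gfun` at `y` to a multiple at
`n * y * n⁻¹`, the factor being a generalized character of absolute value one (`Setup.exists_twist`).
-/

open Finset MonoidAlgebra
open scoped ComplexConjugate

set_option autoImplicit false
set_option linter.unusedSectionVars false

namespace CfsgLib.Block.Tame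

open Cfsg CfsgLib CfsgLib.Block CfsgLib.Block.CyclicDefect
open scoped Pair

universe u

variable {p : ℕ} {M : Ideal AlgInt} [M.IsMaximal] {G : Type u} [Group G] [Fintype G] [DecidableEq G]
  [Fintype (IrrCharacter G)] {Q R P : Subgroup G} {B : Set (IrrCharacter G)}
  {e : Set (IrrCharacter (CQ P))} {f : Set (IrrCharacter (CQ Q))}
  {eR : Set (IrrCharacter (CQ R))}

theorem conj_secSum (χ ψ : IrrCharacter G) (u : G) (a : BrauerPairIdx G) :
    conj (secSum p χ ψ u a) = secSum p ψ χ u a := by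
  simp only [secSum, map_sum, map_mul, Complex.conj_conj, mul_comm]

namespace Setup

variable (S : Setup p M B P e Q R f eR) [Fintype (IrrCharacter (CQ Q))]
include S

open scoped Classical in
/-- Conjugation by an element of `P` normalizing `Q` and `R`. -/
theorem exists_twist {n : G} (hn : n ∈ P) (hnQ : n ∈ Subgroup.normalizer (Q : Set G))
    (hnR : ∀ g, g ∈ R ↔ n * g * n⁻¹ ∈ R) :
    ∃ θ₀, S.Base θ₀ ∧ ∃ ω : R.subgroupOf (CQ Q) → ℂ,
      IsGeneralizedCharacter (R.subgroupOf (CQ Q)) ω ∧ (∀ y, ω y * conj (ω y) = 1) ∧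
      ∀ χ (y y' : R.subgroupOf (CQ Q)), Q ≤ Subgroup.zpowers ((y : CQ Q) : G) →
        ((y' : CQ Q) : G) = n * ((y : CQ Q) : G) * n⁻¹ →
          S.gfun θ₀ χ y' = ω y * S.gfun θ₀ χ y := by
  set φ : CQ Q ≃* CQ Q := cjHom (cq_conj_iff hnQ) with hφ
  set tw : IrrCharacter (CQ Q) ≃ IrrCharacter (CQ Q) := irrEquiv φ.symm with htw
  have htwv : ∀ θ c, (tw θ : CQ Q → ℂ) c = (θ : CQ Q → ℂ) (φ c) := fun θ c => rfl
  have hφG : ∀ c : CQ Q, (φ c : G) = n * (c : G) * n⁻¹ := fun c => rfl
  -- the block is stable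
  have hfix : conjSet n (CQ Q) (CQ Q) f = f := by
    have hQf : SubpairLE p M Q f P e :=
      (SubpairLE.step S.hM S.sub).trans S.below
    have h1 : Below p M P e (cjP n ⟨Q, f⟩) :=
      below_conj S.hM hQf (cjP_top_of_mem S.hM S.hmax.1.1 hn)
    rw [cjP_eq_of_mem S.hM hnQ S.sub.pairL.2] at h1
    exact SubpairLE.unique S.hM S.hmax.1.1 h1 hQf
  have hmem : ∀ θ, tw θ ∈ f ↔ θ ∈ f := by
    intro θ
    rw [conjSet_eq_image (cq_conj_iff hnQ), ← hφ] at hfix
    constructor
    · intro h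
      rw [← hfix]
      exact ⟨tw θ, h, (irrEquiv φ.symm).symm_apply_apply θ⟩
    · intro h
      rw [← hfix] at h
      obtain ⟨ξ, hξ, rfl⟩ := h
      rwa [show tw (irrEquiv φ ξ) = ξ from (irrEquiv φ).symm_apply_apply ξ]
  -- the multiplicities are invariant
  have hmult : ∀ (χ : IrrCharacter G) θ, resMult χ (tw θ) = resMult χ θ := by
    intro χ θ
    refine Nat.cast_injective (R := ℂ) ?_
    have hspec : ∀ η : IrrCharacter (CQ Q), (resMult χ η : ℂ) =
        classInner (fun c : CQ Q => (χ : G → ℂ) ((CQ Q).subtype c)) (η : CQ Q → ℂ) := fun η =>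
      (Classical.choose_spec (Char.classInner_char_irr_nat
        (Char.isCharacter_comp (Char.isCharacter_irr χ) (CQ Q).subtype) η)).symm
    rw [hspec, hspec]
    simp only [classInner]
    congr 1
    refine Fintype.sum_equiv φ.toEquiv _ _ fun c => ?_
    simp only [Subgroup.coe_subtype, MulEquiv.toEquiv_eq_coe, EquivLike.coe_coe, htwv, hφG]
    rw [Char.isClassFunction_irr χ (c : G) n]
  -- the bases
  obtain ⟨θ₀, hθ, h0, hnorm, hgen⟩ := exists_contrib_gen S.hM S.maxC S.nil
  obtain ⟨-, -, hmul⟩ := contrib_gen_of_height_zero S.hM S.maxC S.nil hθ h0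
  have htw0 : blockHeight p f ((tw θ₀ : IrrCharacter (CQ Q)) : CQ Q → ℂ) = 0 := by
    have hd : charDegree ((tw θ₀ : IrrCharacter (CQ Q)) : CQ Q → ℂ) = charDegree (θ₀ : CQ Q → ℂ) :=
      Nat.cast_injective (R := ℂ) (by rw [← (charDegree_eq _).1, ← (charDegree_eq _).1, htwv, map_one])
    rw [← h0]
    simp only [blockHeight, hd]
  obtain ⟨hnormt, -, -⟩ := contrib_gen_of_height_zero S.hM S.maxC S.nil ((hmem θ₀).2 hθ) htw0
  refine ⟨θ₀, ⟨hθ, hnorm, hgen⟩,
    fun y => conj (contrib p (lowPair S.hM S.maxC.1.1) (tw θ₀) θ₀ y), ?_, fun y => ?_, ?_⟩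
  · obtain ⟨c₁, c₂, hc₁, hc₂, he'⟩ := hgen (tw θ₀)
    exact ⟨_, _, Char.isCharacter_conj hc₁, Char.isCharacter_conj hc₂,
      funext fun y => by rw [congrFun he' y, Pi.sub_apply, Pi.sub_apply, map_sub]⟩
  · have hh : conj (contrib p (lowPair S.hM S.maxC.1.1) (tw θ₀) θ₀ y) =
        contrib p (lowPair S.hM S.maxC.1.1) θ₀ (tw θ₀) y := by
      simp only [contrib, map_div₀, map_mul, map_natCast, conj_secSum]
    show _ * conj (conj _) = 1
    rw [Complex.conj_conj]
    exact (congrArg (· * _) hh).trans ((mul_comm _ _).trans ((hmul _ _ y).symm.trans (hnormt y)))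
  intro χ y y' hQ hy
  have hy' : (y' : CQ Q) = φ y := Subtype.ext hy
  have hQ' : Q ≤ Subgroup.zpowers ((y' : CQ Q) : G) := by
    rw [hy, ← cjS_zpowers]
    exact (cjS_eq_of_mem_normalizer hnQ).symm.le.trans (cjS_mono hQ)
  -- the parts correspond
  have hlow : lowPair S.hM S.hmax.1.1 (S.inP y') = cjP n (lowPair S.hM S.hmax.1.1 (S.inP y)) :=
    below_ext S.hM S.hmax.1.1 (lowPair_below S.hM S.hmax.1.1 _)
      (below_conj S.hM (lowPair_below S.hM S.hmax.1.1 _) (cjP_top_of_mem S.hM S.hmax.1.1 hn))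
      (by
        show Subgroup.zpowers ((y' : CQ Q) : G) = cjS n (Subgroup.zpowers ((y : CQ Q) : G))
        rw [hy, cjS_zpowers])
  have hcoeff : ∀ t : CQ Q,
      subgroupBlockCoeff (CQ (lowPair S.hM S.maxC.1.1 y').1) (lowPair S.hM S.maxC.1.1 y').2 (φ t) =
        subgroupBlockCoeff (CQ (lowPair S.hM S.maxC.1.1 y).1) (lowPair S.hM S.maxC.1.1 y).2 t := by
    intro t
    rw [S.coeff_low hQ', S.coeff_low hQ, hlow, hφG]
    show subgroupBlockCoeff (CQ (cjS n _)) (conjBlock _ n _) _ = _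
    rw [subgroupBlockCoeff_conjBlock]
    congr 1
    group
  have hcomm : ∀ s : CQ Q, Commute (φ s) (y' : CQ Q) ↔ Commute s (y : CQ Q) := fun s => by
    rw [hy']
    exact ⟨fun h => by simpa using h.map φ.symm.toMonoidHom, fun h => h.map φ.toMonoidHom⟩
  have hpart : ∀ θ (s : CQ Q), secPart θ (y' : CQ Q) (lowPair S.hM S.maxC.1.1 y') (φ s) =
      secPart (tw θ) (y : CQ Q) (lowPair S.hM S.maxC.1.1 y) s := by
    intro θ s
    simp only [secPart]
    refine (Fintype.sum_equiv φ.toEquiv _ _ fun t => ?_).symm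
    simp only [MulEquiv.toEquiv_eq_coe, EquivLike.coe_coe, hcoeff, htwv, map_mul, hy']
  have hsum : ∀ θ θ', secSum p θ θ' (y' : CQ Q) (lowPair S.hM S.maxC.1.1 y') =
      secSum p (tw θ) (tw θ') (y : CQ Q) (lowPair S.hM S.maxC.1.1 y) := by
    intro θ θ'
    simp only [secSum]
    refine (Finset.sum_equiv φ.toEquiv (fun s => ?_) fun s _ => ?_).symm
    · simp only [Finset.mem_filter, Finset.mem_univ, true_and, MulEquiv.toEquiv_eq_coe,
        EquivLike.coe_coe, MulEquiv.orderOf_eq, lowPair_fst, mem_cq_zpowers_iff, hcomm]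
    · simp only [MulEquiv.toEquiv_eq_coe, EquivLike.coe_coe, hpart]
  have hcon : ∀ θ θ', contrib p (lowPair S.hM S.maxC.1.1) θ θ' y' =
      contrib p (lowPair S.hM S.maxC.1.1) (tw θ) (tw θ') y := by
    intro θ θ'
    set ψ : R.subgroupOf (CQ Q) ≃* R.subgroupOf (CQ Q) :=
      { toFun := fun c => ⟨φ c, (hnR _).1 c.2⟩
        invFun := fun c => ⟨φ.symm c, Subgroup.mem_subgroupOf.2 ((hnR _).2 (by
          rw [← hφG, MulEquiv.apply_symm_apply]; exact c.2))⟩
        left_inv := fun c => Subtype.ext (φ.symm_apply_apply _)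
        right_inv := fun c => Subtype.ext (φ.apply_symm_apply _)
        map_mul' := fun a b => Subtype.ext (map_mul φ _ _) } with hψ
    have hc1 : Nat.card (Subgroup.centralizer ({y'} : Set (R.subgroupOf (CQ Q)))) =
        Nat.card (Subgroup.centralizer ({y} : Set (R.subgroupOf (CQ Q)))) := by
      rw [show y' = ψ y from Subtype.ext hy', ← centralizer_map_singleton,
        Subgroup.card_map_of_injective ψ.injective]
    have hc2 : Nat.card (CQ (Subgroup.zpowers (y' : CQ Q))) =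
        Nat.card (CQ (Subgroup.zpowers (y : CQ Q))) :=
      (Nat.card_congr (φ.toEquiv.subtypeEquiv fun s => by
        simp only [MulEquiv.toEquiv_eq_coe, EquivLike.coe_coe, mem_cq_zpowers_iff, hcomm])).symm
    rw [contrib, contrib, hsum, hc1, hc2]
  -- the values
  have hh : conj (contrib p (lowPair S.hM S.maxC.1.1) (tw θ₀) θ₀ y) =
      contrib p (lowPair S.hM S.maxC.1.1) θ₀ (tw θ₀) y := by
    simp only [contrib, map_div₀, map_mul, map_natCast, conj_secSum]
  simp only [gfun, hh, Finset.mul_sum]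
  refine Finset.sum_equiv tw (fun θ => by simp [hmem]) fun θ _ => ?_
  rw [hcon, hmul, hmult]
  ring

end Setup

end CfsgLib.Block.Tame
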