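import Cfsg.Agent.Lib.Block.Tame.TameContrib
import Cfsg.Agent.Lib.Block.Tame.TameTwist
import Cfsg.Agent.Lib.Block.Tame.TameFourier
import Cfsg.Agent.Lib.Block.HeightZeroCount
import Cfsg.Agent.Lib.Block.Orthogonality

/-!
# 2-blocks with quaternion or semidihedral defect group: the vectors of the rotations

The contributions at the rotations of order at least four are the products `g i * conj (g k)` of
values `g = TameConfig.rotVal` of integral vectors `wh`, `w`, `u` with the Gram matrix of the shapes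
of `TameConfig.Vecs`; the members of height zero are the four with `wh ≠ 0`
(`TFrame.exists_vectors`).
-/

open Finset MonoidAlgebra
open scoped ComplexConjugate

set_option autoImplicit false
set_option linter.unusedSectionVars false

namespace CfsgLib.Block.Tame

open Cfsg CfsgLib CfsgLib.Block CfsgLib.Block.CyclicDefect
open scoped Pair

universe u

/-- The value at a rotation in terms of the vectors. -/
noncomputable def TameConfig.rotVal {ι : Type*} {n : ℕ} (ζ : ℂ) (h t : ℕ) (wh : ι → ℤ)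
    (w u : Fin n → ι → ℤ) (i : ι) (l : ℕ) : ℂ :=
  (wh i : ℂ) * ζ ^ (h * l) +
    ∑ j : Fin n, (w j i : ℂ) * (ζ ^ (2 * ((j : ℕ) + 1) * l) + ζ ^ (t * (2 * ((j : ℕ) + 1)) * l)) +
    ∑ c : Fin n, (u c i : ℂ) *
      (ζ ^ ((4 * ((c : ℕ) + 1) + 1) * l) + ζ ^ (t * (4 * ((c : ℕ) + 1) + 1) * l))

/-- A generalized character on the powers of an element. -/
theorem exists_comb {h : ℕ} [NeZero (2 * h)] {ζ : ℂ} (hζ : IsPrimitiveRoot ζ (2 * h)) {H : Type u}
    [Group H] [Finite H] {g : H → ℂ} (hg : IsGeneralizedCharacter H g) {s : H} (hs : s ^ (2 * h) = 1) :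
    ∃ a : ZMod (2 * h) → ℤ, ∀ l : ℕ, g (s ^ l) = TameFourier.comb hζ a (l : ZMod (2 * h)) := by
  have hchar : ∀ χ : H → ℂ, IsCharacter H χ → ∃ a : ZMod (2 * h) → ℕ, ∀ l : ℕ, χ (s ^ l) =
      ∑ x, (a x : ℂ) * TameFourier.chi hζ (x * (l : ZMod (2 * h))) := by
    rintro χ ⟨m, ρ, rfl⟩
    obtain ⟨b, μ, h1, -, h3⟩ := Char.exists_eigen_data ρ s
    have hk : ∀ i, ∃ k : ℕ, ζ ^ k = μ i := fun i => by
      obtain ⟨c, hc⟩ := orderOf_dvd_of_pow_eq_one hs
      obtain ⟨k, -, hk⟩ := hζ.eq_pow_of_pow_eq_one (show μ i ^ (2 * h) = 1 by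
        rw [hc, pow_mul, h1, one_pow])
      exact ⟨k, hk⟩
    choose k hk using hk
    refine ⟨fun x => (Finset.univ.filter fun i => ((k i : ℕ) : ZMod (2 * h)) = x).card, fun l => ?_⟩
    rw [h3, ← Finset.sum_fiberwise Finset.univ (fun i => ((k i : ℕ) : ZMod (2 * h)))]
    refine Finset.sum_congr rfl fun x _ => ?_
    rw [Finset.sum_congr rfl (g := fun _ => TameFourier.chi hζ (x * (l : ZMod (2 * h)))) fun i hi => ?_,
      Finset.sum_const, nsmul_eq_mul]
    rw [← (Finset.mem_filter.1 hi).2, ← Nat.cast_mul, TameFourier.chi_nat, pow_mul, hk]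
  obtain ⟨χ, ψ, hχ, hψ, rfl⟩ := hg
  obtain ⟨a, ha⟩ := hchar χ hχ
  obtain ⟨b, hb⟩ := hchar ψ hψ
  refine ⟨fun x => (a x : ℤ) - b x, fun l => ?_⟩
  rw [Pi.sub_apply, ha, hb, TameFourier.comb, ← Finset.sum_sub_distrib]
  exact Finset.sum_congr rfl fun x _ => by push_cast; ring

variable {M : Ideal AlgInt} [M.IsMaximal] {G : Type u} [Group G] [Fintype G] [DecidableEq G]
  [Fintype (IrrCharacter G)] {B : Set (IrrCharacter G)} {P : Subgroup G}
  {e : Set (IrrCharacter (CQ P))}

open scoped Classical in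
/-- The parts at a non-trivial element of the defect group are orthogonal to the degrees. -/
theorem sum_secPart_degree {p : ℕ} (hM : IsPModular p M) (hmax : IsMaximalBrauerPair p M B P e) {y : P}
    (hy : y ≠ 1) :
    ∑ χ ∈ Finset.univ.filter (fun χ : IrrCharacter G => χ ∈ B),
      secPart χ (y : G) (lowPair hM hmax.1.1 y) 1 * (χ : G → ℂ) 1 = 0 := by
  simp only [secPart, Finset.sum_mul]
  rw [Finset.sum_comm]
  refine Finset.sum_eq_zero fun t _ => ?_
  rw [Finset.sum_congr rfl fun χ _ => mul_assoc _ _ _, ← Finset.mul_sum]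
  set Q' := (lowPair hM hmax.1.1 y).1
  by_cases ht : t ∈ CQ Q'
  swap
  · rw [subgroupBlockCoeff_of_notMem _ ht, zero_mul]
  by_cases hreg : p ∣ orderOf t
  · rw [show t = ((⟨t, ht⟩ : CQ Q') : G) from rfl, subgroupBlockCoeff_coe,
      blockCoeff_eq_zero_of_singular hM (IsBlockUnion.of_isPBlock
        (lowPair_pairOf hM hmax y).1.2) (by rwa [← Subgroup.orderOf_coe]),
      zero_mul]
  refine mul_eq_zero_of_right _ ?_
  have hc : Commute t (y : G) := mem_cq_zpowers_iff.1 ht
  obtain ⟨k, hk⟩ := exists_pElement_orderOf hmax.1.1 y hM.1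
  have hsing : p ∣ orderOf ((y : G) * (t * 1)) := by
    rw [mul_one, hc.symm.orderOf_mul_eq_mul_orderOf_of_coprime ?_]
    · refine Dvd.dvd.mul_right ?_ _
      rw [hk]
      refine dvd_pow_self p fun h0 => hy (Subtype.ext (orderOf_eq_one_iff.1 ?_))
      rw [hk, h0, pow_zero]
    · rw [hk]
      exact ((hM.1.coprime_iff_not_dvd).2 hreg).pow_left k
  have e := blockUnion_orthogonal_regular_singular hM (IsBlockUnion.of_isPBlock hmax.1.2.1)
    (g := (1 : G)) (by rw [orderOf_one]; exact hM.1.not_dvd_one) hsing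
  rw [finsum_mem_eq_finite_toFinset_sum _ (Set.toFinite _),
    show (Set.toFinite B).toFinset = Finset.univ.filter (fun χ : IrrCharacter G => χ ∈ B) by
      ext; simp] at e
  have e2 := congrArg conj e
  rw [map_zero, map_sum] at e2
  refine Eq.trans (Finset.sum_congr rfl fun χ _ => ?_) e2
  rw [map_mul, Complex.conj_conj, Char.conj_irr_one, mul_comm]

namespace TFrame

variable {σ τ : G} {h t : ℕ} (F : TFrame M B P e σ τ h t)
include F

open scoped Classical in
/-- There are at least four members of height zero. -/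
theorem four_le_heightZero :
    4 ≤ (Finset.univ.filter fun χ : IrrCharacter G => χ ∈ B ∧
      blockHeight 2 B (χ : G → ℂ) = 0).card := by
  obtain ⟨k, hk0, hk⟩ := F.pres.pow2
  have hd : 2 ≤ blockDefect 2 B := by
    have h1 := exists_defect_pow_card F.hM F.hmax
    rw [F.pres.card, hk, show 4 * 2 ^ k = 2 ^ (k + 2) by ring] at h1
    rw [← Nat.pow_right_injective le_rfl h1]
    omega
  set s := Finset.univ.filter fun χ : IrrCharacter G => χ ∈ B ∧ blockHeight 2 B (χ : G → ℂ) = 0 with hs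
  have h4 := pow_dvd_sum_redDeg_sq F.hM F.hmax.1.2.1 (j := 2) le_rfl hd
  rw [← hs, Nat.dvd_iff_mod_eq_zero, Finset.sum_nat_mod, Finset.sum_congr rfl (g := fun _ => 1) fun χ hχ => ?_,
    Finset.sum_const, smul_eq_mul, mul_one] at h4
  · obtain ⟨χ₀, h1, h2⟩ := exists_height_zero F.hM F.hmax.1.2.1
    have := Finset.card_pos.2 ⟨χ₀, show χ₀ ∈ s by simp [hs, h1, h2]⟩
    omega
  · obtain ⟨h1, h2⟩ := (Finset.mem_filter.1 hχ).2
    have := not_dvd_redDeg F.hM h1 h2
    rw [Nat.pow_mod]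
    rcases (show redDeg 2 B χ % 4 = 1 ∨ redDeg 2 B χ % 4 = 3 by omega) with e | e <;>
      norm_num [e]

/-- The cyclic group of `σ ^ (h / 2)` lies in that of every rotation of order at least four. -/
theorem quarter_mem_zpowers {q : ℕ} (hq : h = 2 * q) {l : ℕ} (hl : ¬ h ∣ l) :
    Subgroup.zpowers (σ ^ q) ≤ Subgroup.zpowers (σ ^ l) := by
  rw [Subgroup.zpowers_le]
  obtain ⟨k, hk0, hk⟩ := F.pres.pow2
  set g := Nat.gcd l (2 * h) with hg
  have hg2 : g ∣ 2 ^ (k + 1) := by
    rw [pow_succ', ← hk]; exact Nat.gcd_dvd_right _ _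
  obtain ⟨i, hi, hgi⟩ := (Nat.dvd_prime_pow Nat.prime_two).1 hg2
  have hik : i < k := by
    by_contra hge
    exact hl ((hk ▸ hgi ▸ pow_dvd_pow 2 (not_lt.1 hge) : h ∣ g).trans (Nat.gcd_dvd_left _ _))
  have hgq : g ∣ q := by
    obtain ⟨k', rfl⟩ := Nat.exists_eq_add_of_le (show 1 ≤ k by omega)
    rw [pow_add, pow_one] at hk
    rw [hgi, show q = 2 ^ k' by omega]
    exact pow_dvd_pow 2 (by omega)
  obtain ⟨c, hc⟩ := hgq
  have hmem : σ ^ g ∈ Subgroup.zpowers (σ ^ l) := by
    refine Subgroup.mem_zpowers_iff.2 ⟨Nat.gcdA l (2 * h), ?_⟩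
    rw [← zpow_natCast σ g, hg, Nat.gcd_eq_gcd_ab, zpow_add, zpow_mul, zpow_mul, zpow_natCast,
      zpow_natCast, F.pres.pow_eq_one.2 dvd_rfl, one_zpow, mul_one]
  rw [hc, pow_mul]
  exact pow_mem hmem c

theorem sum_contrib_rot [DecidablePred (· ∈ B)] {l : ℕ} (hl : ¬ h ∣ l) :
    ∑ χ ∈ Finset.univ.filter (· ∈ B), contrib 2 (lowPair F.hM F.hmax.1.1) χ χ (F.rot l) = (2 * h : ℂ) := by
  simp only [contrib, F.card_cent, F.card_cP_rot hl]
  rw [← Finset.sum_div, ← Finset.mul_sum, sum_secSum_eq_rank F.hM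
    (exists_pElement_orderOf F.hmax.1.1 (F.rot l) F.hM.1) (lowPair_fst F.hM F.hmax.1.1 _)
    (lowPair_pairOf F.hM F.hmax _), F.rank_low (F.rot_ne_one hl) (F.J_not_mem_cls_rot hl),
    Nat.cast_one, mul_one, lowPair_fst, mul_div_cancel_right₀ _ (Nat.cast_ne_zero.2 Nat.card_pos.ne')]
  push_cast
  rfl

theorem full_rot {l : ℕ} (hl : ¬ h ∣ l) :
    ∀ u ∈ F.cls (F.rot l), Nat.card (cenIn u) ≤ Nat.card (cenIn (F.rot l)) := fun u hu => by
  rw [F.card_cP_rot hl]
  refine F.card_cP_le (fun e => F.rot_ne_one hl ((F.eq_one_of_mem hu).1 e)) fun e => ?_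
  exact F.J_not_mem_cls_rot hl (e ▸ hu)

/-- The contribution at a fully centralized element is odd on the members of height zero. -/
theorem contrib_odd {y : P} (hfull : ∀ u ∈ F.cls y, Nat.card (cenIn u) ≤ Nat.card (cenIn y))
    {χ : IrrCharacter G} (hχ : χ ∈ B) (h0 : blockHeight 2 B (χ : G → ℂ) = 0) {z : ℤ}
    (hz : contrib 2 (lowPair F.hM F.hmax.1.1) χ χ y = (z : ℂ)) : z % 2 = 1 := by
  classical
  have := charP_resField F.hM
  obtain ⟨b, hb⟩ := exists_eq_pairMk (a := lowPair F.hM F.hmax.1.1 y)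
    (Q := Subgroup.zpowers (y : G)) rfl
  have hof := lowPair_pairOf F.hM F.hmax y
  have hdef := F.defect_low hfull
  rw [hb] at hof hdef
  dsimp only at hof hdef
  have := Fintype.ofFinite (IrrCharacter (CQ (Subgroup.zpowers (y : G))))
  obtain ⟨j, hj⟩ : ∃ j : ℕ, orderOf (y : G) = 2 ^ j := exists_pElement_orderOf F.hmax.1.1 y F.hM.1
  have hC : ∀ x : G, x ∈ CQ (Subgroup.zpowers (y : G)) ↔ Commute x (y : G) := fun _ => mem_cq_zpowers_iff
  have hind : IsInducedBlock M (CQ (Subgroup.zpowers (y : G))) b B :=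
    (isBrauerPairOf_zpowers_iff F.hM F.hmax.1.2.1 ⟨j, hj⟩).mp hof
  have hbd : 2 ^ blockDefect 2 b = Nat.card (cenIn y) := by
    rw [← defectGroup_card F.hM hof.1.2 hdef, card_subgroupOf_inf]
  obtain ⟨κ, hκ, hres⟩ := exists_secContrib_res F.hM hj hC hind
  have hsec : secContrib 2 (y : G) (CQ (Subgroup.zpowers (y : G))) b χ χ = (z : ℂ) := by
    rw [secContrib_eq_secSum F.hM hof.1.2 (fun x => (hC x).mp x.2), ← hz, contrib, F.card_cent,
      hb, ← hbd]
    push_cast
    ring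
  have h1 := hres χ χ (z : locRing M) (by rw [hsec]; simp)
  have h2 := secRes_ne_zero F.hM ⟨j, hj⟩ hC hind hχ h0
  rcases Int.emod_two_eq_zero_or_one z with h3 | h3
  · rw [map_intCast, (CharP.intCast_eq_zero_iff (ResField M) 2 z).2
      (Int.dvd_of_emod_eq_zero h3)] at h1
    exact absurd h1.symm (mul_ne_zero (mul_ne_zero hκ h2) h2)
  · exact h3

open scoped Classical in
/-- The values at the rotations, in terms of a family of combinations fixed by `t`. -/
theorem exists_combs {ζ : ℂ} (hζ : IsPrimitiveRoot ζ (2 * h)) [NeZero (2 * h)] :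
    ∃ a : ↥(Finset.univ.filter fun χ : IrrCharacter G => χ ∈ B) → ZMod (2 * h) → ℤ,
      (∀ i x, a i ((t : ZMod (2 * h)) * x) = a i x) ∧
      (∀ i k : ↥(Finset.univ.filter fun χ : IrrCharacter G => χ ∈ B), ∀ l : ℕ, ¬ h ∣ l →
        contrib 2 (lowPair F.hM F.hmax.1.1) (i : IrrCharacter G) (k : IrrCharacter G) (F.rot l) =
          TameFourier.comb hζ (a i) l * conj (TameFourier.comb hζ (a k) l)) ∧
      (∀ y y' : ZMod (2 * h), y ≠ 0 → y ≠ (h : ZMod (2 * h)) → y' ≠ 0 → y' ≠ (h : ZMod (2 * h)) →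
        ∑ i, TameFourier.comb hζ (a i) y * conj (TameFourier.comb hζ (a i) y') =
          (2 * h : ℂ) * ((if y' = y then 1 else 0) + (if y' = (t : ZMod (2 * h)) * y then 1 else 0))) ∧
      ∀ y : ZMod (2 * h), y ≠ 0 → y ≠ (h : ZMod (2 * h)) →
        ∑ i, TameFourier.comb hζ (a i) y * ((i : IrrCharacter G) : G → ℂ) 1 = 0 := by
  obtain ⟨q, hq⟩ := F.pres.h_even
  replace hq : h = 2 * q := by omega
  have h2h := F.pres.two_le
  have hql : ¬ h ∣ q := fun hd => by
    have := Nat.le_of_dvd (by omega) hd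
    omega
  have hfull := F.full_rot hql
  obtain ⟨f, eR, -, S'⟩ := F.exists_setup (F.rot_ne_one hql) (F.J_not_mem_cls_rot hql) hfull
    (F.cP_rot hql)
  have S : Setup 2 M B P e (Subgroup.zpowers (σ ^ q)) (Subgroup.zpowers σ) f eR := S'
  letI := Fintype.ofFinite (IrrCharacter (CQ (Subgroup.zpowers (σ ^ q))))
  have hτQ : τ ∈ Subgroup.normalizer (Subgroup.zpowers (σ ^ q) : Set G) := by
    refine mem_normalizer_of_cjS_eq ?_
    rw [cjS_zpowers, F.pres.conjτ]
    have e : σ ^ (t * q) = (σ ^ q)⁻¹ := by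
      refine eq_inv_of_mul_eq_one_left ?_
      rw [← pow_add, F.pres.pow_eq_one, ← ZMod.natCast_eq_zero_iff]
      push_cast
      linear_combination TameFourier.t_quarter F.pres hq
    rw [e, Subgroup.zpowers_inv]
  have hτR : τ ∈ Subgroup.normalizer (Subgroup.zpowers σ : Set G) := by
    refine mem_normalizer_of_cjS_eq (Subgroup.eq_of_le_of_card_ge ?_ (card_cjS _ _).ge)
    rw [cjS_zpowers, F.pres.rel, Subgroup.zpowers_le]
    exact Subgroup.npow_mem_zpowers σ t
  obtain ⟨θ₀, hθ, ω, hωgen, hω1, hωv⟩ :=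
    S.exists_twist F.pres.memτ hτQ (Subgroup.mem_normalizer_iff.1 hτR)
  -- the elements
  set el : ℕ → (Subgroup.zpowers σ).subgroupOf (CQ (Subgroup.zpowers (σ ^ q))) := fun l =>
    ⟨⟨σ ^ l, S.cent (Subgroup.npow_mem_zpowers σ l)⟩, Subgroup.npow_mem_zpowers σ l⟩ with hel
  have hs : el 1 ^ (2 * h) = 1 := Subtype.ext (Subtype.ext (by
    show (σ ^ 1) ^ (2 * h) = 1
    rw [pow_one, F.pres.pow_eq_one]))
  have help : ∀ l, el 1 ^ l = el l := fun l => Subtype.ext (Subtype.ext (by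
    show (σ ^ 1) ^ l = σ ^ l
    rw [pow_one]))
  obtain ⟨c, hc⟩ := exists_comb hζ hωgen hs
  choose a ha using fun χ : IrrCharacter G => exists_comb hζ (S.gfun_gen hθ χ) hs
  simp only [help] at hc ha
  have hnd : ∀ y : ZMod (2 * h), y ≠ 0 → y ≠ (h : ZMod (2 * h)) → ¬ h ∣ y.val := by
    intro y h0 hh hd
    obtain ⟨r, hr⟩ := hd
    have := ZMod.val_lt y
    rcases (show r = 0 ∨ r = 1 by
      by_contra hcon
      have := Nat.mul_le_mul_left h (show 2 ≤ r by omega)
      omega) with rfl | rfl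
    · exact h0 ((ZMod.val_eq_zero y).1 (by rw [hr, mul_zero]))
    · exact hh (by rw [← ZMod.natCast_zmod_val y, hr, mul_one])
  have hcomb : ∀ χ (y : ZMod (2 * h)), TameFourier.comb hζ (a χ) y = S.gfun θ₀ χ (el y.val) := fun χ y => by
    rw [ha, ZMod.natCast_zmod_val]
  -- the twist
  have htw : ∀ χ (y : ZMod (2 * h)), y ≠ 0 → y ≠ (h : ZMod (2 * h)) →
      TameFourier.comb hζ (a χ) ((t : ZMod (2 * h)) * y) =
        TameFourier.comb hζ c y * TameFourier.comb hζ (a χ) y := by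
    intro χ y h0 hh
    rw [hcomb, hcomb]
    have hcy : TameFourier.comb hζ c y = ω (el y.val) := by rw [hc, ZMod.natCast_zmod_val]
    rw [hcy]
    refine hωv χ _ _ (F.quarter_mem_zpowers hq (hnd y h0 hh)) ?_
    show σ ^ ((t : ZMod (2 * h)) * y).val = τ * σ ^ y.val * τ⁻¹
    rw [F.pres.conjτ, F.pres.pow_congr, ZMod.natCast_zmod_val, Nat.cast_mul, ZMod.natCast_zmod_val]
  have hc1 : ∀ y, TameFourier.comb hζ c y * conj (TameFourier.comb hζ c y) = 1 := fun y => by
    rw [← ZMod.natCast_zmod_val y, ← hc]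
    exact hω1 _
  -- the products
  have hprod : ∀ (χ ψ : IrrCharacter G) (l : ℕ), ¬ h ∣ l →
      contrib 2 (lowPair F.hM F.hmax.1.1) χ ψ (F.rot l) =
        TameFourier.comb hζ (a χ) l * conj (TameFourier.comb hζ (a ψ) l) := by
    intro χ ψ l hl
    rw [← ha, ← ha, S.gfun_mul_conj hθ (y := el l) (F.quarter_mem_zpowers hq hl)]
    have htop : Subgroup.centralizer
        ({el l} : Set ((Subgroup.zpowers σ).subgroupOf (CQ (Subgroup.zpowers (σ ^ q))))) = ⊤ := by
      refine eq_top_iff.2 fun x _ => Subgroup.mem_centralizer_singleton_iff.2 (Subtype.ext (Subtype.ext ?_))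
      obtain ⟨i, hi⟩ := Subgroup.mem_zpowers_iff.1 x.2
      show ((x : CQ (Subgroup.zpowers (σ ^ q))) : G) * σ ^ l = σ ^ l * ((x : CQ (Subgroup.zpowers (σ ^ q))) : G)
      rw [show ((x : CQ (Subgroup.zpowers (σ ^ q))) : G) = σ ^ i from hi.symm]
      exact (((Commute.refl σ).zpow_left i).pow_right l).eq
    rw [htop, Subgroup.card_top,
      Nat.card_congr (Subgroup.subgroupOfEquivOfLe S.cent).toEquiv, Nat.card_zpowers, F.pres.orderσ,
      contrib, F.card_cent, F.card_cP_rot hl]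
    rfl
  -- the shift
  obtain ⟨χ₀, hχ₀, hχ0⟩ := exists_height_zero F.hM F.hmax.1.2.1
  obtain ⟨ν, a', hfix, hval⟩ := TameFourier.exists_shift hζ F.pres
    (fun i : ↥(Finset.univ.filter fun χ : IrrCharacter G => χ ∈ B) => a i)
    ⟨χ₀, Finset.mem_filter.2 ⟨Finset.mem_univ _, hχ₀⟩⟩ (fun q' hq' A B' e => by
      obtain rfl : q' = q := by omega
      obtain ⟨A1, B1, e1, -, e3, hi, -⟩ := TameFourier.exists_quarter hζ F.pres hq (a χ₀)
      obtain ⟨hA, hB⟩ := TameFourier.int_indep hi (a := A - A1) (b := B' - B1) (by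
        push_cast
        linear_combination e1 - e)
      have h1 := F.contrib_odd (F.full_rot hql) hχ₀ hχ0 (z := A1 * A1 + B1 * B1) (by
        rw [hprod _ _ _ hql, e3, e1]
        push_cast
        linear_combination (-(B1 : ℂ) * B1) * hi)
      rw [show A = A1 by omega, show B' = B1 by omega]
      rcases Int.even_or_odd' A1 with ⟨x, rfl | rfl⟩ <;> rcases Int.even_or_odd' B1 with ⟨y, rfl | rfl⟩ <;>
        ring_nf at h1 <;> omega) hc1 (fun i y => htw i y)
  refine ⟨a', hfix, fun i k l hl => ?_, ?_, ?_⟩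
  · have hu : TameFourier.chi hζ (ν * (l : ZMod (2 * h))) *
        conj (TameFourier.chi hζ (ν * (l : ZMod (2 * h)))) = 1 := by
      rw [TameFourier.conj_chi, ← AddChar.map_add_eq_mul, add_neg_cancel, AddChar.map_zero_eq_one]
    rw [hprod _ _ _ hl, hval, hval, map_mul (starRingEnd ℂ)]
    linear_combination (-(TameFourier.comb hζ (a i) l * conj (TameFourier.comb hζ (a k) l))) * hu
  · intro y y' hy0 hyh hy0' hyh'
    have hl := hnd y hy0 hyh
    have hl' := hnd y' hy0' hyh'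
    have hdiag : ∑ i, TameFourier.comb hζ (a' i) y * conj (TameFourier.comb hζ (a' i) y) = (2 * h : ℂ) := by
      rw [← F.sum_contrib_rot hl, ← Finset.sum_coe_sort (Finset.univ.filter fun χ : IrrCharacter G => χ ∈ B)]
      refine Finset.sum_congr rfl fun i _ => ?_
      rw [hprod _ _ _ hl, ZMod.natCast_zmod_val, hval, map_mul (starRingEnd ℂ)]
      have hu : TameFourier.chi hζ (ν * y) * conj (TameFourier.chi hζ (ν * y)) = 1 := by
        rw [TameFourier.conj_chi, ← AddChar.map_add_eq_mul, add_neg_cancel, AddChar.map_zero_eq_one]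
      linear_combination (TameFourier.comb hζ (a i) y * conj (TameFourier.comb hζ (a i) y)) * hu
    have hty : (t : ZMod (2 * h)) * y ≠ y := fun e => hl (F.pres.dvd_of_mul (by rwa [ZMod.natCast_zmod_val]))
    by_cases h1 : y' = y
    · rw [h1, hdiag, if_pos rfl, if_neg fun e => hty e.symm]
      ring
    by_cases h2 : y' = (t : ZMod (2 * h)) * y
    · rw [if_neg h1, if_pos h2, h2]
      have hinv : ∀ i, TameFourier.comb hζ (a' i) ((t : ZMod (2 * h)) * y) = TameFourier.comb hζ (a' i) y :=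
        fun i => by rw [← TameFourier.comb_mul_t hζ F.pres, funext (hfix i)]
      simp only [hinv, hdiag]
      ring
    rw [if_neg h1, if_neg h2, add_zero, mul_zero]
    obtain ⟨β, hβ⟩ := S.exists_beta (θ₀ := θ₀) (y := el y.val) (F.quarter_mem_zpowers hq hl)
    obtain ⟨β', hβ'⟩ := S.exists_beta (θ₀ := θ₀) (y := el y'.val) (F.quarter_mem_zpowers hq hl')
    have hne : F.rot y'.val ∉ fusClass F.hM F.hmax.1.1 (F.rot y.val) := by
      intro hm
      rcases F.fus_rot hl hm with e | e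
      · rw [F.pres.pow_congr, ZMod.natCast_zmod_val, ZMod.natCast_zmod_val] at e
        exact h1 e
      · rw [F.pres.pow_congr, Nat.cast_mul, ZMod.natCast_zmod_val, ZMod.natCast_zmod_val] at e
        exact h2 e
    have horth := sum_secPart_one_zero F.hM F.hmax hne
    rw [← Finset.sum_coe_sort (Finset.univ.filter fun χ : IrrCharacter G => χ ∈ B)] at horth
    have hβ2 : ∀ χ, S.gfun θ₀ χ (el y.val) =
        β * secPart χ (σ ^ y.val) (lowPair F.hM F.hmax.1.1 (F.rot y.val)) 1 := hβ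
    have hβ2' : ∀ χ, S.gfun θ₀ χ (el y'.val) =
        β' * secPart χ (σ ^ y'.val) (lowPair F.hM F.hmax.1.1 (F.rot y'.val)) 1 := hβ'
    simp only [hval, hcomb, hβ2, hβ2', map_mul (starRingEnd ℂ)]
    refine Eq.trans (Finset.sum_congr rfl fun i _ => ?_)
      ((Finset.mul_sum _ _ (TameFourier.chi hζ (ν * y) * β *
        (conj (TameFourier.chi hζ (ν * y')) * conj β'))).symm.trans (mul_eq_zero_of_right _ horth))
    show _ = _ * (secPart _ (σ ^ y.val) _ 1 * conj (secPart _ (σ ^ y'.val) _ 1))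
    ring
  · intro y hy0 hyh
    have hl := hnd y hy0 hyh
    obtain ⟨β, hβ⟩ := S.exists_beta (θ₀ := θ₀) (y := el y.val) (F.quarter_mem_zpowers hq hl)
    have horth := sum_secPart_degree F.hM F.hmax (F.rot_ne_one hl)
    rw [← Finset.sum_coe_sort (Finset.univ.filter fun χ : IrrCharacter G => χ ∈ B)] at horth
    have hβ2 : ∀ χ, S.gfun θ₀ χ (el y.val) =
        β * secPart χ (σ ^ y.val) (lowPair F.hM F.hmax.1.1 (F.rot y.val)) 1 := hβ
    simp only [hval, hcomb, hβ2]
    refine Eq.trans (Finset.sum_congr rfl fun i _ => ?_)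
      ((Finset.mul_sum _ _ (TameFourier.chi hζ (ν * y) * β)).symm.trans (mul_eq_zero_of_right _ horth))
    show _ = _ * (secPart _ (σ ^ y.val) _ 1 * _)
    ring

open scoped Classical in
/-- The integral vectors. -/
theorem exists_vectors {ζ : ℂ} (hζ : IsPrimitiveRoot ζ (2 * h)) :
    ∃ (n : ℕ) (wh : ↥(Finset.univ.filter fun χ : IrrCharacter G => χ ∈ B) → ℤ)
      (w u : Fin n → ↥(Finset.univ.filter fun χ : IrrCharacter G => χ ∈ B) → ℤ)
      (S : Finset ↥(Finset.univ.filter fun χ : IrrCharacter G => χ ∈ B)),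
      h = 2 * n + 2 ∧
      ((∀ i, TameConfig.rot h wh w u i i ≤ 4 * h - 2) → 4 ≤ h →
        TameConfig.Vecs h wh w u (fun i => (charDegree ((i : IrrCharacter G) : G → ℂ) : ℤ)) S) ∧
      S.card = 4 ∧ (∀ i, i ∈ S ↔ blockHeight 2 B ((i : IrrCharacter G) : G → ℂ) = 0) ∧
      (∀ i ∈ S, wh i = 1 ∨ wh i = -1) ∧ (∀ i ∉ S, wh i = 0) ∧
      (∑ i, wh i * (charDegree ((i : IrrCharacter G) : G → ℂ) : ℤ) = 0) ∧
      (∀ i k : ↥(Finset.univ.filter fun χ : IrrCharacter G => χ ∈ B), ∀ l : ℕ, ¬ h ∣ l →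
        contrib 2 (lowPair F.hM F.hmax.1.1) (i : IrrCharacter G) (k : IrrCharacter G) (F.rot l) =
          TameConfig.rotVal ζ h t wh w u i l * conj (TameConfig.rotVal ζ h t wh w u k l)) ∧
      ∀ i k : ↥(Finset.univ.filter fun χ : IrrCharacter G => χ ∈ B), ∑ l ∈ rotIdx h,
        contrib 2 (lowPair F.hM F.hmax.1.1) (i : IrrCharacter G) (k : IrrCharacter G) (F.rot l) =
          (TameConfig.rot h wh w u i k : ℂ) := by
  have h2h := F.pres.two_le
  haveI : NeZero (2 * h) := ⟨by omega⟩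
  obtain ⟨a, hfix, hprod, hG, hdeg⟩ := F.exists_combs hζ
  obtain ⟨n, hn⟩ : ∃ n, h = 2 * n + 2 := by
    obtain ⟨q, hq⟩ := F.pres.h_even
    exact ⟨q - 1, by omega⟩
  set wh : ↥(Finset.univ.filter fun χ : IrrCharacter G => χ ∈ B) → ℤ :=
    fun i => TameFourier.whOf (a i) with hwh
  set w : Fin n → ↥(Finset.univ.filter fun χ : IrrCharacter G => χ ∈ B) → ℤ :=
    fun j i => TameFourier.wOf (a i) j with hw
  set u : Fin n → ↥(Finset.univ.filter fun χ : IrrCharacter G => χ ∈ B) → ℤ :=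
    fun c i => TameFourier.uOf (a i) c with hu
  -- the representatives
  have hh0 : (h : ZMod (2 * h)) ≠ 0 := fun e0 => by
    rw [ZMod.natCast_eq_zero_iff] at e0
    have := Nat.le_of_dvd (by omega) e0
    omega
  have hhv : ((h : ℕ) : ZMod (2 * h)).val = h := by rw [ZMod.val_natCast, Nat.mod_eq_of_lt (by omega)]
  have hhE : ∀ j : Fin n, (h : ZMod (2 * h)) * TameFourier.xE h j = (h : ZMod (2 * h)) * 0 := fun j => by
    rw [mul_zero, TameFourier.xE, ← Nat.cast_mul, ZMod.natCast_eq_zero_iff]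
    exact ⟨(j : ℕ) + 1, by ring⟩
  have hhh : (h : ZMod (2 * h)) * (h : ZMod (2 * h)) = (h : ZMod (2 * h)) * 0 := by
    rw [mul_zero, TameFourier.h_half F.pres hn]
  have hhO : ∀ c : ℕ, (h : ZMod (2 * h)) * TameFourier.xO h c = (h : ZMod (2 * h)) * TameFourier.xO h 0 := by
    intro c
    rw [TameFourier.xO, TameFourier.xO, ← Nat.cast_mul, ← Nat.cast_mul, ZMod.natCast_eq_natCast_iff',
      show h * (4 * c + 1) = h * (4 * 0 + 1) + 2 * h * (2 * c) by ring, Nat.add_mul_mod_self_left]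
  have hv : ∀ {x z : ZMod (2 * h)}, x.val ≠ z.val → x ≠ z := fun hne e => hne (e ▸ rfl)
  have hz : (0 : ZMod (2 * h)).val = 0 := ZMod.val_zero
  have hth : (t : ZMod (2 * h)) * (h : ZMod (2 * h)) = h := TameFourier.t_half F.pres
  have nE0 : ∀ j : Fin n, TameFourier.xE h j ≠ 0 := fun j =>
    hv (by rw [TameFourier.val_xE hn, hz]; omega)
  have nEh : ∀ j : Fin n, TameFourier.xE h j ≠ (h : ZMod (2 * h)) := fun j =>
    hv (by rw [TameFourier.val_xE hn, hhv]; omega)
  have ntE : ∀ j k : Fin n, TameFourier.xE h j ≠ (t : ZMod (2 * h)) * TameFourier.xE h k := fun j k =>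
    hv (by
      rw [TameFourier.val_t_xE F.pres hn, TameFourier.val_xE hn]
      have := j.2; have := k.2; omega)
  have ntE0 : ∀ j : Fin n, (0 : ZMod (2 * h)) ≠ (t : ZMod (2 * h)) * TameFourier.xE h j := fun j e =>
    nE0 j (TameFourier.t_inj F.pres (e.symm.trans (mul_zero _).symm))
  have nOO : ∀ c c' : ℕ, c ≤ n → c' ≤ n → c ≠ c' → TameFourier.xO h c ≠ TameFourier.xO h c' :=
    fun c c' h1 h2 h3 => hv (by rw [TameFourier.val_xO hn h1, TameFourier.val_xO hn h2]; omega)
  have ntO : ∀ c c' : ℕ, c ≤ n → TameFourier.xO h c ≠ (t : ZMod (2 * h)) * TameFourier.xO h c' :=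
    fun c c' h1 => hv (by
      rw [TameFourier.val_xO hn h1]
      have := TameFourier.val_t_xO F.pres hn c'
      omega)
  have nO0 : ∀ c : ℕ, c ≤ n → TameFourier.xO h c ≠ 0 := fun c h1 =>
    hv (by rw [TameFourier.val_xO hn h1, hz]; omega)
  have nOh : ∀ c : ℕ, c ≤ n → TameFourier.xO h c ≠ (h : ZMod (2 * h)) := fun c h1 =>
    hv (by rw [TameFourier.val_xO hn h1, hhv]; omega)
  -- the Gram matrix
  have hgram : ∀ {x z x' z' : ZMod (2 * h)}, (h : ZMod (2 * h)) * x = (h : ZMod (2 * h)) * z →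
      (h : ZMod (2 * h)) * x' = (h : ZMod (2 * h)) * z' →
      ∑ i, (a i x - a i z) * (a i x' - a i z') =
      ((if x = x' then 1 else 0) + (if x = (t : ZMod (2 * h)) * x' then 1 else 0)) -
      ((if x = z' then 1 else 0) + (if x = (t : ZMod (2 * h)) * z' then 1 else 0)) -
      ((if z = x' then 1 else 0) + (if z = (t : ZMod (2 * h)) * x' then 1 else 0)) +
      ((if z = z' then 1 else 0) + (if z = (t : ZMod (2 * h)) * z' then 1 else 0)) :=
    fun hxz hxz' => TameFourier.gram hζ F.pres hn Finset.univ a hG hxz hxz'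
  have hhh' : ∑ i, wh i * wh i = 4 := by
    simp only [hwh, TameFourier.whOf]
    rw [hgram hhh hhh]
    simp [hh0, hh0.symm, hth]
  have hjj : ∀ j, ∑ i, w j i * w j i = 3 := fun j => by
    simp only [hw, TameFourier.wOf]
    rw [hgram (hhE j) (hhE j)]
    simp [nE0 j, (nE0 j).symm, ntE j j, ntE0 j]
  have hjk : ∀ j k, j ≠ k → ∑ i, w j i * w k i = 2 := fun j k hjk => by
    simp only [hw, TameFourier.wOf]
    rw [hgram (hhE j) (hhE k)]
    have : TameFourier.xE h j ≠ TameFourier.xE h k := hv (by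
      rw [TameFourier.val_xE hn, TameFourier.val_xE hn]
      exact fun e => hjk (Fin.ext (by omega)))
    simp [this, nE0 j, (nE0 k).symm, ntE j k, ntE0 k]
  have hjh : ∀ j, ∑ i, w j i * wh i = 2 := fun j => by
    simp only [hw, hwh, TameFourier.wOf, TameFourier.whOf]
    rw [hgram (hhE j) hhh]
    simp [nE0 j, nEh j, hh0.symm, hth]
  have hle : ∀ c : Fin n, (c : ℕ) + 1 ≤ n := fun c => c.2
  have hujj : ∀ c, ∑ i, u c i * u c i = 2 := fun c => by
    simp only [hu, TameFourier.uOf]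
    rw [hgram (hhO _) (hhO _)]
    simp [nOO _ _ (hle c) (Nat.zero_le n) (by omega), nOO _ _ (Nat.zero_le n) (hle c) (by omega),
      ntO _ _ (hle c), ntO _ _ (Nat.zero_le n)]
  have hujk : ∀ c c', c ≠ c' → ∑ i, u c i * u c' i = 1 := fun c c' hcc => by
    simp only [hu, TameFourier.uOf]
    rw [hgram (hhO _) (hhO _)]
    simp [nOO _ _ (hle c) (hle c') (fun e => hcc (Fin.ext (by omega))),
      nOO _ _ (hle c) (Nat.zero_le n) (by omega), nOO _ _ (Nat.zero_le n) (hle c') (by omega),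
      ntO _ _ (hle c), ntO _ _ (Nat.zero_le n)]
  have huh : ∀ c, ∑ i, u c i * wh i = 0 := fun c => by
    simp only [hu, hwh, TameFourier.uOf, TameFourier.whOf]
    rw [hgram (hhO _) hhh]
    simp [nO0 _ (hle c), nOh _ (hle c), nO0 _ (Nat.zero_le n), nOh _ (Nat.zero_le n), hth]
  -- the degrees
  have hdiff : ∀ x z : ZMod (2 * h), (h : ZMod (2 * h)) * x = (h : ZMod (2 * h)) * z →
      ∑ i, (a i x - a i z) * (charDegree ((i : IrrCharacter G) : G → ℂ) : ℤ) = 0 := by
    intro x z hxz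
    refine Int.cast_injective (α := ℂ) (mul_left_cancel₀
      (show (2 * h : ℂ) ≠ 0 by exact_mod_cast NeZero.ne (2 * h)) ?_)
    push_cast
    rw [mul_zero, Finset.mul_sum, Finset.sum_congr rfl fun i _ => by
      rw [← mul_assoc, mul_sub, ← TameFourier.inversion hζ (a i) x, ← TameFourier.inversion hζ (a i) z,
        ← Finset.sum_sub_distrib, ← (charDegree_eq (i : IrrCharacter G)).1, Finset.sum_mul], Finset.sum_comm]
    refine Finset.sum_eq_zero fun y _ => ?_
    by_cases hy : y = 0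
    · subst hy; simp
    by_cases hy' : y = (h : ZMod (2 * h))
    · subst hy'
      simp [mul_comm x, mul_comm z, hxz]
    rw [Finset.sum_congr rfl (g := fun i => (TameFourier.chi hζ (-(x * y)) - TameFourier.chi hζ (-(z * y))) *
      (TameFourier.comb hζ (a i) y * ((i : IrrCharacter G) : G → ℂ) 1)) fun i _ => by ring, ← Finset.mul_sum,
      hdeg y hy hy', mul_zero]
  -- the values
  have hrv : ∀ i (l : ℕ), ¬ h ∣ l → TameFourier.comb hζ (a i) l = TameConfig.rotVal ζ h t wh w u i l := by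
    intro i l hl
    rw [TameFourier.expansion hζ F.pres hn (hfix i) (fun e => hl ?_) (fun e => hl ?_)]
    · simp only [TameFourier.xE, TameFourier.xO, ← Nat.cast_mul, TameFourier.chi_nat, TameConfig.rotVal,
        hwh, hw, hu]
    · rw [ZMod.natCast_eq_zero_iff] at e
      exact (dvd_mul_left h 2).trans e
    · rw [ZMod.natCast_eq_natCast_iff', Nat.mod_eq_of_lt (show h < 2 * h by omega)] at e
      exact (Nat.dvd_mod_iff (dvd_mul_left h 2)).1 (e.symm ▸ dvd_refl h)
  have hrot : ∀ i k : ↥(Finset.univ.filter fun χ : IrrCharacter G => χ ∈ B), ∑ l ∈ rotIdx h,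
      contrib 2 (lowPair F.hM F.hmax.1.1) (i : IrrCharacter G) (k : IrrCharacter G) (F.rot l) =
        (TameConfig.rot h wh w u i k : ℂ) := by
    intro i k
    rw [TameConfig.rot, TameConfig.rotEven, TameConfig.rotOdd]
    simp only [hwh, hw, hu]
    rw [← TameFourier.rot_eq hζ F.pres hn (hfix i) (hfix k)]
    refine Finset.sum_bij (fun l _ => (l : ZMod (2 * h))) (fun l hl => ?_) (fun l hl l' hl' e => ?_)
      (fun y hy => ?_) fun l hl => hprod i k l (Finset.mem_filter.1 hl).2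
    · obtain ⟨h1, h2⟩ := Finset.mem_filter.1 hl
      rw [Finset.mem_range] at h1
      refine Finset.mem_erase.2 ⟨fun e => h2 ?_, Finset.mem_erase.2 ⟨fun e => h2 ?_, Finset.mem_univ _⟩⟩
      · rw [ZMod.natCast_eq_natCast_iff', Nat.mod_eq_of_lt h1, Nat.mod_eq_of_lt (by omega)] at e
        rw [e]
      · rw [ZMod.natCast_eq_zero_iff] at e
        exact (dvd_mul_left h 2).trans e
    · rw [ZMod.natCast_eq_natCast_iff', Nat.mod_eq_of_lt (Finset.mem_range.1 (Finset.mem_filter.1 hl).1),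
        Nat.mod_eq_of_lt (Finset.mem_range.1 (Finset.mem_filter.1 hl').1)] at e
      exact e
    · simp only [Finset.mem_erase, Finset.mem_univ, and_true] at hy
      refine ⟨y.val, Finset.mem_filter.2 ⟨Finset.mem_range.2 (ZMod.val_lt y), fun hd => ?_⟩,
        ZMod.natCast_zmod_val y⟩
      obtain ⟨r, hr⟩ := hd
      have := ZMod.val_lt y
      rcases (show r = 0 ∨ r = 1 by
        by_contra hcon
        have := Nat.mul_le_mul_left h (show 2 ≤ r by omega)
        omega) with rfl | rfl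
      · exact hy.2 ((ZMod.val_eq_zero y).1 (by rw [hr, mul_zero]))
      · exact hy.1 (by rw [← ZMod.natCast_zmod_val y, hr, mul_one])
  -- the heights
  set T : Finset ↥(Finset.univ.filter fun χ : IrrCharacter G => χ ∈ B) :=
    Finset.univ.filter fun i => blockHeight 2 B ((i : IrrCharacter G) : G → ℂ) = 0 with hT
  have hTc : 4 ≤ T.card := by
    refine le_trans F.four_le_heightZero (le_of_eq ?_)
    rw [← Fintype.card_subtype, hT, ← Fintype.card_subtype]
    exact Fintype.card_congr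
      { toFun := fun x => ⟨⟨x.1, Finset.mem_filter.mpr ⟨Finset.mem_univ _, x.2.1⟩⟩, x.2.2⟩
        invFun := fun x => ⟨x.1.1, (Finset.mem_filter.mp x.1.2).2, x.2⟩
        left_inv := fun _ => rfl
        right_inv := fun _ => rfl }
  have hTo : ∀ i ∈ T, wh i % 2 = 1 := by
    intro i hi
    have hql : ¬ h ∣ n + 1 := fun hd => by
      have := Nat.le_of_dvd (by omega) hd
      omega
    have h1 := F.contrib_odd (F.full_rot hql) (Finset.mem_filter.1 i.2).2 (Finset.mem_filter.1 hi).2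
      (z := ((-1) ^ (n + 1) * wh i + 2 * ∑ j : Fin n, (-1) ^ ((j : ℕ) + 1) * w j i) ^ 2) (by
      rw [hprod i i _ hql, TameFourier.quarter_value hζ F.pres hn (hfix i), map_intCast]
      simp only [hwh, hw]
      push_cast
      ring)
    generalize ∑ j : Fin n, (-1 : ℤ) ^ ((j : ℕ) + 1) * w j i = S' at h1
    rcases Int.even_or_odd' (wh i) with ⟨x, e | e⟩
    · rw [e] at h1
      rcases neg_one_pow_eq_or ℤ (n + 1) with e' | e' <;> rw [e'] at h1 <;> ring_nf at h1 <;> omega
    · omega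
  have hT1 : ∀ i ∈ T, 1 ≤ wh i * wh i := fun i hi => by
    have : wh i ≠ 0 := fun e => by have := hTo i hi; omega
    have := mul_self_pos.2 this
    omega
  have hsumT : ∑ i ∈ T, wh i * wh i + ∑ i ∈ Tᶜ, wh i * wh i = 4 := by
    rw [Finset.sum_add_sum_compl, hhh']
  have hTle : (T.card : ℤ) ≤ ∑ i ∈ T, wh i * wh i := by
    have := Finset.sum_le_sum hT1
    simpa using this
  have hTn : 0 ≤ ∑ i ∈ Tᶜ, wh i * wh i := Finset.sum_nonneg fun i _ => mul_self_nonneg _
  have hT4 : T.card = 4 := by omega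
  have hTz : ∀ i ∉ T, wh i = 0 := fun i hi => by
    have h1 := Finset.single_le_sum (fun k _ => mul_self_nonneg (wh k)) (Finset.mem_compl.2 hi)
    exact mul_self_eq_zero.1 (le_antisymm (by omega) (mul_self_nonneg _))
  have hTu : ∀ i ∈ T, wh i = 1 ∨ wh i = -1 := fun i hi => by
    rcases lt_or_eq_of_le (hT1 i hi) with h1 | h1
    · exfalso
      have h2 := Finset.sum_lt_sum hT1 ⟨i, hi, h1⟩
      simp only [Finset.sum_const, nsmul_eq_mul, mul_one] at h2
      omega
    · exact mul_self_eq_one_iff.1 h1.symm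
  refine ⟨n, wh, w, u, T, hn, fun hb h4 => ?_, hT4, fun i => by simp [hT],
    hTu, hTz, hdiff _ _ hhh, fun i k l hl => by rw [hprod i k l hl, hrv i l hl, hrv k l hl], hrot⟩
  refine ⟨hn, ?_, fun i => by exact_mod_cast Nat.pos_of_ne_zero (charDegree_eq _).2, hT4, hTu, hTz, hjj,
    hjk, hjh, hdiff _ _ hhh, fun j => hdiff _ _ (hhE j), hujj, hujk, fun c => hdiff _ _ (hhO _), huh, hb,
    fun i k hik hi => ?_⟩
  · have := F.pres.four_dvd_of_four_le h4
    exact Nat.odd_iff.2 (by omega)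
  · have hik' : charDegree ((i : IrrCharacter G) : G → ℂ) = charDegree ((k : IrrCharacter G) : G → ℂ) :=
      Int.natCast_inj.1 hik
    simp only [hT, Finset.mem_filter, Finset.mem_univ, true_and] at hi ⊢
    rw [← hi]
    simp only [blockHeight, hik']

end TFrame

end CfsgLib.Block.Tame
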