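import Cfsg.Agent.Lib.Block.Tame.TameExclude
import Cfsg.Agent.Lib.Block.Tame.TameExtra
import Cfsg.Agent.Lib.Block.Tame.TameEdge

/-!
# 2-blocks with quaternion or semidihedral defect group: the members

The members are four of height zero, `h - 1` of height one and `e` further ones of height `k`
(`h = 2 ^ k`); the contributions at `1` and at the central involution satisfy `TameConfig.Rows`
(`TFrame.exists_rows`).
-/

open Finset MonoidAlgebra
open scoped ComplexConjugate

set_option autoImplicit false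
set_option linter.unusedSectionVars false

namespace CfsgLib.Block.Tame

open Cfsg CfsgLib CfsgLib.Block CfsgLib.Block.CyclicDefect
open scoped Pair

universe u

variable {M : Ideal AlgInt} [M.IsMaximal] {G : Type u} [Group G] [Fintype G] [DecidableEq G]
  [Fintype (IrrCharacter G)] {B : Set (IrrCharacter G)} {P : Subgroup G}
  {e : Set (IrrCharacter (CQ P))}

open scoped Classical in
/-- The properties of a central matrix on the members. -/
theorem edge_of_central {h k r : ℕ} (hk : h = 2 ^ k) {A : IrrCharacter G → IrrCharacter G → ℤ}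
    (hA : CentralMatrix 2 B (4 * h) r A)
    (S U : Finset ↥(Finset.univ.filter fun χ : IrrCharacter G => χ ∈ B))
    (hS : ∀ i : ↥(Finset.univ.filter fun χ : IrrCharacter G => χ ∈ B), i ∈ S ↔ blockHeight 2 B ((i : IrrCharacter G) : G → ℂ) = 0)
    (hdisj : ∀ i ∈ U, i ∉ S)
    (hU : ∀ i ∈ U, blockHeight 2 B ((i : IrrCharacter G) : G → ℂ) = 1 ∧ A i i = 4)
    (hX : ∀ i ∉ S ∪ U, blockHeight 2 B ((i : IrrCharacter G) : G → ℂ) = k ∧ A i i = 2 * h) :
    TameConfig.Edge h (fun i j : ↥(Finset.univ.filter fun χ : IrrCharacter G => χ ∈ B) =>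
      A (i : IrrCharacter G) (j : IrrCharacter G)) S U := by
  have hmem : ∀ i : ↥(Finset.univ.filter fun χ : IrrCharacter G => χ ∈ B), (i : IrrCharacter G) ∈ B :=
    fun i => (Finset.mem_filter.mp i.2).2
  have hne : ∀ a ∈ S, ∀ i : ↥(Finset.univ.filter fun χ : IrrCharacter G => χ ∈ B), ¬ (2 : ℤ) ^ (blockHeight 2 B ((i : IrrCharacter G) : G → ℂ) + 1) ∣
      A (i : IrrCharacter G) (a : IrrCharacter G) := fun a ha i hd => by
    have h1 := (hA.dvd_succ _ (hmem i) _ (hmem a)).1 hd
    have := (hS a).1 ha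
    omega
  refine ⟨fun i j => hA.symm _ _, fun i => ?_, fun i => hA.pos _ (hmem i), fun a ha i hi => ?_,
    fun a ha i hi => ?_, fun a ha i hi => ?_, fun i hi => (hU i hi).2, fun i hi => (hX i hi).2⟩
  · have h1 := hA.sq _ (hmem i)
    rw [Finset.sum_coe_sort (Finset.univ.filter fun χ : IrrCharacter G => χ ∈ B)
      (fun χ => A (i : IrrCharacter G) χ * A (i : IrrCharacter G) χ)]
    push_cast at h1 ⊢
    convert h1 using 2
  · have h1 := hne i hi a
    rw [(hS a).1 ha, zero_add, pow_one] at h1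
    show A (a : IrrCharacter G) i % 2 = 1
    omega
  · show (4 : ℤ) ≤ A (a : IrrCharacter G) i * A (a : IrrCharacter G) i
    rw [hA.symm (a : IrrCharacter G) i]
    have h1 := hne a ha i
    have h2 := hA.dvd _ (hmem i) _ (hmem a)
    rw [(hU i hi).1] at h1 h2
    obtain ⟨c, hc⟩ := h2
    rw [hc] at h1 ⊢
    have h0 : c ≠ 0 := fun e0 => h1 (by rw [e0, mul_zero]; exact dvd_zero _)
    nlinarith [mul_self_pos.2 h0]
  · show (h : ℤ) * h ≤ A (a : IrrCharacter G) i * A (a : IrrCharacter G) i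
    rw [hA.symm (a : IrrCharacter G) i]
    have h1 := hne a ha i
    have h2 := hA.dvd _ (hmem i) _ (hmem a)
    rw [(hX i hi).1] at h1 h2
    obtain ⟨c, hc⟩ := h2
    rw [hc] at h1 ⊢
    have h0 : c ≠ 0 := fun e0 => h1 (by rw [e0, mul_zero]; exact dvd_zero _)
    have h3 := mul_self_pos.2 h0
    rw [hk]
    push_cast
    nlinarith [mul_self_nonneg ((2 : ℤ) ^ k)]

namespace TFrame

variable {σ τ : G} {h t : ℕ} (F : TFrame M B P e σ τ h t)
include F

open scoped Classical in
/-- The common value of the contributions on a class avoiding the rotations. -/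
noncomputable def clsVal (χ ψ : IrrCharacter G) (K : Finset P) : ℂ :=
  if hK : ∃ y, y ∈ F.free ∧ F.cls y = K then contrib 2 (lowPair F.hM F.hmax.1.1) χ ψ hK.choose else 0

theorem contrib_eq_clsVal {χ ψ : IrrCharacter G} {y : P} (hy : y ∈ F.free) :
    contrib 2 (lowPair F.hM F.hmax.1.1) χ ψ y = F.clsVal χ ψ (F.cls y) := by
  have hex : ∃ z, z ∈ F.free ∧ F.cls z = F.cls y := ⟨y, hy, rfl⟩
  rw [clsVal, dif_pos hex]
  obtain ⟨h1, h2⟩ := hex.choose_spec
  obtain ⟨i, hi⟩ := F.free_out hy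
  obtain ⟨j, hj⟩ := F.free_out h1
  have hm : hex.choose ∈ F.cls y := Eq.mp (congrArg (hex.choose ∈ ·) h2) (F.self_mem_cls _)
  have hn := F.nrm_eq hm χ ψ
  simp only [contrib, mul_div_assoc, hn, F.card_cent]
  rw [show Nat.card (cenIn y) = 4 by rw [hi]; exact F.card_cP_out i,
    show Nat.card (cenIn hex.choose) = 4 by rw [hj]; exact F.card_cP_out j]

theorem sum_clsVal_self {χ : IrrCharacter G} (hχ : χ ∈ B) :
    ∑ K ∈ F.outCls, F.clsVal χ χ K =
      ((if blockHeight 2 B (χ : G → ℂ) = 0 then F.outCls.card else 0 : ℕ) : ℂ) := by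
  classical
  have h1 : ∀ K ∈ F.outCls, F.clsVal χ χ K = if blockHeight 2 B (χ : G → ℂ) = 0 then 1 else 0 := by
    intro K hK
    simp only [outCls, Finset.mem_image] at hK
    obtain ⟨y, hy, rfl⟩ := hK
    rw [← F.contrib_eq_clsVal hy, (F.contrib_free (ψ := χ) hy hχ).1]
  rw [Finset.sum_congr rfl h1, Finset.sum_const, nsmul_eq_mul]
  split_ifs <;> simp

theorem sum_clsVal_zero {χ ψ : IrrCharacter G} (hψ : ψ ∈ B) (h0 : blockHeight 2 B (ψ : G → ℂ) ≠ 0) :
    ∑ K ∈ F.outCls, F.clsVal χ ψ K = 0 := by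
  classical
  refine Finset.sum_eq_zero fun K hK => ?_
  simp only [outCls, Finset.mem_image] at hK
  obtain ⟨y, hy, rfl⟩ := hK
  rw [← F.contrib_eq_clsVal hy]
  exact ((F.contrib_free (ψ := χ) hy hψ).2 h0).2

open scoped Classical in
/-- The members of the block and the two matrices. -/
theorem exists_rows {k : ℕ} (hk : h = 2 ^ k) :
    ∃ (r : ℕ) (R A A' : ↥(Finset.univ.filter fun χ : IrrCharacter G => χ ∈ B) →
        ↥(Finset.univ.filter fun χ : IrrCharacter G => χ ∈ B) → ℤ)
      (S Ue Uo : Finset ↥(Finset.univ.filter fun χ : IrrCharacter G => χ ∈ B)),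
      TameConfig.Rows h (blockRank 2 B) (blockRank 2 (lowPair F.hM F.hmax.1.1 (F.rot h)).2)
        F.outCls.card r R A A' S Ue Uo ∧
      (∀ i j : ↥(Finset.univ.filter fun χ : IrrCharacter G => χ ∈ B),
        contrib 2 (lowPair F.hM F.hmax.1.1) (i : IrrCharacter G) (j : IrrCharacter G) 1 = (A i j : ℂ)) ∧
      (∀ i j : ↥(Finset.univ.filter fun χ : IrrCharacter G => χ ∈ B),
        contrib 2 (lowPair F.hM F.hmax.1.1) (i : IrrCharacter G) (j : IrrCharacter G) (F.rot h) =
        (A' i j : ℂ)) ∧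
      (∀ i : ↥(Finset.univ.filter fun χ : IrrCharacter G => χ ∈ B),
        i ∈ S ↔ blockHeight 2 B ((i : IrrCharacter G) : G → ℂ) = 0) ∧
      (∀ i : ↥(Finset.univ.filter fun χ : IrrCharacter G => χ ∈ B),
        i ∈ Ue ∪ Uo → blockHeight 2 B ((i : IrrCharacter G) : G → ℂ) = 1) ∧
      ∀ i : ↥(Finset.univ.filter fun χ : IrrCharacter G => χ ∈ B),
        i ∉ S ∪ (Ue ∪ Uo) → blockHeight 2 B ((i : IrrCharacter G) : G → ℂ) = k := by
  have h2h := F.pres.two_le
  have hP : Nat.card P = 4 * h := F.pres.card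
  obtain ⟨A₁, hA₁, hA₁c⟩ := exists_central_matrix F.hM F.hmax F.one_center (by simp)
  obtain ⟨AJ, hAJ, hAJc⟩ := exists_central_matrix F.hM F.hmax F.J_center F.pres.sigma_h_sq
  rw [hP] at hA₁ hAJ
  obtain ⟨ζ, hζ⟩ : ∃ ζ : ℂ, IsPrimitiveRoot ζ (2 * h) := ⟨_, Complex.isPrimitiveRoot_exp (2 * h) (by omega)⟩
  obtain ⟨n, wh, w, u, S, hn, hVecs, hS4, hS, hunit, hzero, -, hcon, hrot⟩ := F.exists_vectors hζ
  set R : ↥(Finset.univ.filter fun χ : IrrCharacter G => χ ∈ B) →
      ↥(Finset.univ.filter fun χ : IrrCharacter G => χ ∈ B) → ℤ :=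
    fun i j => TameConfig.rot h wh w u i j with hR
  have hmem : ∀ i : ↥(Finset.univ.filter fun χ : IrrCharacter G => χ ∈ B), (i : IrrCharacter G) ∈ B :=
    fun i => (Finset.mem_filter.mp i.2).2
  set m := F.outCls.card with hm
  -- the identities
  have hid : ∀ i j : ↥(Finset.univ.filter fun χ : IrrCharacter G => χ ∈ B),
      (A₁ i j : ℂ) + (AJ i j : ℂ) + (R i j : ℂ) +
        (h : ℂ) * ∑ K ∈ F.outCls, F.clsVal (i : IrrCharacter G) (j : IrrCharacter G) K =
      (4 * h : ℂ) * if i = j then 1 else 0 := by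
    intro i j
    have h1 := F.contrib_identity (hmem i) (hmem j) (F.clsVal (i : IrrCharacter G) (j : IrrCharacter G))
      fun y hy => F.contrib_eq_clsVal hy
    rw [hA₁c, hAJc, hrot i j] at h1
    rw [h1]
    simp only [Subtype.coe_inj]
  have hdiag : ∀ i : ↥(Finset.univ.filter fun χ : IrrCharacter G => χ ∈ B),
      A₁ (i : IrrCharacter G) i + AJ (i : IrrCharacter G) i + R i i +
      (h : ℤ) * (if i ∈ S then (m : ℤ) else 0) = 4 * h := by
    intro i
    have h1 := hid i i
    rw [F.sum_clsVal_self (hmem i), if_pos rfl, mul_one] at h1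
    refine Int.cast_injective (α := ℂ) ?_
    push_cast [apply_ite (Int.cast : ℤ → ℂ)]
    rw [← h1]
    simp only [hS i]
    split_ifs <;> simp [hm]
  have hoff : ∀ i j : ↥(Finset.univ.filter fun χ : IrrCharacter G => χ ∈ B), i ≠ j → (m = 0 ∨ j ∉ S) →
      A₁ (i : IrrCharacter G) j + AJ (i : IrrCharacter G) j + R i j = 0 := by
    intro i j hij hor
    have h1 := hid i j
    rw [if_neg hij, mul_zero, show ∑ K ∈ F.outCls, F.clsVal (i : IrrCharacter G) (j : IrrCharacter G) K = 0 from ?_,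
      mul_zero, add_zero] at h1
    · exact_mod_cast h1
    · rcases hor with h0 | h0
      · rw [Finset.card_eq_zero.1 (hm.symm.trans h0), Finset.sum_empty]
      · exact F.sum_clsVal_zero (hmem j) fun e0 => h0 ((hS j).2 e0)
  have hpos : ∀ i : ↥(Finset.univ.filter fun χ : IrrCharacter G => χ ∈ B),
      0 < A₁ (i : IrrCharacter G) i ∧ 0 < AJ (i : IrrCharacter G) i := fun i =>
    ⟨hA₁.pos _ (hmem i), hAJ.pos _ (hmem i)⟩
  have hbound : ∀ i : ↥(Finset.univ.filter fun χ : IrrCharacter G => χ ∈ B), TameConfig.rot h wh w u i i ≤ 4 * h - 2 := by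
    intro i
    have h1 := hdiag i
    have h2 := hpos i
    have h3 : 0 ≤ (h : ℤ) * (if i ∈ S then (m : ℤ) else 0) :=
      mul_nonneg (Int.natCast_nonneg _) (by split_ifs <;> omega)
    simp only [hR] at h1
    omega
  -- the shape
  obtain ⟨Ue, Uo, hshape⟩ : ∃ Ue Uo, TameConfig.Shape h R S Ue Uo := by
    by_cases h4 : 4 ≤ h
    · have V := hVecs hbound h4
      rcases V.cases with ⟨S', Ue, Uo, rfl, hsh⟩ | hexc | hexc
      · exact ⟨Ue, Uo, hsh⟩
      · exact (F.not_excFour hn hζ wh w u S (fun i hi => (hS i).1 hi) hunit hzero hcon hexc).elim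
      · exact (F.not_excEight hn hζ wh w u (fun i hi => (hS i).1 (by_contra fun h0 => hi (hzero i h0)))
          hcon hexc).elim
    · obtain rfl : n = 0 := by omega
      obtain rfl : h = 2 := by omega
      have hRv : ∀ i j, R i j = 2 * (wh i * wh j) := fun i j => by
        simp only [hR, TameConfig.rot, TameConfig.rotEven, TameConfig.rotOdd, Finset.univ_eq_empty,
          Finset.sum_empty]
        push_cast; ring
      have hsq : ∀ i ∈ S, wh i * wh i = 1 := fun i hi => by
        rcases hunit i hi with e0 | e0 <;> simp [e0]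
      obtain ⟨r₀, hr₀⟩ : ∃ r₀, r₀ ∉ S := by
        by_contra hall
        push Not at hall
        obtain ⟨a, ha⟩ := Finset.card_pos.1 (show 0 < S.card by omega)
        have h1 := hAJ.sq _ (hmem a)
        rw [← Finset.sum_coe_sort (Finset.univ.filter fun χ : IrrCharacter G => χ ∈ B)] at h1
        rw [show (Finset.univ : Finset ↥(Finset.univ.filter fun χ : IrrCharacter G => χ ∈ B)) = S from
          (Finset.eq_univ_of_forall hall).symm, ← Finset.add_sum_erase S _ ha] at h1
        have hodd : ∀ i ∈ S, AJ (a : IrrCharacter G) i % 2 = 1 := fun i hi => by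
          by_contra hev
          have h2 : (2 : ℤ) ^ (blockHeight 2 B ((a : IrrCharacter G) : G → ℂ) + 1) ∣ AJ (a : IrrCharacter G) i := by
            rw [(hS a).1 ha, zero_add, pow_one]; omega
          have := (hAJ.dvd_succ _ (hmem a) _ (hmem i)).1 h2
          have := (hS i).1 hi
          omega
        have h8 : ∀ i ∈ S, (AJ (a : IrrCharacter G) i * AJ (a : IrrCharacter G) i) % 8 = 1 := fun i hi => by
          obtain ⟨c, hc⟩ : ∃ c, AJ (a : IrrCharacter G) i = 2 * c + 1 := ⟨AJ (a : IrrCharacter G) i / 2, by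
            have := hodd i hi; omega⟩
          obtain ⟨d, hd⟩ := Int.even_mul_succ_self c
          rw [hc, show (2 * c + 1) * (2 * c + 1) = 1 + 8 * d by linear_combination 4 * hd, Int.add_mul_emod_self_left]
          rfl
        have h9 : (∑ i ∈ S.erase a, AJ (a : IrrCharacter G) i * AJ (a : IrrCharacter G) i) % 8 = 3 := by
          rw [Finset.sum_int_mod, Finset.sum_congr rfl fun i hi => h8 i (Finset.mem_of_mem_erase hi),
            Finset.sum_const, Finset.card_erase_of_mem ha, hS4]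
          rfl
        have h10 := h8 a ha
        obtain ⟨c, hc⟩ : ∃ c, AJ (a : IrrCharacter G) a = 2 * c + 1 := ⟨AJ (a : IrrCharacter G) a / 2, by
          have := hodd a ha; omega⟩
        push_cast at h1
        omega
      have hRz : ∀ i ∉ S, ∀ j, R i j = 0 := fun i hi j => by rw [hRv, hzero i hi]; ring
      refine ⟨∅, {r₀}, hS4, ?_, by simp, by simp, by simp, fun a ha => ?_, fun i hi => ?_,
        fun i hi => ?_, fun a ha i hi => ?_, fun a ha => ?_⟩
      · simpa using hr₀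
      · rw [hRv, hsq a ha]; rfl
      · simp only [Finset.empty_union, Finset.mem_singleton] at hi
        rw [hRz i (hi ▸ hr₀)]; rfl
      · exact hRz i (fun h' => hi (Finset.mem_union_left _ h')) i
      · rw [Finset.union_empty] at hi
        rw [hRv]
        rcases hunit a ha with e0 | e0 <;> rcases hunit i (Finset.mem_of_mem_erase hi) with e1 | e1 <;>
          rw [e0, e1] <;> norm_num
      · rw [Finset.union_empty, Finset.sum_congr rfl (g := fun _ => (4 : ℤ)) fun i hi => ?_, Finset.sum_const,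
          Finset.card_erase_of_mem ha, hS4]
        · rfl
        · rw [hRv]
          linear_combination (4 * (wh i * wh i)) * hsq a ha + 4 * hsq i (Finset.mem_of_mem_erase hi)
  -- the heights and the diagonals
  have hnotS : ∀ i ∈ Ue ∪ Uo, i ∉ S := fun i hi => Finset.disjoint_right.1 hshape.disjS hi
  have hdvd : ∀ i : ↥(Finset.univ.filter fun χ : IrrCharacter G => χ ∈ B), i ∉ S → (2 : ℤ) ^ (blockHeight 2 B ((i : IrrCharacter G) : G → ℂ) + 1) ∣ A₁ (i : IrrCharacter G) i ∧
      (2 : ℤ) ^ (blockHeight 2 B ((i : IrrCharacter G) : G → ℂ) + 1) ∣ AJ (i : IrrCharacter G) i := by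
    intro i hi
    have h0 : 0 < blockHeight 2 B ((i : IrrCharacter G) : G → ℂ) :=
      Nat.pos_of_ne_zero fun e0 => hi ((hS i).2 e0)
    exact ⟨(hA₁.dvd_succ _ (hmem i) _ (hmem i)).2 h0, (hAJ.dvd_succ _ (hmem i) _ (hmem i)).2 h0⟩
  have hdiag' : ∀ i : ↥(Finset.univ.filter fun χ : IrrCharacter G => χ ∈ B), i ∉ S → A₁ (i : IrrCharacter G) i + AJ (i : IrrCharacter G) i = 4 * h - R i i := fun i hi => by
    have h1 := hdiag i
    rw [if_neg hi, mul_zero, add_zero] at h1
    linarith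
  -- two multiples of `2 ^ (j + 1)` summing to `2 ^ (c + 1)`
  have hsplit : ∀ {j c : ℕ} {x y : ℤ}, (2 : ℤ) ^ (j + 1) ∣ x → (2 : ℤ) ^ (j + 1) ∣ y → 0 < x → 0 < y →
      x + y = 2 ^ (c + 2) → c ≤ j → j = c ∧ x = 2 ^ (c + 1) ∧ y = 2 ^ (c + 1) := by
    intro j c x y hx hy hx0 hy0 hxy hcj
    have h1 : (2 : ℤ) ^ (j + 1) ≤ x := Int.le_of_dvd hx0 hx
    have h2 : (2 : ℤ) ^ (j + 1) ≤ y := Int.le_of_dvd hy0 hy
    have h3 : (2 : ℤ) ^ (c + 1) ≤ 2 ^ (j + 1) := pow_le_pow_right₀ (by norm_num) (by omega)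
    have h4 : (2 : ℤ) ^ (c + 2) = 2 * 2 ^ (c + 1) := by ring
    refine ⟨?_, by omega, by omega⟩
    by_contra hne
    have h5 : (2 : ℤ) ^ (c + 2) ≤ 2 ^ (j + 1) := pow_le_pow_right₀ (by norm_num) (by omega)
    omega
  have hU : ∀ i : ↥(Finset.univ.filter fun χ : IrrCharacter G => χ ∈ B), i ∈ Ue ∪ Uo → blockHeight 2 B ((i : IrrCharacter G) : G → ℂ) = 1 ∧
      A₁ (i : IrrCharacter G) i = 4 ∧ AJ (i : IrrCharacter G) i = 4 := by
    intro i hi
    obtain ⟨d1, d2⟩ := hdvd i (hnotS i hi)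
    have h1 := hdiag' i (hnotS i hi)
    rw [hshape.rotU i hi] at h1
    obtain ⟨q1, q2, q3⟩ := hsplit d1 d2 (hpos i).1 (hpos i).2 (c := 1) (by rw [h1]; ring)
      (Nat.pos_of_ne_zero fun e0 => hnotS i hi ((hS i).2 e0))
    exact ⟨q1, by rw [q2]; rfl, by rw [q3]; rfl⟩
  have hX : ∀ i : ↥(Finset.univ.filter fun χ : IrrCharacter G => χ ∈ B), i ∉ S ∪ (Ue ∪ Uo) → blockHeight 2 B ((i : IrrCharacter G) : G → ℂ) = k ∧
      A₁ (i : IrrCharacter G) i = 2 * h ∧ AJ (i : IrrCharacter G) i = 2 * h := by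
    intro i hi
    have hiS : i ∉ S := fun h' => hi (Finset.mem_union_left _ h')
    obtain ⟨d1, d2⟩ := hdvd i hiS
    have h1 := hdiag' i hiS
    rw [hshape.rot_zero i hi, sub_zero] at h1
    have hz : ∀ l : ℕ, ¬ h ∣ l →
        contrib 2 (lowPair F.hM F.hmax.1.1) (i : IrrCharacter G) (i : IrrCharacter G) (F.rot l) = 0 := by
      have hsum : ∑ l ∈ rotIdx h,
          Complex.normSq (TameConfig.rotVal ζ h t wh w u i l) = 0 := by
        have h2 : ∑ l ∈ rotIdx h, TameConfig.rotVal ζ h t wh w u i l * conj (TameConfig.rotVal ζ h t wh w u i l) =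
            (TameConfig.rot h wh w u i i : ℂ) :=
          (Finset.sum_congr rfl fun l hl => (hcon i i l (Finset.mem_filter.1 hl).2).symm).trans (hrot i i)
        simp only [Complex.mul_conj] at h2
        have h3 := hshape.rot_zero i hi
        simp only [hR] at h3
        rw [h3, Int.cast_zero] at h2
        exact_mod_cast h2
      intro l hl
      have h3 : l % (2 * h) ∈ rotIdx h := Finset.mem_filter.2 ⟨Finset.mem_range.2 (Nat.mod_lt _ (by omega)),
        fun hd => hl ((Nat.dvd_mod_iff (dvd_mul_left h 2)).1 hd)⟩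
      rw [← F.rot_mod, hcon i i _ (Finset.mem_filter.1 h3).2, Complex.mul_conj,
        (Finset.sum_eq_zero_iff_of_nonneg fun x _ => Complex.normSq_nonneg _).1 hsum _ h3,
        Complex.ofReal_zero]
    have hle := F.le_height_of_contrib_zero hk (hmem i) (fun e0 => hiS ((hS i).2 e0)) hz
    obtain ⟨q1, q2, q3⟩ := hsplit d1 d2 (hpos i).1 (hpos i).2 (c := k) (by rw [h1, hk]; push_cast; ring) hle
    exact ⟨q1, by rw [q2, hk]; push_cast; ring, by rw [q3, hk]; push_cast; ring⟩
  have hl1 : ∑ i : ↥(Finset.univ.filter fun χ : IrrCharacter G => χ ∈ B), A₁ (i : IrrCharacter G) i =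
      4 * h * (blockRank 2 B : ℤ) := by
    refine Int.cast_injective (α := ℂ) ?_
    push_cast
    rw [blockRank_eq_sum_regInner F.hM (IsBlockUnion.of_isPBlock F.hmax.1.2.1),
      ← Finset.sum_coe_sort (Finset.univ.filter fun χ : IrrCharacter G => χ ∈ B), Finset.mul_sum]
    refine Finset.sum_congr rfl fun i _ => ?_
    rw [← hA₁c, contrib, F.card_cent, F.card_cP_center F.one_center, OneMemClass.coe_one,
      secSum_one_eq F.hM F.hmax (hmem i) (hmem i)]
    have hCG : Nat.card (CQ (Subgroup.zpowers (1 : G))) = Nat.card G := by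
      rw [show CQ (Subgroup.zpowers (1 : G)) = ⊤ from eq_top_iff.mpr fun x _ =>
        mem_cq_zpowers_iff.mpr (Commute.one_right x), Subgroup.card_top]
    have hG : (Nat.card G : ℂ) ≠ 0 := Nat.cast_ne_zero.2 Nat.card_pos.ne'
    rw [hCG]
    push_cast
    field_simp
  have hlJ : ∑ i : ↥(Finset.univ.filter fun χ : IrrCharacter G => χ ∈ B), AJ (i : IrrCharacter G) i =
      4 * h * (blockRank 2 (lowPair F.hM F.hmax.1.1 (F.rot h)).2 : ℤ) := by
    rw [Finset.sum_coe_sort (Finset.univ.filter fun χ : IrrCharacter G => χ ∈ B) (fun χ => AJ χ χ)]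
    have h1 := hAJ.trace
    push_cast at h1
    convert h1 using 2
  set r := (S ∪ (Ue ∪ Uo))ᶜ.card with hr
  refine ⟨r, R, fun i j : ↥(Finset.univ.filter fun χ : IrrCharacter G => χ ∈ B) => A₁ (i : IrrCharacter G) j,
    fun i j : ↥(Finset.univ.filter fun χ : IrrCharacter G => χ ∈ B) => AJ (i : IrrCharacter G) j, S, Ue, Uo,
    ⟨hshape, edge_of_central hk hA₁ S _ hS hnotS (fun i hi => ⟨(hU i hi).1, (hU i hi).2.1⟩)
      (fun i hi => ⟨(hX i hi).1, (hX i hi).2.1⟩),
    edge_of_central hk hAJ S _ hS hnotS (fun i hi => ⟨(hU i hi).1, (hU i hi).2.2⟩)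
      (fun i hi => ⟨(hX i hi).1, (hX i hi).2.2⟩), hl1, hlJ, fun a ha => ?_, fun a ha i hi hor => ?_, ?_⟩,
    fun i j => hA₁c _ _, fun i j => hAJc _ _, hS, fun i hi => (hU i hi).1, fun i hi => (hX i hi).1⟩
  · have h1 := hdiag a
    rw [if_pos ha, hshape.rotS a ha] at h1
    show A₁ (a : IrrCharacter G) a + AJ (a : IrrCharacter G) a = _
    linear_combination h1
  · refine hoff a i (fun e0 => ?_) hor
    subst e0
    rcases Finset.mem_union.1 hi with h' | h'
    · exact Finset.notMem_erase _ _ h'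
    · exact hnotS a (Finset.mem_union_left _ h') ha
  · have h1 := hshape.cardE
    have h2 := hshape.cardO
    have h3 : (S ∪ (Ue ∪ Uo)).card = 4 + (h - 1) := by
      rw [Finset.card_union_of_disjoint hshape.disjS, Finset.card_union_of_disjoint hshape.disjU, hshape.four]
      omega
    rw [← Finset.card_add_card_compl (S ∪ (Ue ∪ Uo)), h3]

end TFrame

end CfsgLib.Block.Tame
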