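import Cfsg.Agent.Lib.Block.Tame.TameRankThree

/-!
# Solvable groups have no tame 2-block with three Brauer characters

Fong–Reynolds does not lower the rank, and over an invariant character of the odd core the defect
group is a Sylow subgroup.
-/

open Finset MonoidAlgebra
open scoped ComplexConjugate

set_option autoImplicit false
set_option linter.unusedSectionVars false

namespace CfsgLib.Block.Tame

open Cfsg CfsgLib CfsgLib.Block CfsgLib.Block.Iso
open scoped Pair

universe u

variable {M : Ideal AlgInt} [M.IsMaximal]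

/-- Induction does not increase the rank. -/
theorem blockRank_le_of_indFun {p : ℕ} {G : Type u} [Group G] [Fintype G] {T : Subgroup G}
    {B : Set (IrrCharacter G)} {B' : Set (IrrCharacter T)}
    (h : ∀ χ ∈ B, ∃ ψ ∈ B', (χ : G → ℂ) = indFun T (ψ : T → ℂ)) :
    blockRank p B ≤ blockRank p B' := by
  classical
  let L : (T → ℂ) →ₗ[ℂ] (G → ℂ) :=
    { toFun := fun f => pRegularPart p (indFun T f)
      map_add' := fun f f' => funext fun g => by
        simp only [pRegularPart, Pi.add_apply]
        split_ifs
        · simp only [indFun, extendByZero, ← mul_add, ← Finset.sum_add_distrib]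
          congr 1
          refine Finset.sum_congr rfl fun x _ => ?_
          by_cases hx : x⁻¹ * g * x ∈ T
          · obtain ⟨t, ht⟩ : ∃ t : T, (t : G) = x⁻¹ * g * x := ⟨⟨_, hx⟩, rfl⟩
            simp only [← ht, Subtype.val_injective.extend_apply, Pi.add_apply]
          · rw [Function.extend_apply' _ _ _ (by rintro ⟨t, ht⟩; exact hx (ht ▸ t.2)),
              Function.extend_apply' _ _ _ (by rintro ⟨t, ht⟩; exact hx (ht ▸ t.2)),
              Function.extend_apply' _ _ _ (by rintro ⟨t, ht⟩; exact hx (ht ▸ t.2))]
            simp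
        · rw [add_zero]
      map_smul' := fun c f => funext fun g => by
        simp only [pRegularPart, RingHom.id_apply, Pi.smul_apply, smul_eq_mul]
        split_ifs
        · simp only [indFun, extendByZero, mul_left_comm c, Finset.mul_sum]
          refine Finset.sum_congr rfl fun x _ => ?_
          by_cases hx : x⁻¹ * g * x ∈ T
          · obtain ⟨t, ht⟩ : ∃ t : T, (t : G) = x⁻¹ * g * x := ⟨⟨_, hx⟩, rfl⟩
            simp only [← ht, Subtype.val_injective.extend_apply, Pi.smul_apply, smul_eq_mul]
          · rw [Function.extend_apply' _ _ _ (by rintro ⟨t, ht⟩; exact hx (ht ▸ t.2)),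
              Function.extend_apply' _ _ _ (by rintro ⟨t, ht⟩; exact hx (ht ▸ t.2))]
            simp
        · rw [mul_zero] }
  have hreg : ∀ f : T → ℂ, L (pRegularPart p f) = pRegularPart p (indFun T f) := fun f => funext fun g => by
    show pRegularPart p (indFun T (pRegularPart p f)) g = _
    simp only [pRegularPart]
    split_ifs with hg
    · simp only [indFun, extendByZero]
      congr 1
      refine Finset.sum_congr rfl fun x _ => ?_
      by_cases hx : x⁻¹ * g * x ∈ T
      · obtain ⟨t, ht⟩ : ∃ t : T, (t : G) = x⁻¹ * g * x := ⟨⟨_, hx⟩, rfl⟩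
        simp only [← ht, Subtype.val_injective.extend_apply]
        simp only [pRegularPart]
        rw [if_pos]
        show ¬ p ∣ orderOf t
        rw [← Subgroup.orderOf_coe, ht, show orderOf (x⁻¹ * g * x) = orderOf g by
          simpa using MulEquiv.orderOf_eq (MulAut.conj x⁻¹) g]
        exact hg
      · rw [Function.extend_apply' _ _ _ (by rintro ⟨t, ht⟩; exact hx (ht ▸ t.2)),
          Function.extend_apply' _ _ _ (by rintro ⟨t, ht⟩; exact hx (ht ▸ t.2))]
    · rfl
  refine le_trans (Submodule.finrank_mono ?_) (Submodule.finrank_map_le L _)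
  rw [Submodule.span_le]
  rintro _ ⟨χ, hχ, rfl⟩
  obtain ⟨ψ, hψ, he⟩ := h χ hχ
  exact ⟨_, Submodule.subset_span ⟨ψ, hψ, rfl⟩, (hreg _).trans (congrArg (pRegularPart p) he.symm)⟩

open scoped Classical in
/-- A solvable group has no such block. -/
theorem not_isSolvable_of_rank_three : ∀ (n : ℕ) (G : Type u) [Group G] [Fintype G] [DecidableEq G]
    [Fintype (IrrCharacter G)], Nat.card G ≤ n → IsPModular 2 M →
    ∀ B : Set (IrrCharacter G), IsPBlock M B → ∀ D : Subgroup G, IsDefectGroup 2 M B D →
      DihOrSD D → blockRank 2 B = 3 → ¬ Group.IsSolvable G := by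
  intro n
  induction n with
  | zero => intro G _ _ _ _ hn; exact absurd hn (by have := Nat.card_pos (α := G); omega)
  | succ n ih =>
    intro G _ _ _ _ hn hM B hB D hD hD' hl hsolv
    have hp : Fact (Nat.Prime 2) := ⟨Nat.prime_two⟩
    set N := pPrimeCore 2 G with hN
    have : N.Normal := Subgroup.sSup_normal _ fun _ h => h.1
    have hNp : ¬ 2 ∣ Nat.card N := CfsgLib.Coprime.pPrimeCore_not_dvd Nat.prime_two
    obtain ⟨χ, hχ⟩ := isPBlock_nonempty hB
    obtain ⟨θ, hθ⟩ := exists_constituent (N := N) χ
    have := Fintype.ofFinite (IrrCharacter N)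
    set b : Set (IrrCharacter N) := {θ} with hbd
    have hb : IsPBlock M b := Glauberman.singleton_isPBlock hM hNp θ
    let T : Subgroup G :=
      { carrier := {g | cjN g θ = θ}
        one_mem' := cjN_one θ
        mul_mem' := fun {g h} hg hh => by
          show cjN (g * h) θ = θ
          rw [← cjN_cjN, hh, hg]
        inv_mem' := fun {g} hg => by
          show cjN g⁻¹ θ = θ
          conv_lhs => rw [← hg, cjN_cjN, inv_mul_cancel, cjN_one] }
    have hT : ∀ g : G, g ∈ T ↔ cjN g '' b = b := fun g => by
      rw [hbd, Set.image_singleton, Set.singleton_eq_singleton_iff]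
      exact Iff.rfl
    have hps : IsPSolvable 2 G :=
      CfsgLib.PGroup.MaxPNilpotent.isPSolvable_of_solvable Nat.prime_two _ G rfl hsolv
    by_cases htop : T = ⊤
    · have hc := card_defectGroup_of_invariant hM hps hN
        (fun g => (htop ▸ Subgroup.mem_top g : g ∈ T)) hB hχ hθ hD
      obtain ⟨J, hJ⟩ := (rank_le_three hM hB hD hD').2 hl
      exact FusedInvol.not_isSolvable (S := Sylow.ofCard D hc) hJ hsolv
    have hNT : N ≤ T := by
      intro m hm
      show cjN m θ = θ
      refine Subtype.ext (funext fun x => ?_)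
      rw [cjN_apply]
      have h := Char.isClassFunction_irr θ x ⟨m⁻¹, inv_mem hm⟩
      refine Eq.trans (congrArg _ (Subtype.ext ?_)) h
      simp
    have hlt : Nat.card T < Nat.card G := by
      refine lt_of_le_of_ne (Nat.card_le_card_of_injective _ Subtype.val_injective) fun h => htop ?_
      exact Subgroup.eq_top_of_card_eq T h
    have := Fintype.ofFinite (IrrCharacter T)
    have := Fintype.ofFinite (N.subgroupOf T)
    obtain ⟨B', hB', hov, hind⟩ := fongReynolds_surjective hNT hM hb hT hB ⟨χ, hχ, θ, rfl, hθ⟩
    obtain ⟨C, hC, -, hirr, hmem⟩ := fongReynolds_block hNT hM hb hT hB' hov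
    obtain rfl := inducedBlock_unique hC hind
    set k := T.index.factorization 2
    have hmin : minDeg 2 C = k + minDeg 2 B' := by
      obtain ⟨ψ₁, hψ₁, he₁⟩ := exists_minDeg (p := 2) (isPBlock_nonempty hB')
      obtain ⟨χ₁, hχ₁, hf₁⟩ := exists_minDeg (p := 2) (isPBlock_nonempty hB)
      refine le_antisymm ?_ ?_
      · rw [← he₁, ← fongReynolds_degree hM (ψ := ψ₁) (χ := ⟨_, (hirr ψ₁ hψ₁).2⟩) rfl]
        exact minDeg_le ((hmem _).mpr ⟨ψ₁, hψ₁, rfl⟩)
      · obtain ⟨ψ₂, hψ₂, he₂⟩ := (hmem χ₁).mp hχ₁
        rw [← hf₁, fongReynolds_degree hM he₂]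
        exact Nat.add_le_add_left (minDeg_le hψ₂) k
    obtain ⟨E', hE'⟩ := exists_defectGroup hM hB'
    obtain ⟨E, hE, hDE⟩ := exists_defectGroup_ge hM hC hE'
    have hdef : blockDefect 2 C = blockDefect 2 B' := by
      have hTG : (Nat.card G).factorization 2 = k + (Nat.card T).factorization 2 := by
        rw [← T.index_mul_card, Nat.factorization_mul Subgroup.index_ne_zero_of_finite Nat.card_pos.ne',
          Finsupp.add_apply]
      show (Nat.card G).factorization 2 - minDeg 2 C = (Nat.card T).factorization 2 - minDeg 2 B'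
      omega
    have hDE' : E'.map T.subtype = E := Subgroup.eq_of_le_of_card_ge hDE (by
      rw [Subgroup.card_map_of_injective T.subtype_injective, defectGroup_card hM hB hE,
        defectGroup_card hM hB' hE', hdef])
    obtain ⟨c, hc⟩ := defectGroup_conj hM hB hE hD
    have hE'sh : DihOrSD E' := hD'.of_equiv
      ((Subgroup.equivMapOfInjective E' T.subtype T.subtype_injective).trans
        ((MulEquiv.subgroupCongr hDE').trans ((Subgroup.equivMapOfInjective E _
          (MulAut.conj c).injective).trans (MulEquiv.subgroupCongr hc))))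
    have h1 : blockRank 2 C ≤ blockRank 2 B' := blockRank_le_of_indFun fun φ hφ => (hmem φ).mp hφ
    have h2 := (rank_le_three hM hB' hE' hE'sh).1
    haveI := hsolv
    exact ih T (by omega) hM B' hB' E' hE' hE'sh (by omega) inferInstance

end CfsgLib.Block.Tame
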